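import Mathlib
import Cfsg.Prelude.Def_Solvable
import Cfsg.Agent.Lib.Cores
import Cfsg.Agent.Lib.PSolvable
import Cfsg.Agent.S0493
import Cfsg.Agent.S0494
import Cfsg.Agent.S0144
set_option linter.all false

/-!
# Finite groups without solvable normal subgroups, small cases (helper168)

* `Rad H` : the trivial subgroup is the only solvable normal subgroup of `H`;
* `rad_of_cores` : `O_2(H) = O_{2'}(H) = 1` implies `Rad H`;
* `sixty_le` : a finite non-solvable group has at least 60 elements;
* `simple_of_card_sixty`, `alt_five` : a non-solvable group of order 60 is `A₅`;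
* `perm_six` : a nontrivial group with `Rad` which embeds in `S₆` is `A₅`, `S₅`, `A₆` or `S₆`.
-/

set_option autoImplicit false

namespace Cfsg.Agent.H168.NoSolv

open Subgroup

/-- The trivial subgroup is the only solvable normal subgroup. -/
def Rad (H : Type*) [Group H] : Prop :=
  ∀ N : Subgroup H, N.Normal → Group.IsSolvable N → N = ⊥

theorem rad_of_cores {H : Type*} [Group H] [Finite H] (h1 : Cfsg.pPrimeCore 2 H = ⊥)
    (h2 : Cfsg.pCore 2 H = ⊥) : Rad H := by
  intro N hN hs
  have h2p : Fact (Nat.Prime 2) := ⟨Nat.prime_two⟩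
  by_contra hne
  have hnt : Nontrivial N := (Subgroup.nontrivial_iff_ne_bot N).2 hne
  rcases Cfsg.Agent.Lib.PSolvable.exists_core_ne_bot (G := N) 2
    (Cfsg.Agent.Lib.PSolvable.IsPSolvable_of_solvable 2) with h | h
  · apply h
    have h3 := Cfsg.Agent.Lib.Cores.map_subtype_pCore 2 hN
    rw [h2, inf_bot_eq, Subgroup.map_eq_bot_iff_of_injective _ N.subtype_injective] at h3
    exact h3
  · apply h
    have h3 := Cfsg.Agent.Lib.Cores.map_subtype_pPrimeCore 2 hN
    rw [h1, inf_bot_eq, Subgroup.map_eq_bot_iff_of_injective _ N.subtype_injective] at h3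
    exact h3

theorem Rad.congr {H K : Type*} [Group H] [Group K] (e : H ≃* K) (h : Rad H) : Rad K := by
  intro N hN hs
  have h1 := h (N.comap e.toMonoidHom) (hN.comap _) (by
    have e2 : (N.comap e.toMonoidHom) ≃* N := MulEquiv.ofBijective
      ((e.toMonoidHom.comp (N.comap e.toMonoidHom).subtype).codRestrict N (fun x => x.2))
      ⟨fun x y hxy => Subtype.ext (e.injective (congrArg Subtype.val hxy)), fun y => by
        refine ⟨⟨e.symm y.1, ?_⟩, ?_⟩
        · change e (e.symm y.1) ∈ N
          rw [e.apply_symm_apply]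
          exact y.2
        · exact Subtype.ext (e.apply_symm_apply y.1)⟩
    exact Group.isSolvable_of_isSolvable_injective (f := e2.toMonoidHom) e2.injective)
  rw [eq_bot_iff]
  intro x hx
  have h2 : e.symm x ∈ N.comap e.toMonoidHom := by
    change e (e.symm x) ∈ N
    rwa [e.apply_symm_apply]
  rw [h1, Subgroup.mem_bot] at h2
  rw [Subgroup.mem_bot, ← e.apply_symm_apply x, h2, map_one]

theorem Rad.not_solvable {H : Type*} [Group H] [Nontrivial H] (h : Rad H) :
    ¬ Group.IsSolvable H := by
  intro hs
  have h1 := h ⊤ inferInstance (Group.isSolvable_of_isSolvable_injective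
    (f := (⊤ : Subgroup H).subtype) Subtype.val_injective)
  exact top_ne_bot h1

theorem solvable_of_injective {H K : Type*} [Group H] [Group K] (f : H →* K)
    (hf : Function.Injective f) (h : Group.IsSolvable K) : Group.IsSolvable H :=
  Group.isSolvable_of_isSolvable_injective hf

/-- A group of order `2 ^ a * 3 ^ b` is solvable. -/
theorem solvable_of_two_three {H : Type*} [Group H] [Finite H] {a b : ℕ}
    (h : Nat.card H = 2 ^ a * 3 ^ b) : Group.IsSolvable H :=
  Cfsg.Agent.S0144.result 2 3 a b Nat.prime_two Nat.prime_three h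

/-- A finite non-solvable group has at least sixty elements. -/
theorem sixty_le {H : Type*} [Group H] [Finite H] (h : ¬ Group.IsSolvable H) :
    60 ≤ Nat.card H := by
  obtain ⟨n, hn⟩ : ∃ n, Nat.card H = n := ⟨_, rfl⟩
  induction n using Nat.strong_induction_on generalizing H with
  | _ n ih =>
    by_contra hlt
    push Not at hlt
    have hnt : Nontrivial H := by
      by_contra hc
      rw [not_nontrivial_iff_subsingleton] at hc
      exact h inferInstance
    by_cases hs : IsSimpleGroup H
    · have hc : ¬ IsCyclic H := by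
        intro hc
        apply h
        exact Group.isSolvable_of_comm (fun a b => (IsCyclic.isMulCommutative (α := H)).is_comm.comm a b)
      have := Cfsg.Agent.S0493.result hc (by omega)
      omega
    · have h1 : ∃ N : Subgroup H, N.Normal ∧ N ≠ ⊥ ∧ N ≠ ⊤ := by
        by_contra hcon
        apply hs
        refine ⟨fun N hN => ?_⟩
        by_contra h2
        push Not at h2
        exact hcon ⟨N, hN, h2.1, h2.2⟩
      obtain ⟨N, hN, hb, ht⟩ := h1
      have hci := N.card_mul_index
      have hq : Nat.card (H ⧸ N) = N.index := rfl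
      have hN1 : 1 < Nat.card N := by
        rw [Subgroup.one_lt_card_iff_ne_bot]
        exact hb
      have hi1 : 1 < N.index := by
        have h3 : N.index ≠ 1 := fun h => ht (Subgroup.index_eq_one.1 h)
        have h4 : N.index ≠ 0 := Subgroup.index_ne_zero_of_finite
        omega
      have hlt1 : Nat.card N < n := by nlinarith
      have hlt2 : Nat.card (H ⧸ N) < n := by
        rw [hq]; nlinarith
      have hsN : Group.IsSolvable N := by
        by_contra hcon
        have := ih _ hlt1 hcon rfl
        omega
      have hsQ : Group.IsSolvable (H ⧸ N) := by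
        by_contra hcon
        have := ih _ hlt2 hcon rfl
        omega
      exact h ((Group.isSolvable_iff_subgroup_quotient (H := N)).2 ⟨hsN, hsQ⟩)

/-- A non-solvable group of order 60 is simple. -/
theorem simple_of_card_sixty {H : Type*} [Group H] [Finite H] (h : ¬ Group.IsSolvable H)
    (hc : Nat.card H = 60) : IsSimpleGroup H := by
  have hnt : Nontrivial H := by
    rw [← Finite.one_lt_card_iff_nontrivial, hc]
    norm_num
  refine ⟨fun N hN => ?_⟩
  by_contra h2
  push Not at h2
  have hci := N.card_mul_index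
  have hN1 : 1 < Nat.card N := by
    rw [Subgroup.one_lt_card_iff_ne_bot]
    exact h2.1
  have hi1 : 1 < N.index := by
    have h3 : N.index ≠ 1 := fun h => h2.2 (Subgroup.index_eq_one.1 h)
    have h4 : N.index ≠ 0 := Subgroup.index_ne_zero_of_finite
    omega
  have hsN : Group.IsSolvable N := by
    by_contra hcon
    have := sixty_le hcon
    nlinarith
  have hsQ : Group.IsSolvable (H ⧸ N) := by
    by_contra hcon
    have h5 := sixty_le hcon
    have hq : Nat.card (H ⧸ N) = N.index := rfl
    rw [hq] at h5
    nlinarith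
  exact h ((Group.isSolvable_iff_subgroup_quotient (H := N)).2 ⟨hsN, hsQ⟩)

/-- A non-solvable group of order 60 is `A₅`. -/
theorem alt_five {H : Type*} [Group H] [Finite H] (h : ¬ Group.IsSolvable H)
    (hc : Nat.card H = 60) : Nonempty (H ≃* alternatingGroup (Fin 5)) := by
  have := simple_of_card_sixty h hc
  exact Cfsg.Agent.S0494.result hc

/-! ### Permutations -/

/-- The restriction of a permutation group to an invariant subset. -/
noncomputable def restr {X H : Type*} [Group H] (φ : H →* Equiv.Perm X) (p : X → Prop)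
    (hp : ∀ h y, p (φ h y) ↔ p y) : H →* Equiv.Perm {y : X // p y} where
  toFun h := (φ h).subtypePerm (hp h)
  map_one' := by
    ext y
    change (φ 1) (y : X) = y
    rw [map_one]
    rfl
  map_mul' a b := by
    ext y
    change (φ (a * b)) (y : X) = (φ a) ((φ b) (y : X))
    rw [map_mul]
    rfl

theorem restr_apply {X H : Type*} [Group H] (φ : H →* Equiv.Perm X) (p : X → Prop)
    (hp : ∀ h y, p (φ h y) ↔ p y) (h : H) (y : {y : X // p y}) :
    ((restr φ p hp h y : {y : X // p y}) : X) = φ h y := rfl

theorem sign_restr {X H : Type*} [Fintype X] [DecidableEq X] [Group H] (φ : H →* Equiv.Perm X)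
    (p : X → Prop) [DecidablePred p] (hp : ∀ h y, p (φ h y) ↔ p y) (h : H)
    (hfix : ∀ y, ¬ p y → φ h y = y) :
    Equiv.Perm.sign (restr φ p hp h) = Equiv.Perm.sign (φ h) :=
  Equiv.Perm.sign_subtypePerm (φ h) (hp h) fun x hx => by
    by_contra hc
    exact hx (hfix x hc)

/-- The permutations of a set with at most `m` elements embed in `Perm (Fin m)`. -/
theorem exists_perm_fin {X : Type*} [Finite X] {m : ℕ} (h : Nat.card X ≤ m) :
    ∃ f : Equiv.Perm X →* Equiv.Perm (Fin m), Function.Injective f := by
  have := Fintype.ofFinite X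
  rw [Nat.card_eq_fintype_card] at h
  have h1 : Fintype.card X ≤ Fintype.card (Fin m) := by rwa [Fintype.card_fin]
  obtain ⟨e⟩ := Function.Embedding.nonempty_of_card_le h1
  exact ⟨Equiv.Perm.viaEmbeddingHom e, Equiv.Perm.viaEmbeddingHom_injective e⟩

/-- A subgroup of index `n + 1` of a group which acts faithfully on its cosets: the action of the
subgroup on the other cosets. -/
theorem exists_coset_hom {G : Type*} [Group G] [Finite G] (K : Subgroup G)
    (φ : G →* Equiv.Perm (G ⧸ K)) (hφ : φ = MulAction.toPermHom G (G ⧸ K))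
    (hinj : ∀ g ∈ K, φ g = 1 → g = 1) :
    ∃ ψ : K →* Equiv.Perm {y : G ⧸ K // y ≠ ((1 : G) : G ⧸ K)}, Function.Injective ψ ∧
      ∀ [Fintype (G ⧸ K)] [DecidableEq (G ⧸ K)] [Fintype {y : G ⧸ K // y ≠ ((1 : G) : G ⧸ K)}]
        (k : K), Equiv.Perm.sign (ψ k) = Equiv.Perm.sign (φ k) := by
  classical
  have hfix : ∀ k : K, φ (k : G) ((1 : G) : G ⧸ K) = ((1 : G) : G ⧸ K) := by
    intro k
    rw [hφ]
    change (k : G) • ((1 : G) : G ⧸ K) = ((1 : G) : G ⧸ K)
    rw [MulAction.Quotient.smul_coe, smul_eq_mul, mul_one]
    exact QuotientGroup.eq.2 (by simp)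
  have hp : ∀ (h : K) (y : G ⧸ K), (φ.comp K.subtype) h y ≠ ((1 : G) : G ⧸ K) ↔
      y ≠ ((1 : G) : G ⧸ K) := by
    intro h y
    rw [not_iff_not]
    constructor
    · intro h1
      apply (φ (h : G)).injective
      rw [hfix h]
      exact h1
    · intro h1
      rw [h1]
      exact hfix h
  refine ⟨restr (φ.comp K.subtype) (fun y => y ≠ ((1 : G) : G ⧸ K)) hp, ?_, ?_⟩
  · rw [injective_iff_map_eq_one]
    intro k hk
    apply Subtype.ext
    apply hinj k k.2
    ext y
    by_cases hy : y = ((1 : G) : G ⧸ K)
    · rw [hy, hfix k]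
      rfl
    · have h1 := congrArg Subtype.val (DFunLike.congr_fun hk ⟨y, hy⟩)
      exact h1
  · intro _ _ _ k
    have h1 := sign_restr (φ.comp K.subtype) (fun y => y ≠ ((1 : G) : G ⧸ K)) hp k (by
      intro y hy
      rw [not_not] at hy
      rw [hy]
      exact hfix k)
    have h2 : Equiv.Perm.sign ((φ.comp K.subtype) k) = Equiv.Perm.sign (φ k) := rfl
    rw [h2] at h1
    convert h1

end Cfsg.Agent.H168.NoSolv
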