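import Mathlib
import Cfsg.Agent.H168.PermSix
import Cfsg.Agent.S0989
import Cfsg.Agent.S0990
import Cfsg.Agent.S0998
import Cfsg.Agent.S0253
import Cfsg.Agent.SmallSimple.BurnsideNC
set_option linter.all false

/-!
# Subgroups of `A₈` without solvable normal subgroups (helper168)

`main` : a group of even order without solvable normal subgroups which embeds in `A₈` is `Aₙ`
(`5 ≤ n ≤ 8`), `S₅`, `S₆` or `PSL(2,7)`.
-/

set_option autoImplicit false

namespace Cfsg.Agent.H168.NoSolv

open Subgroup Equiv
open scoped Pointwise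

theorem card_normalizer_seven (R : Subgroup (Perm (Fin 8))) (hR : Nat.card R = 7) :
    Nat.card (normalizer (R : Set (Perm (Fin 8)))) = 42 ∧
      Nat.card (normalizer ((R.subgroupOf (alternatingGroup (Fin 8)) :
        Subgroup (alternatingGroup (Fin 8))) : Set (alternatingGroup (Fin 8)))) = 21 := by
  have h7 : Fact (Nat.Prime 7) := ⟨by norm_num⟩
  obtain ⟨P, hP⟩ : ∃ P : Sylow 7 (Perm (Fin 8)), (P : Subgroup (Perm (Fin 8))) = R := by
    have hp : IsPGroup 7 R := IsPGroup.of_card (n := 1) (by rw [hR]; rfl)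
    obtain ⟨P, hP⟩ := hp.exists_le_sylow
    have h1 := Cfsg.Agent.S0989.card_sylow 7 (by simp) P
    exact ⟨P, (Subgroup.eq_of_le_of_card_ge hP (by rw [h1, hR])).symm⟩
  have h1 := Cfsg.Agent.S0989.result 7 (by simp) P
  have h2 := (Cfsg.Agent.S0990.result (by simp) 7 (by norm_num) P).2
  rw [h1] at h2
  rw [← hP]
  exact ⟨h1, by omega⟩

theorem card_normalizer_seven_alt (R : Subgroup (alternatingGroup (Fin 8)))
    (hR : Nat.card R = 7) :
    Nat.card (normalizer (R : Set (alternatingGroup (Fin 8)))) = 21 := by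
  have h1 : (R.map (alternatingGroup (Fin 8)).subtype).subgroupOf (alternatingGroup (Fin 8)) =
      R := Subgroup.comap_map_eq_self_of_injective (Subgroup.subtype_injective _) R
  have h2 := (card_normalizer_seven (R.map (alternatingGroup (Fin 8)).subtype) (by
    rw [Subgroup.card_map_of_injective (Subgroup.subtype_injective _), hR])).2
  rwa [h1] at h2

theorem card_normalizer_dvd {G K : Type*} [Group G] [Group K] [Finite K] (ι : G →* K)
    (hι : Function.Injective ι) (P : Subgroup G) :
    Nat.card (normalizer (P : Set G)) ∣ Nat.card (normalizer ((P.map ι : Subgroup K) : Set K)) := by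
  let f : normalizer (P : Set G) →* normalizer ((P.map ι : Subgroup K) : Set K) :=
    (ι.comp (normalizer (P : Set G)).subtype).codRestrict _ (fun x => by
      have h := Subgroup.le_normalizer_map (H := P) ι
      exact h ⟨x.1, x.2, rfl⟩)
  have hf : Function.Injective f := fun a b hab =>
    Subtype.ext (hι (congrArg Subtype.val hab))
  exact Subgroup.card_dvd_of_injective f hf

/-- An element of order 5 and an element of order 7 of `S₈` do not commute. -/
theorem not_commute (y z : Perm (Fin 8)) (hy : orderOf y = 7) (hz : orderOf z = 5) :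
    y * z ≠ z * y := by
  intro h
  have h1 := (card_normalizer_seven (zpowers y) (by rw [Nat.card_zpowers, hy])).1
  have h2 : z ∈ normalizer ((zpowers y : Subgroup (Perm (Fin 8))) : Set (Perm (Fin 8))) := by
    apply Cfsg.Agent.SmallSimple.BurnsideNC.centralizer_le_normalizer
    rw [mem_centralizer_iff]
    rintro w ⟨i, rfl⟩
    exact (Commute.zpow_left h i).eq
  have h3 := Subgroup.orderOf_dvd_natCard _ h2
  rw [h1, hz] at h3
  omega

/-- The Frattini argument for orders. -/
theorem card_dvd_of_frattini {H : Type*} [Group H] [Finite H] {p : ℕ} [Fact p.Prime]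
    (K : Subgroup H) (hK : K.Normal) (P : Sylow p H) (hP : (P : Subgroup H) ≤ K) :
    Nat.card H ∣ Nat.card K * Nat.card (normalizer (P : Set H)) := by
  have h := Sylow.normalizer_sup_eq_top' P hP
  have h2 := Cfsg.Agent.Lib.Cores.card_sup_dvd K (normalizer (P : Set H)) hK
  rw [sup_comm] at h2
  have h3 : Nat.card (normalizer (P : Set H) ⊔ K : Subgroup H) = Nat.card H := by
    rw [h, Subgroup.card_top]
  rwa [h3] at h2

/-- A group whose order is a divisor of `2 ^ a * 3 ^ b` is solvable. -/
theorem solvable_of_dvd {H : Type*} [Group H] [Finite H] {p q a b : ℕ} (hp : p.Prime)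
    (hq : q.Prime) (h : Nat.card H ∣ p ^ a * q ^ b) : Group.IsSolvable H := by
  obtain ⟨x, y, hx, hy, hxy⟩ := (Nat.dvd_mul).1 h
  obtain ⟨i, -, rfl⟩ := (Nat.dvd_prime_pow hp).1 hx
  obtain ⟨j, -, rfl⟩ := (Nat.dvd_prime_pow hq).1 hy
  exact Cfsg.Agent.S0144.result p q i j hp hq hxy.symm

/-- A normal subgroup whose order is divisible by `p`, where `p ^ 2` does not divide the order of
the group, contains a Sylow `p`-subgroup. -/
theorem exists_sylow_le {H : Type*} [Group H] [Finite H] {p : ℕ} [hp : Fact p.Prime]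
    (K : Subgroup H) (h1 : p ∣ Nat.card K) (h2 : ¬ p ^ 2 ∣ Nat.card H) :
    ∃ P : Sylow p H, (P : Subgroup H) ≤ K ∧ Nat.card P = p := by
  obtain ⟨x, hx⟩ := exists_prime_orderOf_dvd_card' (G := K) p h1
  have hxo : orderOf (x : H) = p := by rw [← hx]; exact Subgroup.orderOf_coe x
  have hc : Nat.card (zpowers (x : H)) = p := by rw [Nat.card_zpowers, hxo]
  have hpg : IsPGroup p (zpowers (x : H)) := IsPGroup.of_card (n := 1) (by rw [hc, pow_one])
  obtain ⟨P, hP⟩ := hpg.exists_le_sylow
  have hPc : Nat.card P = p := by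
    obtain ⟨n, hn⟩ := IsPGroup.iff_card.1 P.isPGroup'
    have h3 : Nat.card P ∣ Nat.card H := Subgroup.card_subgroup_dvd_card _
    rw [hn] at h3
    have h4 : n ≤ 1 := by
      by_contra hlt
      exact h2 ((pow_dvd_pow p (by omega : 2 ≤ n)).trans h3)
    have h5 : Nat.card (zpowers (x : H)) ∣ Nat.card P := Subgroup.card_dvd_of_le hP
    rw [hc, hn] at h5
    rcases Nat.eq_zero_or_pos n with h0 | h0
    · rw [h0, pow_zero] at h5
      exact absurd (Nat.dvd_one.1 h5) hp.out.one_lt.ne'
    · have : n = 1 := by omega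
      rw [hn, this, pow_one]
  have hPe : zpowers (x : H) = (P : Subgroup H) :=
    Subgroup.eq_of_le_of_card_ge hP (by rw [hc, hPc])
  refine ⟨P, ?_, hPc⟩
  rw [← hPe, zpowers_le]
  exact x.2

/-- The simplicity of groups of order `21 * 2 ^ n`. -/
theorem simple_of_card {H : Type*} [Group H] [Finite H] [Nontrivial H] (hR : Rad H) {n : ℕ}
    (hcard : Nat.card H = 21 * 2 ^ n)
    (hN : ∀ P : Sylow 7 H, Nat.card (normalizer (P : Set H)) = 21) : IsSimpleGroup H := by
  have h7 : Fact (Nat.Prime 7) := ⟨by norm_num⟩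
  refine ⟨fun K hK => ?_⟩
  by_contra hcon
  push Not at hcon
  have hs : ¬ Group.IsSolvable K := fun h => hcon.1 (hR K hK h)
  have hd : Nat.card K ∣ 21 * 2 ^ n := by
    rw [← hcard]; exact Subgroup.card_subgroup_dvd_card K
  have h7K : 7 ∣ Nat.card K := by
    by_contra h
    have h1 : Nat.Coprime (Nat.card K) 7 := ((Nat.Prime.coprime_iff_not_dvd (by norm_num)).2 h).symm
    have h2 : Nat.card K ∣ 2 ^ n * 3 ^ 1 := by
      apply h1.dvd_of_dvd_mul_left
      have : 7 * (2 ^ n * 3 ^ 1) = 21 * 2 ^ n := by ring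
      rwa [this]
    exact hs (solvable_of_dvd Nat.prime_two Nat.prime_three h2)
  have h3K : 3 ∣ Nat.card K := by
    by_contra h
    have h1 : Nat.Coprime (Nat.card K) 3 := ((Nat.Prime.coprime_iff_not_dvd (by norm_num)).2 h).symm
    have h2 : Nat.card K ∣ 2 ^ n * 7 ^ 1 := by
      apply h1.dvd_of_dvd_mul_left
      have : 3 * (2 ^ n * 7 ^ 1) = 21 * 2 ^ n := by ring
      rwa [this]
    exact hs (solvable_of_dvd Nat.prime_two (by norm_num) h2)
  have h49 : ¬ 7 ^ 2 ∣ Nat.card H := by
    rw [hcard]
    intro h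
    have h1 : 7 ∣ 3 * 2 ^ n := by
      obtain ⟨c, hc⟩ := h
      exact ⟨c, by omega⟩
    have h2 : Nat.Coprime 7 (3 * 2 ^ n) :=
      Nat.Coprime.mul_right (by norm_num) (Nat.Coprime.pow_right _ (by norm_num))
    have := Nat.Coprime.eq_one_of_dvd h2 h1
    omega
  obtain ⟨P, hP, -⟩ := exists_sylow_le K h7K h49
  have hfr := card_dvd_of_frattini K hK P hP
  rw [hN P, hcard] at hfr
  have h2n : 2 ^ n ∣ Nat.card K := by
    have : 21 * 2 ^ n ∣ 21 * Nat.card K := by rw [mul_comm 21 (Nat.card K)]; exact hfr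
    exact Nat.dvd_of_mul_dvd_mul_left (by norm_num) this
  have h21 : 21 ∣ Nat.card K := Nat.Coprime.mul_dvd_of_dvd_of_dvd
    (m := 3) (n := 7) (by norm_num) h3K h7K
  have hall : 21 * 2 ^ n ∣ Nat.card K := Nat.Coprime.mul_dvd_of_dvd_of_dvd
    (Nat.Coprime.pow_right _ (by norm_num)) h21 h2n
  apply hcon.2
  apply Subgroup.eq_top_of_card_eq
  rw [hcard]
  exact Nat.dvd_antisymm hd hall

theorem perm_eq_one {X : Type*} [Finite X] (h : Nat.card X ≤ 4) (σ : Perm X) (hσ : σ ^ 5 = 1) :
    σ = 1 := by
  have h1 : orderOf σ ∣ 5 := orderOf_dvd_of_pow_eq_one hσ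
  have h2 : orderOf σ ∣ Nat.card (Perm X) := orderOf_dvd_natCard σ
  rw [Nat.card_perm] at h2
  have h3 : orderOf σ ∣ Nat.factorial 4 := h2.trans (Nat.factorial_dvd_factorial h)
  have h4 : Nat.factorial 4 = 24 := by decide
  rw [h4] at h3
  have h5 : orderOf σ ∣ Nat.gcd 5 24 := Nat.dvd_gcd h1 h3
  have h6 : Nat.gcd 5 24 = 1 := by norm_num
  rw [h6] at h5
  exact orderOf_eq_one_iff.1 (Nat.dvd_one.1 h5)

/-- A transitive permutation group of degree 8 with an element of order 5 has order divisible by 7. -/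
theorem seven_dvd (G : Subgroup (Perm (Fin 8))) (ht : MulAction.IsPretransitive G (Fin 8))
    (c : Perm (Fin 8)) (hcG : c ∈ G) (hc5 : orderOf c = 5) : 7 ∣ Nat.card G := by
  classical
  have hcyc : c.IsCycle := Equiv.Perm.isCycle_of_prime_order' (by rw [hc5]; norm_num)
    (by rw [hc5, Fintype.card_fin]; norm_num)
  have hc1 : c ^ 5 = 1 := by rw [← hc5]; exact pow_orderOf_eq_one c
  have hcne : c ≠ 1 := by
    intro h
    rw [h, orderOf_one] at hc5
    omega
  have hprim : MulAction.IsPreprimitive G (Fin 8) := by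
    refine { isTrivialBlock_of_isBlock := ?_ }
    intro B hB
    by_contra hnt
    have hne : B.Nonempty := by
      by_contra h
      rw [Set.not_nonempty_iff_eq_empty] at h
      apply hnt
      left
      rw [h]
      exact Set.subsingleton_empty
    have hm := hB.ncard_block_mul_ncard_orbit_eq hne
    rw [Nat.card_fin] at hm
    have h1 : B.ncard ≠ 1 := by
      intro h
      apply hnt
      left
      obtain ⟨a, ha⟩ := Set.ncard_eq_one.1 h
      rw [ha]
      exact Set.subsingleton_singleton
    have h8 : B.ncard ≠ 8 := by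
      intro h
      apply hnt
      right
      rw [Set.eq_univ_iff_ncard, h, Nat.card_fin]
    have hdiv : B.ncard ∣ 8 := Dvd.intro _ hm
    have hB4 : B.ncard = 2 ∨ B.ncard = 4 := by
      have hle := Nat.le_of_dvd (by norm_num) hdiv
      interval_cases h : B.ncard <;> omega
    have hO4 : (MulAction.orbit G B).ncard ≤ 4 := by
      rcases hB4 with h | h <;> rw [h] at hm <;> omega
    -- `c` fixes all translates
    let c' : G := ⟨c, hcG⟩
    have hc'1 : c' ^ 5 = 1 := Subtype.ext hc1
    have hfixB : ∀ g : G, c' • (g • B) = g • B := by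
      intro g
      have h2 : (MulAction.toPerm c' : Perm (MulAction.orbit G B)) = 1 := by
        apply perm_eq_one
        · rw [Nat.card_coe_set_eq]
          exact hO4
        · have h3 : (MulAction.toPermHom G (MulAction.orbit G B) c') ^ 5 = 1 := by
            rw [← map_pow, hc'1, map_one]
          exact h3
      have h3 := DFunLike.congr_fun h2 ⟨g • B, MulAction.mem_orbit B g⟩
      exact congrArg Subtype.val h3
    apply hcne
    ext x
    obtain ⟨b, hb⟩ := hne
    obtain ⟨g, hg⟩ := ht.exists_smul_eq b x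
    have hx : x ∈ g • B := ⟨b, hb, hg⟩
    have hp : ∀ y, y ∈ g • B ↔ c y ∈ g • B := by
      intro y
      constructor
      · intro hy
        have h4 : c' • y ∈ c' • (g • B) := Set.smul_mem_smul_set hy
        rw [hfixB] at h4
        exact h4
      · intro hy
        have h4 : c' • y ∈ c' • (g • B) := by rw [hfixB]; exact hy
        exact (Set.smul_mem_smul_set_iff).1 h4
    have h5 : c.subtypePerm (p := fun y => y ∈ g • B) (fun y => (hp y).symm) = 1 := by
      apply perm_eq_one
      · rw [Nat.card_coe_set_eq]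
        have : (g • B).ncard = B.ncard := Set.ncard_smul_set g B
        rw [this]
        omega
      · ext y
        have h6 : (c ^ 5) (y : Fin 8) = y := by rw [hc1]; rfl
        rw [Equiv.Perm.subtypePerm_pow]
        simp only [Equiv.Perm.subtypePerm_apply, Equiv.Perm.coe_one, id_eq]
        rw [h6]
    have h6 := congrArg Subtype.val (DFunLike.congr_fun h5 ⟨x, hx⟩)
    exact congrArg Fin.val h6
  have hsup : c.support.card = 5 := by rw [← hcyc.orderOf, hc5]
  have h2 : MulAction.IsMultiplyPretransitive G (Fin 8) 2 := by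
    apply hprim.is_two_pretransitive (s := ((c.support : Set (Fin 8)))ᶜ) (n := 2)
    · rw [Set.ncard_compl, Set.ncard_coe_finset, hsup, Nat.card_fin]
    · rw [Nat.card_fin]; norm_num
    · exact Equiv.Perm.isPretransitive_of_isCycle_mem hcyc hcG
  have h3 := h2.index_of_fixingSubgroup_mul (s := {0, 1}) (Set.ncard_pair (by decide))
  rw [Nat.card_fin] at h3
  have h4 : (fixingSubgroup G ({0, 1} : Set (Fin 8))).index = 56 := by
    have h5 : Nat.factorial (8 - 2) = 720 := by decide
    have h6 : Nat.factorial 8 = 40320 := by decide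
    rw [h5, h6] at h3
    omega
  have h5 := (fixingSubgroup G ({0, 1} : Set (Fin 8))).index_dvd_card
  rw [h4] at h5
  omega

theorem card_orbit_dvd {G X : Type*} [Group G] [MulAction G X] (x : X) :
    Nat.card (MulAction.orbit G x) ∣ Nat.card G := by
  rw [Nat.card_coe_set_eq, ← MulAction.index_stabilizer]
  exact Subgroup.index_dvd_card _

/-- The case of an order prime to 7. -/
theorem case_five {H : Type*} [Group H] [Nontrivial H] (hR : Rad H)
    (ι : H →* Perm (Fin 8)) (hι : Function.Injective ι) (h7 : ¬ 7 ∣ Nat.card H)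
    (h5 : 5 ∣ Nat.card H) :
    Nonempty (H ≃* alternatingGroup (Fin 5)) ∨ Nonempty (H ≃* Equiv.Perm (Fin 5)) ∨
      Nonempty (H ≃* alternatingGroup (Fin 6)) ∨ Nonempty (H ≃* Equiv.Perm (Fin 6)) := by
  classical
  have hfin : Finite H := Finite.of_injective _ hι
  have hF5 : Fact (Nat.Prime 5) := ⟨by norm_num⟩
  obtain ⟨c, hc⟩ := exists_prime_orderOf_dvd_card' (G := H) 5 h5
  have hσ : orderOf (ι c) = 5 := by rw [orderOf_injective ι hι, hc]
  have hcyc : (ι c).IsCycle := Equiv.Perm.isCycle_of_prime_order' (by rw [hσ]; norm_num)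
    (by rw [hσ, Fintype.card_fin]; norm_num)
  have hsup : (ι c).support.card = 5 := by rw [← hcyc.orderOf, hσ]
  obtain ⟨a, ha⟩ : ∃ a, a ∈ (ι c).support := by
    rw [← Finset.Nonempty, ← Finset.card_pos, hsup]
    norm_num
  let _ : MulAction H (Fin 8) := MulAction.compHom _ ι
  have hsm : ∀ (h : H) (y : Fin 8), h • y = ι h y := fun _ _ => rfl
  have hsub : ∀ y ∈ (ι c).support, y ∈ MulAction.orbit H a := by
    intro y hy
    rw [Equiv.Perm.mem_support] at ha hy
    obtain ⟨i, hi⟩ := hcyc.exists_zpow_eq ha hy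
    refine ⟨c ^ i, ?_⟩
    change ι (c ^ i) a = y
    rw [map_zpow, hi]
  have hO5 : 5 ≤ Nat.card (MulAction.orbit H a) := by
    have h1 : ((ι c).support : Set (Fin 8)) ⊆ MulAction.orbit H a := fun y hy => hsub y hy
    have h2 := Set.ncard_le_ncard h1
    rw [Set.ncard_coe_finset, hsup] at h2
    rw [Nat.card_coe_set_eq]
    exact h2
  have hO8 : Nat.card (MulAction.orbit H a) ≤ 8 := by
    have h1 := Nat.card_le_card_of_injective _ (Subtype.val_injective
      (p := fun x => x ∈ MulAction.orbit H a))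
    rwa [Nat.card_fin] at h1
  have hOd := card_orbit_dvd (G := H) a
  have hO7 : Nat.card (MulAction.orbit H a) ≠ 7 := by
    intro h
    rw [h] at hOd
    exact h7 hOd
  have hO8' : Nat.card (MulAction.orbit H a) ≠ 8 := by
    intro h
    have huniv : MulAction.orbit H a = Set.univ := by
      rw [Set.eq_univ_iff_ncard, ← Nat.card_coe_set_eq, h, Nat.card_fin]
    have ht : MulAction.IsPretransitive ι.range (Fin 8) := by
      have key : ∀ x : Fin 8, ∃ g : H, ι g a = x := by
        intro x
        have : x ∈ MulAction.orbit H a := by rw [huniv]; exact Set.mem_univ x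
        exact this
      refine ⟨fun x y => ?_⟩
      obtain ⟨g, hg⟩ := key x
      obtain ⟨g', hg'⟩ := key y
      refine ⟨⟨ι (g' * g⁻¹), ⟨_, rfl⟩⟩, ?_⟩
      change ι (g' * g⁻¹) x = y
      rw [← hg, ← hg', ← Equiv.Perm.mul_apply, ← map_mul]
      congr 2
      group
    have h1 := seven_dvd ι.range ht (ι c) ⟨c, rfl⟩ hσ
    apply h7
    rw [Nat.card_congr (MonoidHom.ofInjective hι).toEquiv]
    exact h1
  have hO6 : Nat.card (MulAction.orbit H a) ≤ 6 := by omega
  -- restriction to the orbit
  have hp : ∀ (h : H) (y : Fin 8), ι h y ∈ MulAction.orbit H a ↔ y ∈ MulAction.orbit H a := by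
    intro h y
    constructor
    · rintro ⟨g, hg⟩
      refine ⟨h⁻¹ * g, ?_⟩
      change (h⁻¹ * g) • a = y
      rw [mul_smul]
      change g • a = h • y at hg
      rw [hg, inv_smul_smul]
    · rintro ⟨g, hg⟩
      refine ⟨h * g, ?_⟩
      change (h * g) • a = h • y
      rw [mul_smul]
      change g • a = y at hg
      rw [hg]
  have hp' : ∀ (h : H) (y : Fin 8), (¬ ι h y ∈ MulAction.orbit H a) ↔
      ¬ y ∈ MulAction.orbit H a := fun h y => not_congr (hp h y)
  set ρ := restr ι (fun y => y ∈ MulAction.orbit H a) hp with hρ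
  have hker : ρ.ker = ⊥ := by
    apply hR _ inferInstance
    let ρ' : ρ.ker →* Perm {y : Fin 8 // ¬ y ∈ MulAction.orbit H a} :=
      restr (ι.comp ρ.ker.subtype) (fun y => ¬ y ∈ MulAction.orbit H a) (fun h y => hp' h y)
    have hinj : Function.Injective ρ' := by
      rw [injective_iff_map_eq_one]
      intro k hk
      apply Subtype.ext
      apply hι
      rw [Subgroup.coe_one, map_one]
      ext y
      by_cases hy : y ∈ MulAction.orbit H a
      · have h1 : ρ k = 1 := k.2
        have h2 := congrArg Subtype.val (DFunLike.congr_fun h1 ⟨y, hy⟩)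
        exact congrArg Fin.val h2
      · have h2 := congrArg Subtype.val (DFunLike.congr_fun hk ⟨y, hy⟩)
        exact congrArg Fin.val h2
    have hcd : Nat.card ρ.ker ∣ Nat.card (Perm {y : Fin 8 // ¬ y ∈ MulAction.orbit H a}) :=
      Subgroup.card_dvd_of_injective ρ' hinj
    have hcc : Nat.card {y : Fin 8 // ¬ y ∈ MulAction.orbit H a} ≤ 3 := by
      have h1 : Nat.card {y : Fin 8 // ¬ y ∈ MulAction.orbit H a} =
        ((MulAction.orbit H a)ᶜ : Set (Fin 8)).ncard := by
        rw [← Nat.card_coe_set_eq]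
        rfl
      rw [h1, Set.ncard_compl, Nat.card_fin, ← Nat.card_coe_set_eq]
      omega
    rw [Nat.card_perm] at hcd
    have h6 : Nat.card ρ.ker ∣ 2 ^ 1 * 3 ^ 1 := by
      have h3 := Nat.factorial_dvd_factorial hcc
      have h4 : Nat.factorial 3 = 2 ^ 1 * 3 ^ 1 := by decide
      rw [h4] at h3
      exact hcd.trans h3
    exact solvable_of_dvd Nat.prime_two Nat.prime_three h6
  obtain ⟨f, hf⟩ := exists_perm_fin hO6
  exact perm_six hR (f.comp ρ) (hf.comp ((MonoidHom.ker_eq_bot_iff ρ).1 hker))

theorem card_alt_eight : Nat.card (alternatingGroup (Fin 8)) = 20160 := by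
  rw [nat_card_alternatingGroup, Nat.card_fin]
  rfl

theorem eq_of_dvd_960 {n : ℕ} (h : n ∣ 960) (h1 : n % 7 = 1) :
    n = 1 ∨ n = 8 ∨ n = 15 ∨ n = 64 ∨ n = 120 ∨ n = 960 := by
  have h2 : n ∈ (Nat.divisors 960).filter (fun m => m % 7 = 1) :=
    Finset.mem_filter.2 ⟨Nat.mem_divisors.2 ⟨h, by norm_num⟩, h1⟩
  have h3 : (Nat.divisors 960).filter (fun m => m % 7 = 1) = {1, 8, 15, 64, 120, 960} := by
    decide +kernel
  rw [h3] at h2
  simpa using h2

/-- The case of a self-normalizing Sylow 7-subgroup does not occur. -/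
theorem no_self_normalizing {H : Type*} [Group H] [Finite H] (hR : Rad H)
    (heven : Even (Nat.card H)) (ι : H →* alternatingGroup (Fin 8)) (hι : Function.Injective ι)
    (P : Sylow 7 H) (hP : Nat.card P = 7) (hN : Nat.card (normalizer (P : Set H)) = 7) :
    False := by
  have hF7 : Fact (Nat.Prime 7) := ⟨by norm_num⟩
  have hF5 : Fact (Nat.Prime 5) := ⟨by norm_num⟩
  have hd : Nat.card H ∣ 20160 := by
    rw [← card_alt_eight]
    exact Subgroup.card_dvd_of_injective ι hι
  have hNP : (P : Subgroup H) = normalizer (P : Set H) :=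
    Subgroup.eq_of_le_of_card_ge Subgroup.le_normalizer (by rw [hN, hP])
  have hcyc : IsCyclic P := isCyclic_of_prime_card hP
  have hNC : normalizer (P : Set H) ≤ centralizer (P : Set H) := by
    rw [← hNP]
    intro x hx
    rw [mem_centralizer_iff]
    intro y hy
    have h1 := (IsCyclic.isMulCommutative (α := P)).is_comm.comm ⟨y, hy⟩ ⟨x, hx⟩
    exact congrArg Subtype.val h1
  set K : Subgroup H := (MonoidHom.transferSylow P hNC).ker with hK
  have hcomp := MonoidHom.ker_transferSylow_isComplement' P hNC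
  have hcK : Nat.card K * 7 = Nat.card H := by
    have := hcomp.card_mul_card
    rw [hP] at this
    exact this
  have h7K : ¬ 7 ∣ Nat.card K := MonoidHom.not_dvd_card_ker_transferSylow P hNC
  have hKs : ¬ Group.IsSolvable K := by
    intro h
    have h1 := hR K inferInstance h
    rw [h1, Subgroup.card_bot] at hcK
    rw [← hcK] at heven
    revert heven
    decide
  have hKd : Nat.card K ∣ 20160 := (Subgroup.card_subgroup_dvd_card K).trans hd
  have hK7 : Nat.card K ∣ 2880 := by
    have h1 : Nat.Coprime (Nat.card K) 7 :=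
      ((Nat.Prime.coprime_iff_not_dvd (by norm_num)).2 h7K).symm
    apply h1.dvd_of_dvd_mul_left
    exact hKd
  have h5K : 5 ∣ Nat.card K := by
    by_contra h
    have h1 : Nat.Coprime (Nat.card K) 5 :=
      ((Nat.Prime.coprime_iff_not_dvd (by norm_num)).2 h).symm
    have h2 : Nat.card K ∣ 2 ^ 6 * 3 ^ 2 := by
      apply h1.dvd_of_dvd_mul_left
      exact hK7
    exact hKs (solvable_of_dvd Nat.prime_two Nat.prime_three h2)
  have h25 : ¬ 5 ^ 2 ∣ Nat.card H := by
    intro h
    have := h.trans hd
    omega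
  obtain ⟨Q, hQK, hQ⟩ := exists_sylow_le K h5K h25
  have hfr := card_dvd_of_frattini K inferInstance Q hQK
  rw [← hcK] at hfr
  have hKpos : 0 < Nat.card K := Nat.card_pos
  have h7N : 7 ∣ Nat.card (normalizer (Q : Set H)) := Nat.dvd_of_mul_dvd_mul_left hKpos hfr
  have hNe := Cfsg.Agent.SmallSimple.BurnsideNC.card_normalizer_eq (Q : Subgroup H)
  have hrel := Cfsg.Agent.SmallSimple.BurnsideNC.relIndex_dvd_of_card_eq_prime Q hQ
  have h7C : 7 ∣ Nat.card (centralizer (Q : Set H)) := by
    have h8 : 7 ∣ Nat.card (centralizer (Q : Set H)) *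
        (centralizer (Q : Set H)).relIndex (normalizer (Q : Set H)) := by
      exact hNe ▸ h7N
    rcases (Nat.Prime.dvd_mul (by norm_num)).1 h8 with h9 | h9
    · exact h9
    · exfalso
      have := Nat.le_of_dvd (by norm_num) (h9.trans hrel)
      omega
  obtain ⟨y, hy⟩ := exists_prime_orderOf_dvd_card' (G := centralizer (Q : Set H)) 7 h7C
  obtain ⟨z, hz⟩ := exists_prime_orderOf_dvd_card' (G := Q) 5 (by rw [hQ])
  have hyz : (z : H) * (y : H) = (y : H) * (z : H) := mem_centralizer_iff.1 y.2 z z.2
  have hy' : orderOf (y : H) = 7 := by rw [← hy]; exact Subgroup.orderOf_coe y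
  have hz' : orderOf (z : H) = 5 := (Subgroup.orderOf_coe z).trans hz
  let κ : H →* Perm (Fin 8) := (alternatingGroup (Fin 8)).subtype.comp ι
  have hκ : Function.Injective κ := (Subgroup.subtype_injective _).comp hι
  apply not_commute (κ y) (κ z)
  · rw [orderOf_injective κ hκ, hy']
  · rw [orderOf_injective κ hκ, hz']
  · rw [← map_mul, ← map_mul, hyz]

/-- The case of an order divisible by 7. -/
theorem case_seven {H : Type*} [Group H] [Nontrivial H] (hR : Rad H)
    (heven : Even (Nat.card H)) (ι : H →* alternatingGroup (Fin 8)) (hι : Function.Injective ι)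
    (h7 : 7 ∣ Nat.card H) :
    Nonempty (H ≃* alternatingGroup (Fin 7)) ∨ Nonempty (H ≃* alternatingGroup (Fin 8)) ∨
      (∃ (F : Type) (_ : Field F) (_ : Fintype F), Fintype.card F = 7 ∧
        Nonempty (H ≃* Matrix.ProjectiveSpecialLinearGroup (Fin 2) F)) := by
  have hfin : Finite H := Finite.of_injective _ hι
  have hF7 : Fact (Nat.Prime 7) := ⟨by norm_num⟩
  have hd : Nat.card H ∣ 20160 := by
    rw [← card_alt_eight]
    exact Subgroup.card_dvd_of_injective ι hι
  have h49 : ¬ 7 ^ 2 ∣ Nat.card H := by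
    intro h
    have := h.trans hd
    omega
  obtain ⟨P, -, hP⟩ := exists_sylow_le (p := 7) (⊤ : Subgroup H) (by
    rw [Subgroup.card_top]; exact h7) h49
  have hNd : Nat.card (normalizer (P : Set H)) ∣ 21 := by
    have h1 := card_normalizer_dvd ι hι (P : Subgroup H)
    rwa [card_normalizer_seven_alt _ (by rw [Subgroup.card_map_of_injective hι, hP])] at h1
  have hNm : 7 ∣ Nat.card (normalizer (P : Set H)) := by
    have h1 := Subgroup.card_dvd_of_le (Subgroup.le_normalizer (H := (P : Subgroup H)))
    rw [hP] at h1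
    exact h1
  have hN21 : Nat.card (normalizer (P : Set H)) = 21 := by
    have h1 := Nat.le_of_dvd (by norm_num) hNd
    by_contra hne
    have h8 : Nat.card (normalizer (P : Set H)) = 7 := by
      obtain ⟨k, hk⟩ := hNm
      rw [hk] at hNd hne h1 ⊢
      have : k = 1 ∨ k = 2 := by
        have h0 : 0 < Nat.card (normalizer (P : Set H)) := Nat.card_pos
        omega
      rcases this with rfl | rfl
      · rfl
      · revert hNd
        decide
    exact no_self_normalizing hR heven ι hι P hP h8
  have hn := Cfsg.Agent.SmallSimple.BurnsideNC.card_sylow_mul_card_normalizer P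
  rw [hN21] at hn
  have hNall : ∀ Q : Sylow 7 H, Nat.card (normalizer (Q : Set H)) = 21 := by
    intro Q
    have h1 := Cfsg.Agent.SmallSimple.BurnsideNC.card_sylow_mul_card_normalizer Q
    rw [← hn] at h1
    have hpos : 0 < Nat.card (Sylow 7 H) := Nat.card_pos
    exact Nat.eq_of_mul_eq_mul_left hpos h1
  have hmod := card_sylow_modEq_one 7 H
  have hmod' : Nat.card (Sylow 7 H) % 7 = 1 := hmod
  have hdn : Nat.card (Sylow 7 H) ∣ 960 := by
    have h1 : Nat.card (Sylow 7 H) * 21 ∣ 960 * 21 := by rw [hn]; exact hd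
    exact Nat.dvd_of_mul_dvd_mul_right (by norm_num) h1
  have hsimple : ∀ k : ℕ, k ≠ 0 → Nat.card H = 21 * 2 ^ k →
      (∃ (F : Type) (_ : Field F) (_ : Fintype F), Fintype.card F = 7 ∧
        Nonempty (H ≃* Matrix.ProjectiveSpecialLinearGroup (Fin 2) F)) := by
    intro k hk hc
    have hs := simple_of_card hR hc hNall
    have hnc : ¬ IsCyclic H := by
      intro h
      exact hR.not_solvable
        (Group.isSolvable_of_comm (fun a b => (IsCyclic.isMulCommutative (α := H)).is_comm.comm a b))
    rcases Cfsg.Agent.S0998.result hnc 3 2 7 k (by norm_num) (by norm_num) (by norm_num)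
      (by norm_num) (by norm_num) (by norm_num) (by rw [hc]) with
      ⟨F, i1, i2, hF, ⟨e⟩⟩ | h
    · exfalso
      obtain ⟨f⟩ := Cfsg.Agent.S0253.result hF
      have h1 := Nat.card_congr (e.trans f).toEquiv
      have h2 : Nat.card (alternatingGroup (Fin 5)) = 60 := by
        rw [nat_card_alternatingGroup, Nat.card_fin]
        rfl
      rw [h2, hc] at h1
      omega
    · exact h
  rcases eq_of_dvd_960 hdn hmod' with h | h | h | h | h | h
  · exfalso
    rw [h] at hn
    rw [← hn] at heven
    revert heven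
    decide
  · right; right
    exact hsimple 3 (by norm_num) (by rw [← hn, h]; norm_num)
  · exfalso
    rw [h] at hn
    rw [← hn] at heven
    revert heven
    decide
  · right; right
    exact hsimple 6 (by norm_num) (by rw [← hn, h]; norm_num)
  · left
    have hc : Nat.card H = 2520 := by rw [← hn, h]
    have hcr : Nat.card ι.range = 2520 := by
      rw [← hc]
      exact (Nat.card_congr (MonoidHom.ofInjective hι).toEquiv).symm
    have hir : ι.range.index = 8 := by
      have h1 := ι.range.card_mul_index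
      rw [hcr, card_alt_eight] at h1
      omega
    obtain ⟨e⟩ := index_eight_alt ι.range hir
    exact ⟨(MonoidHom.ofInjective hι).trans e⟩
  · right; left
    have hc : Nat.card H = 20160 := by rw [← hn, h]
    exact ⟨MulEquiv.ofBijective ι (bijective_of_card hι (by rw [hc, card_alt_eight]))⟩

/-- **Subgroups of `A₈` of even order without solvable normal subgroups.** -/
theorem main {H : Type*} [Group H] [Nontrivial H] (hR : Rad H)
    (heven : Even (Nat.card H)) (ι : H →* alternatingGroup (Fin 8)) (hι : Function.Injective ι) :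
    (∃ n : ℕ, 5 ≤ n ∧ n ≤ 8 ∧ Nonempty (H ≃* alternatingGroup (Fin n))) ∨
      Nonempty (H ≃* Perm (Fin 5)) ∨ Nonempty (H ≃* Perm (Fin 6)) ∨
      (∃ (F : Type) (_ : Field F) (_ : Fintype F), Fintype.card F = 7 ∧
        Nonempty (H ≃* Matrix.ProjectiveSpecialLinearGroup (Fin 2) F)) := by
  have hfin : Finite H := Finite.of_injective _ hι
  have hd : Nat.card H ∣ 20160 := by
    rw [← card_alt_eight]
    exact Subgroup.card_dvd_of_injective ι hι
  by_cases h7 : 7 ∣ Nat.card H
  · rcases case_seven hR heven ι hι h7 with h | h | h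
    · exact Or.inl ⟨7, by norm_num, by norm_num, h⟩
    · exact Or.inl ⟨8, by norm_num, by norm_num, h⟩
    · exact Or.inr (Or.inr (Or.inr h))
  · have h71 : Nat.Coprime (Nat.card H) 7 :=
      ((Nat.Prime.coprime_iff_not_dvd (by norm_num)).2 h7).symm
    have hH7 : Nat.card H ∣ 2880 := by
      apply h71.dvd_of_dvd_mul_left
      exact hd
    by_cases h5 : 5 ∣ Nat.card H
    · let κ : H →* Perm (Fin 8) := (alternatingGroup (Fin 8)).subtype.comp ι
      have hκ : Function.Injective κ := (Subgroup.subtype_injective _).comp hι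
      rcases case_five hR κ hκ h7 h5 with h | h | h | h
      · exact Or.inl ⟨5, by norm_num, by norm_num, h⟩
      · exact Or.inr (Or.inl h)
      · exact Or.inl ⟨6, by norm_num, by norm_num, h⟩
      · exact Or.inr (Or.inr (Or.inl h))
    · exfalso
      have h51 : Nat.Coprime (Nat.card H) 5 :=
        ((Nat.Prime.coprime_iff_not_dvd (by norm_num)).2 h5).symm
      have h2 : Nat.card H ∣ 2 ^ 6 * 3 ^ 2 := by
        apply h51.dvd_of_dvd_mul_left
        exact hH7
      exact hR.not_solvable (solvable_of_dvd Nat.prime_two Nat.prime_three h2)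

end Cfsg.Agent.H168.NoSolv
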