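import Cfsg.Agent.H77.E4Poly_m3
import Cfsg.Agent.H493.PGE8
import Cfsg.Agent.H493.EigFast
import Cfsg.Agent.H493.PGE7_m3
import Cfsg.Agent.H129.TorusUntw
import Cfsg.Agent.BpExc.EmbInst
import Cfsg.Agent.H378.SmallTor_m3
import Cfsg.Agent.H91.E6Fix
import Cfsg.Agent.H129.RealE7_m3
import Cfsg.Agent.S1066
import Cfsg.Agent.S1067
import Cfsg.Agent.FastGrp
import Cfsg.Agent.Prune
set_option linter.all false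

section
prune_inst 0x7ffdfffffff8ffffffff7ffffedfdffdd9fbdfffefdffdfbffe8f1ff3f9f230ac9e7fbbdefe052ff1fd7e2b611b87853ff7eefffee6fdc7ffffdfff45ffbee4ff5f7bf8931de8cbe0f320fff83f07f8e7f3fffffffffffffffffffffffffffbeffffffffffff

-- part: H168/ExcE8
section
prune_inst 0x20000000700000000800001202002260420001020020000170e008060d8f536180442101fad00a0081d49ee47078c00811000119023000002000ba00411b00a084076ce217341f0cde0007c0f807100000000000000000000000000000041000000000000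
set_option linter.all false
private noncomputable def lq2656c60453 {T : Sort _} (f :
    type_of% (@_root_.Matrix.vecCons.{0}) →
    type_of% (@_root_.Matrix.vecEmpty.{0}) →
    type_of% (@_root_.List.cons.{0}) →
    type_of% (@_root_.Prod.mk.{0, 0}) →
    type_of% (@_root_.List.nil.{0}) → T) : T :=
  f (@_root_.Matrix.vecCons.{0}) (@_root_.Matrix.vecEmpty.{0}) (@_root_.List.cons.{0}) (@_root_.Prod.mk.{0, 0}) (@_root_.List.nil.{0})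

/-!
# Adjacency of the prime divisors of each cyclotomic value, type E8 (helper168)
-/

set_option autoImplicit false

namespace Cfsg.Agent.H168.ExcE8

open Cfsg.Agent.H129.WData Cfsg.Agent.ChevalleyStructure.CoxeterGeomTypes Cfsg.Agent.Nodes.RGDChev
open Cfsg.Lie Cfsg.Lie.ChevalleyDatum
open Cfsg.Agent.H493 Cfsg.Agent.H493.PGTorus Cfsg.Agent.H493.PGCyc Cfsg.Agent.H493.PGE8
open Cfsg.Agent.H168.ExcAdj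

universe u

/-- partial products of an element with characteristic polynomial divisible by the cyclotomic polynomial 1 -/
def ch1 : List (Fin 8 × Mat 8) := []

theorem ch1_ok : ChainOK Am ch1 := by decide +kernel

/-- coefficients of the eigenvector -/
def Ve1 : Fin 1 → Fin 8 → ℤ := ![![1, 0, 0, 0, 0, 0, 0, 0]]

/-- the functional -/
def Ue1 : Fin 8 → ℤ := ![1, 0, 0, 0, 0, 0, 0, 0]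

theorem eig_1 : EigOK (hd ch1) c1 Ve1 Ue1 := by decide +kernel

theorem rel1 {F : Type u} [Field F] [Finite F] {r s : ℕ} (hr : r.Prime) (hs : s.Prime) (hrs : r ≠ s)
    (h1 : phiC c1 (Nat.card F) 1 r) (h2 : phiC c1 (Nat.card F) 1 s) :
    PG.Rel ↥(chevE8.group F) r s := by
  have := finW
  exact rel_of_eig hp CoxeterMatrix.E₈.toCoxeterSystem H129.TorusChar.invC_E8 one_ne_zero
    (chain_rep hp CoxeterMatrix.E₈.toCoxeterSystem hA ch1_ok) eig_1 eig_1 hr hs hrs h1.1 h2.1 h1.2 h2.2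

/-- partial products of an element with characteristic polynomial divisible by the cyclotomic polynomial 2 -/
def ch2 : List (Fin 8 × Mat 8) := (beta% delta% lq2656c60453 fun a b c d e =>
 (c (d 0 (a (a (-1)<|a 0<|a 0<|a 0<|a 0<|a 0<|a 0<|a 0<|b)<|a (a 0<|a 1<|a 0<|a 0<|a 0<|a 0<|a 0<|a 0<|b)<|a (a 1<|a 0<|a 1<|a 0<|a 0<|a 0<|a 0<|a 0<|b)<|a (a 0<|a 0<|a 0<|a 1<|a 0<|a 0<|a 0<|a 0<|b)<|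
 a (a 0<|a 0<|a 0<|a 0<|a 1<|a 0<|a 0<|a 0<|b)<|a (a 0<|a 0<|a 0<|a 0<|a 0<|a 1<|a 0<|a 0<|b)<|a (a 0<|a 0<|a 0<|a 0<|a 0<|a 0<|a 1<|a 0<|b)<|a (a 0<|a 0<|a 0<|a 0<|a 0<|a 0<|a 0<|a 1<|b)<|b))<|e))

theorem ch2_ok : ChainOK Am ch2 :=
  H129.ChainF.ok H129.ChainF.i8 H129.ChainF.m8 (H129.ChainF.c8 <| H129.ChainF.nil) (by decide +kernel)

/-- coefficients of the eigenvector -/
def Ve2 : Fin 1 → Fin 8 → ℤ := ![![1, 0, 0, 0, 0, 0, 0, 0]]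

/-- the functional -/
def Ue2 : Fin 8 → ℤ := ![1, 0, 0, 0, 0, 0, 0, 0]

theorem eig_2 : EigOK (hd ch2) c2 Ve2 Ue2 :=
  H493.EigF.ok (H493.EigF.hT H493.EigF.t8) H493.EigF.r1 (H493.EigF.mc H493.EigF.r8 <| H493.EigF.m0) H493.EigF.r8 (by decide +kernel)

theorem rel2 {F : Type u} [Field F] [Finite F] {r s : ℕ} (hr : r.Prime) (hs : s.Prime) (hrs : r ≠ s)
    (h1 : phiC c2 (Nat.card F) 1 r) (h2 : phiC c2 (Nat.card F) 1 s) :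
    PG.Rel ↥(chevE8.group F) r s := by
  have := finW
  exact rel_of_eig hp CoxeterMatrix.E₈.toCoxeterSystem H129.TorusChar.invC_E8 one_ne_zero
    (chain_rep hp CoxeterMatrix.E₈.toCoxeterSystem hA ch2_ok) eig_2 eig_2 hr hs hrs h1.1 h2.1 h1.2 h2.2

/-- partial products of an element with characteristic polynomial divisible by the cyclotomic polynomial 3 -/
def ch3 : List (Fin 8 × Mat 8) := (beta% delta% lq2656c60453 fun a b c d e =>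
 (c (d 0 (a (a 0<|a 0<|a 1<|a 0<|a 0<|a 0<|a 0<|a 0<|b)<|a (a 0<|a 1<|a 0<|a 0<|a 0<|a 0<|a 0<|a 0<|b)<|a (a (-1)<|a 0<|a (-1)<|a 0<|a 0<|a 0<|a 0<|a 0<|b)<|a (a 1<|a 0<|a 1<|a 1<|a 0<|a 0<|a 0<|a 0<|b)<|
 a (a 0<|a 0<|a 0<|a 0<|a 1<|a 0<|a 0<|a 0<|b)<|a (a 0<|a 0<|a 0<|a 0<|a 0<|a 1<|a 0<|a 0<|b)<|a (a 0<|a 0<|a 0<|a 0<|a 0<|a 0<|a 1<|a 0<|b)<|a (a 0<|a 0<|a 0<|a 0<|a 0<|a 0<|a 0<|a 1<|b)<|b))<|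
 c (d 2 (a (a 1<|a 0<|a 1<|a 0<|a 0<|a 0<|a 0<|a 0<|b)<|a (a 0<|a 1<|a 0<|a 0<|a 0<|a 0<|a 0<|a 0<|b)<|a (a 0<|a 0<|a (-1)<|a 0<|a 0<|a 0<|a 0<|a 0<|b)<|a (a 0<|a 0<|a 1<|a 1<|a 0<|a 0<|a 0<|a 0<|b)<|
 a (a 0<|a 0<|a 0<|a 0<|a 1<|a 0<|a 0<|a 0<|b)<|a (a 0<|a 0<|a 0<|a 0<|a 0<|a 1<|a 0<|a 0<|b)<|a (a 0<|a 0<|a 0<|a 0<|a 0<|a 0<|a 1<|a 0<|b)<|a (a 0<|a 0<|a 0<|a 0<|a 0<|a 0<|a 0<|a 1<|b)<|b))<|e))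

theorem ch3_ok : ChainOK Am ch3 :=
  H129.ChainF.ok H129.ChainF.i8 H129.ChainF.m8 (H129.ChainF.c8 <| H129.ChainF.c8 <| H129.ChainF.nil) (by decide +kernel)

/-- coefficients of the eigenvector -/
def Ve3 : Fin 2 → Fin 8 → ℤ := (beta% delta% lq2656c60453 fun a b _ _ _ =>
 (a (a (-1)<|a 0<|a 0<|a 0<|a 0<|a 0<|a 0<|a 0<|b)<|a (a 0<|a 0<|a 1<|a 0<|a 0<|a 0<|a 0<|a 0<|b)<|b))

/-- the functional -/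
def Ue3 : Fin 8 → ℤ := ![-1, 0, 0, 0, 0, 0, 0, 0]

theorem eig_3 : EigOK (hd ch3) c3 Ve3 Ue3 :=
  H493.EigF.ok (H493.EigF.hT H493.EigF.t8) H493.EigF.r2 (H493.EigF.mc H493.EigF.r8 <| H493.EigF.mc H493.EigF.r8 <| H493.EigF.m0) H493.EigF.r8 (by decide +kernel)

theorem rel3 {F : Type u} [Field F] [Finite F] {r s : ℕ} (hr : r.Prime) (hs : s.Prime) (hrs : r ≠ s)
    (h1 : phiC c3 (Nat.card F) 1 r) (h2 : phiC c3 (Nat.card F) 1 s) :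
    PG.Rel ↥(chevE8.group F) r s := by
  have := finW
  exact rel_of_eig hp CoxeterMatrix.E₈.toCoxeterSystem H129.TorusChar.invC_E8 one_ne_zero
    (chain_rep hp CoxeterMatrix.E₈.toCoxeterSystem hA ch3_ok) eig_3 eig_3 hr hs hrs h1.1 h2.1 h1.2 h2.2

/-- partial products of an element with characteristic polynomial divisible by the cyclotomic polynomial 4 -/
def ch4 : List (Fin 8 × Mat 8) := (beta% delta% lq2656c60453 fun a b c d e =>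
 (c (d 0 (a (a 0<|a 0<|a 1<|a 0<|a 0<|a 0<|a 0<|a 0<|b)<|a (a 1<|a 1<|a 1<|a 1<|a 0<|a 0<|a 0<|a 0<|b)<|a (a 0<|a 0<|a 0<|a 1<|a 0<|a 0<|a 0<|a 0<|b)<|a (a (-1)<|a 0<|a (-1)<|a (-1)<|a 0<|a 0<|a 0<|a 0<|b)<|
 a (a 1<|a 0<|a 1<|a 1<|a 1<|a 0<|a 0<|a 0<|b)<|a (a 0<|a 0<|a 0<|a 0<|a 0<|a 1<|a 0<|a 0<|b)<|a (a 0<|a 0<|a 0<|a 0<|a 0<|a 0<|a 1<|a 0<|b)<|a (a 0<|a 0<|a 0<|a 0<|a 0<|a 0<|a 0<|a 1<|b)<|b))<|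
 c (d 2 (a (a 1<|a 0<|a 1<|a 0<|a 0<|a 0<|a 0<|a 0<|b)<|a (a 0<|a 1<|a 1<|a 1<|a 0<|a 0<|a 0<|a 0<|b)<|a (a 0<|a 0<|a 0<|a 1<|a 0<|a 0<|a 0<|a 0<|b)<|a (a 0<|a 0<|a (-1)<|a (-1)<|a 0<|a 0<|a 0<|a 0<|b)<|
 a (a 0<|a 0<|a 1<|a 1<|a 1<|a 0<|a 0<|a 0<|b)<|a (a 0<|a 0<|a 0<|a 0<|a 0<|a 1<|a 0<|a 0<|b)<|a (a 0<|a 0<|a 0<|a 0<|a 0<|a 0<|a 1<|a 0<|b)<|a (a 0<|a 0<|a 0<|a 0<|a 0<|a 0<|a 0<|a 1<|b)<|b))<|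
 c (d 3 (a (a 1<|a 0<|a 0<|a 0<|a 0<|a 0<|a 0<|a 0<|b)<|a (a 0<|a 1<|a 0<|a 1<|a 0<|a 0<|a 0<|a 0<|b)<|a (a 0<|a 0<|a 1<|a 1<|a 0<|a 0<|a 0<|a 0<|b)<|a (a 0<|a 0<|a 0<|a (-1)<|a 0<|a 0<|a 0<|a 0<|b)<|
 a (a 0<|a 0<|a 0<|a 1<|a 1<|a 0<|a 0<|a 0<|b)<|a (a 0<|a 0<|a 0<|a 0<|a 0<|a 1<|a 0<|a 0<|b)<|a (a 0<|a 0<|a 0<|a 0<|a 0<|a 0<|a 1<|a 0<|b)<|a (a 0<|a 0<|a 0<|a 0<|a 0<|a 0<|a 0<|a 1<|b)<|b))<|e))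

theorem ch4_ok : ChainOK Am ch4 :=
  H129.ChainF.ok H129.ChainF.i8 H129.ChainF.m8 (H129.ChainF.c8 <| H129.ChainF.c8 <| H129.ChainF.c8 <| H129.ChainF.nil) (by decide +kernel)

/-- coefficients of the eigenvector -/
def Ve4 : Fin 2 → Fin 8 → ℤ := (beta% delta% lq2656c60453 fun a b _ _ _ =>
 (a (a 0<|a 0<|a 1<|a 1<|a 0<|a 0<|a 0<|a 0<|b)<|a (a 1<|a 0<|a 1<|a 0<|a 0<|a 0<|a 0<|a 0<|b)<|b))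

/-- the functional -/
def Ue4 : Fin 8 → ℤ := ![-1, 0, 1, 0, 0, 0, 0, 0]

theorem eig_4 : EigOK (hd ch4) c4 Ve4 Ue4 :=
  H493.EigF.ok (H493.EigF.hT H493.EigF.t8) H493.EigF.r2 (H493.EigF.mc H493.EigF.r8 <| H493.EigF.mc H493.EigF.r8 <| H493.EigF.m0) H493.EigF.r8 (by decide +kernel)

theorem rel4 {F : Type u} [Field F] [Finite F] {r s : ℕ} (hr : r.Prime) (hs : s.Prime) (hrs : r ≠ s)
    (h1 : phiC c4 (Nat.card F) 1 r) (h2 : phiC c4 (Nat.card F) 1 s) :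
    PG.Rel ↥(chevE8.group F) r s := by
  have := finW
  exact rel_of_eig hp CoxeterMatrix.E₈.toCoxeterSystem H129.TorusChar.invC_E8 one_ne_zero
    (chain_rep hp CoxeterMatrix.E₈.toCoxeterSystem hA ch4_ok) eig_4 eig_4 hr hs hrs h1.1 h2.1 h1.2 h2.2

/-- partial products of an element with characteristic polynomial divisible by the cyclotomic polynomial 5 -/
def ch5 : List (Fin 8 × Mat 8) := (beta% delta% lq2656c60453 fun a b c d e =>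
 (c (d 0 (a (a 0<|a 0<|a 1<|a 0<|a 0<|a 0<|a 0<|a 0<|b)<|a (a 1<|a 0<|a 1<|a 1<|a 0<|a 0<|a 0<|a 0<|b)<|a (a 0<|a 1<|a 0<|a 1<|a 0<|a 0<|a 0<|a 0<|b)<|a (a (-1)<|a (-1)<|a (-1)<|a (-1)<|a 0<|a 0<|a 0<|a 0<|b)<|
 a (a 1<|a 1<|a 1<|a 1<|a 1<|a 0<|a 0<|a 0<|b)<|a (a 0<|a 0<|a 0<|a 0<|a 0<|a 1<|a 0<|a 0<|b)<|a (a 0<|a 0<|a 0<|a 0<|a 0<|a 0<|a 1<|a 0<|b)<|a (a 0<|a 0<|a 0<|a 0<|a 0<|a 0<|a 0<|a 1<|b)<|b))<|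
 c (d 1 (a (a 1<|a 0<|a 1<|a 0<|a 0<|a 0<|a 0<|a 0<|b)<|a (a 0<|a 0<|a 1<|a 1<|a 0<|a 0<|a 0<|a 0<|b)<|a (a 0<|a 1<|a 0<|a 1<|a 0<|a 0<|a 0<|a 0<|b)<|a (a 0<|a (-1)<|a (-1)<|a (-1)<|a 0<|a 0<|a 0<|a 0<|b)<|
 a (a 0<|a 1<|a 1<|a 1<|a 1<|a 0<|a 0<|a 0<|b)<|a (a 0<|a 0<|a 0<|a 0<|a 0<|a 1<|a 0<|a 0<|b)<|a (a 0<|a 0<|a 0<|a 0<|a 0<|a 0<|a 1<|a 0<|b)<|a (a 0<|a 0<|a 0<|a 0<|a 0<|a 0<|a 0<|a 1<|b)<|b))<|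
 c (d 2 (a (a 1<|a 0<|a 1<|a 0<|a 0<|a 0<|a 0<|a 0<|b)<|a (a 0<|a 1<|a 1<|a 1<|a 0<|a 0<|a 0<|a 0<|b)<|a (a 0<|a 0<|a 0<|a 1<|a 0<|a 0<|a 0<|a 0<|b)<|a (a 0<|a 0<|a (-1)<|a (-1)<|a 0<|a 0<|a 0<|a 0<|b)<|
 a (a 0<|a 0<|a 1<|a 1<|a 1<|a 0<|a 0<|a 0<|b)<|a (a 0<|a 0<|a 0<|a 0<|a 0<|a 1<|a 0<|a 0<|b)<|a (a 0<|a 0<|a 0<|a 0<|a 0<|a 0<|a 1<|a 0<|b)<|a (a 0<|a 0<|a 0<|a 0<|a 0<|a 0<|a 0<|a 1<|b)<|b))<|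
 c (d 3 (a (a 1<|a 0<|a 0<|a 0<|a 0<|a 0<|a 0<|a 0<|b)<|a (a 0<|a 1<|a 0<|a 1<|a 0<|a 0<|a 0<|a 0<|b)<|a (a 0<|a 0<|a 1<|a 1<|a 0<|a 0<|a 0<|a 0<|b)<|a (a 0<|a 0<|a 0<|a (-1)<|a 0<|a 0<|a 0<|a 0<|b)<|
 a (a 0<|a 0<|a 0<|a 1<|a 1<|a 0<|a 0<|a 0<|b)<|a (a 0<|a 0<|a 0<|a 0<|a 0<|a 1<|a 0<|a 0<|b)<|a (a 0<|a 0<|a 0<|a 0<|a 0<|a 0<|a 1<|a 0<|b)<|a (a 0<|a 0<|a 0<|a 0<|a 0<|a 0<|a 0<|a 1<|b)<|b))<|e))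

theorem ch5_ok : ChainOK Am ch5 :=
  H129.ChainF.ok H129.ChainF.i8 H129.ChainF.m8 (H129.ChainF.c8 <| H129.ChainF.c8 <| H129.ChainF.c8 <| H129.ChainF.c8 <| H129.ChainF.nil) (by decide +kernel)

/-- coefficients of the eigenvector -/
def Ve5 : Fin 4 → Fin 8 → ℤ := (beta% delta% lq2656c60453 fun a b _ _ _ =>
 (a (a 1<|a 0<|a 1<|a 1<|a 0<|a 0<|a 0<|a 0<|b)<|a (a 1<|a 1<|a 1<|a 1<|a 0<|a 0<|a 0<|a 0<|b)<|a (a 1<|a 0<|a 1<|a 0<|a 0<|a 0<|a 0<|a 0<|b)<|a (a 1<|a 0<|a 0<|a 0<|a 0<|a 0<|a 0<|a 0<|b)<|b))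

/-- the functional -/
def Ue5 : Fin 8 → ℤ := ![0, -1, 0, 1, 0, 0, 0, 0]

theorem eig_5 : EigOK (hd ch5) c5 Ve5 Ue5 :=
  H493.EigF.ok (H493.EigF.hT H493.EigF.t8) H493.EigF.r4 (H493.EigF.mc H493.EigF.r8 <| H493.EigF.mc H493.EigF.r8 <| H493.EigF.mc H493.EigF.r8 <| H493.EigF.mc H493.EigF.r8 <| H493.EigF.m0) H493.EigF.r8 (by decide +kernel)

theorem rel5 {F : Type u} [Field F] [Finite F] {r s : ℕ} (hr : r.Prime) (hs : s.Prime) (hrs : r ≠ s)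
    (h1 : phiC c5 (Nat.card F) 1 r) (h2 : phiC c5 (Nat.card F) 1 s) :
    PG.Rel ↥(chevE8.group F) r s := by
  have := finW
  exact rel_of_eig hp CoxeterMatrix.E₈.toCoxeterSystem H129.TorusChar.invC_E8 one_ne_zero
    (chain_rep hp CoxeterMatrix.E₈.toCoxeterSystem hA ch5_ok) eig_5 eig_5 hr hs hrs h1.1 h2.1 h1.2 h2.2

/-- partial products of an element with characteristic polynomial divisible by the cyclotomic polynomial 6 -/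
def ch6 : List (Fin 8 × Mat 8) := (beta% delta% lq2656c60453 fun a b c d e =>
 (c (d 1 (a (a 1<|a 0<|a 1<|a 0<|a 0<|a 0<|a 0<|a 0<|b)<|a (a 0<|a 0<|a 1<|a 1<|a 0<|a 0<|a 0<|a 0<|b)<|a (a 0<|a 1<|a 0<|a 1<|a 0<|a 0<|a 0<|a 0<|b)<|a (a 0<|a 0<|a 0<|a 0<|a 1<|a 0<|a 0<|a 0<|b)<|
 a (a 0<|a (-1)<|a (-1)<|a (-1)<|a (-1)<|a 0<|a 0<|a 0<|b)<|a (a 0<|a 1<|a 1<|a 1<|a 1<|a 1<|a 0<|a 0<|b)<|a (a 0<|a 0<|a 0<|a 0<|a 0<|a 0<|a 1<|a 0<|b)<|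
 a (a 0<|a 0<|a 0<|a 0<|a 0<|a 0<|a 0<|a 1<|b)<|b))<|
 c (d 2 (a (a 1<|a 0<|a 1<|a 0<|a 0<|a 0<|a 0<|a 0<|b)<|a (a 0<|a 1<|a 1<|a 1<|a 0<|a 0<|a 0<|a 0<|b)<|a (a 0<|a 0<|a 0<|a 1<|a 0<|a 0<|a 0<|a 0<|b)<|a (a 0<|a 0<|a 0<|a 0<|a 1<|a 0<|a 0<|a 0<|b)<|
 a (a 0<|a 0<|a (-1)<|a (-1)<|a (-1)<|a 0<|a 0<|a 0<|b)<|a (a 0<|a 0<|a 1<|a 1<|a 1<|a 1<|a 0<|a 0<|b)<|a (a 0<|a 0<|a 0<|a 0<|a 0<|a 0<|a 1<|a 0<|b)<|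
 a (a 0<|a 0<|a 0<|a 0<|a 0<|a 0<|a 0<|a 1<|b)<|b))<|
 c (d 3 (a (a 1<|a 0<|a 0<|a 0<|a 0<|a 0<|a 0<|a 0<|b)<|a (a 0<|a 1<|a 0<|a 1<|a 0<|a 0<|a 0<|a 0<|b)<|a (a 0<|a 0<|a 1<|a 1<|a 0<|a 0<|a 0<|a 0<|b)<|a (a 0<|a 0<|a 0<|a 0<|a 1<|a 0<|a 0<|a 0<|b)<|
 a (a 0<|a 0<|a 0<|a (-1)<|a (-1)<|a 0<|a 0<|a 0<|b)<|a (a 0<|a 0<|a 0<|a 1<|a 1<|a 1<|a 0<|a 0<|b)<|a (a 0<|a 0<|a 0<|a 0<|a 0<|a 0<|a 1<|a 0<|b)<|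
 a (a 0<|a 0<|a 0<|a 0<|a 0<|a 0<|a 0<|a 1<|b)<|b))<|
 c (d 4 (a (a 1<|a 0<|a 0<|a 0<|a 0<|a 0<|a 0<|a 0<|b)<|a (a 0<|a 1<|a 0<|a 0<|a 0<|a 0<|a 0<|a 0<|b)<|a (a 0<|a 0<|a 1<|a 0<|a 0<|a 0<|a 0<|a 0<|b)<|a (a 0<|a 0<|a 0<|a 1<|a 1<|a 0<|a 0<|a 0<|b)<|
 a (a 0<|a 0<|a 0<|a 0<|a (-1)<|a 0<|a 0<|a 0<|b)<|a (a 0<|a 0<|a 0<|a 0<|a 1<|a 1<|a 0<|a 0<|b)<|a (a 0<|a 0<|a 0<|a 0<|a 0<|a 0<|a 1<|a 0<|b)<|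
 a (a 0<|a 0<|a 0<|a 0<|a 0<|a 0<|a 0<|a 1<|b)<|b))<|e))

theorem ch6_ok : ChainOK Am ch6 :=
  H129.ChainF.ok H129.ChainF.i8 H129.ChainF.m8 (H129.ChainF.c8 <| H129.ChainF.c8 <| H129.ChainF.c8 <| H129.ChainF.c8 <| H129.ChainF.nil) (by decide +kernel)

/-- coefficients of the eigenvector -/
def Ve6 : Fin 2 → Fin 8 → ℤ := (beta% delta% lq2656c60453 fun a b _ _ _ =>
 (a (a 0<|a (-1)<|a (-1)<|a (-2)<|a (-1)<|a 0<|a 0<|a 0<|b)<|a (a 0<|a 0<|a 0<|a 1<|a 1<|a 0<|a 0<|a 0<|b)<|b))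

/-- the functional -/
def Ue6 : Fin 8 → ℤ := ![0, -1, 0, 0, 0, 0, 0, 0]

theorem eig_6 : EigOK (hd ch6) c6 Ve6 Ue6 :=
  H493.EigF.ok (H493.EigF.hT H493.EigF.t8) H493.EigF.r2 (H493.EigF.mc H493.EigF.r8 <| H493.EigF.mc H493.EigF.r8 <| H493.EigF.m0) H493.EigF.r8 (by decide +kernel)

theorem rel6 {F : Type u} [Field F] [Finite F] {r s : ℕ} (hr : r.Prime) (hs : s.Prime) (hrs : r ≠ s)
    (h1 : phiC c6 (Nat.card F) 1 r) (h2 : phiC c6 (Nat.card F) 1 s) :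
    PG.Rel ↥(chevE8.group F) r s := by
  have := finW
  exact rel_of_eig hp CoxeterMatrix.E₈.toCoxeterSystem H129.TorusChar.invC_E8 one_ne_zero
    (chain_rep hp CoxeterMatrix.E₈.toCoxeterSystem hA ch6_ok) eig_6 eig_6 hr hs hrs h1.1 h2.1 h1.2 h2.2

/-- partial products of an element with characteristic polynomial divisible by the cyclotomic polynomial 7 -/
def ch7 : List (Fin 8 × Mat 8) := (beta% delta% lq2656c60453 fun a b c d e =>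
 (c (d 0 (a (a 0<|a 0<|a 1<|a 0<|a 0<|a 0<|a 0<|a 0<|b)<|a (a 1<|a 1<|a 1<|a 1<|a 0<|a 0<|a 0<|a 0<|b)<|a (a 0<|a 0<|a 0<|a 1<|a 0<|a 0<|a 0<|a 0<|b)<|a (a 0<|a 0<|a 0<|a 0<|a 1<|a 0<|a 0<|a 0<|b)<|
 a (a 0<|a 0<|a 0<|a 0<|a 0<|a 1<|a 0<|a 0<|b)<|a (a 0<|a 0<|a 0<|a 0<|a 0<|a 0<|a 1<|a 0<|b)<|a (a (-1)<|a 0<|a (-1)<|a (-1)<|a (-1)<|a (-1)<|a (-1)<|a 0<|b)<|
 a (a 1<|a 0<|a 1<|a 1<|a 1<|a 1<|a 1<|a 1<|b)<|b))<|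
 c (d 2 (a (a 1<|a 0<|a 1<|a 0<|a 0<|a 0<|a 0<|a 0<|b)<|a (a 0<|a 1<|a 1<|a 1<|a 0<|a 0<|a 0<|a 0<|b)<|a (a 0<|a 0<|a 0<|a 1<|a 0<|a 0<|a 0<|a 0<|b)<|a (a 0<|a 0<|a 0<|a 0<|a 1<|a 0<|a 0<|a 0<|b)<|
 a (a 0<|a 0<|a 0<|a 0<|a 0<|a 1<|a 0<|a 0<|b)<|a (a 0<|a 0<|a 0<|a 0<|a 0<|a 0<|a 1<|a 0<|b)<|a (a 0<|a 0<|a (-1)<|a (-1)<|a (-1)<|a (-1)<|a (-1)<|a 0<|b)<|
 a (a 0<|a 0<|a 1<|a 1<|a 1<|a 1<|a 1<|a 1<|b)<|b))<|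
 c (d 3 (a (a 1<|a 0<|a 0<|a 0<|a 0<|a 0<|a 0<|a 0<|b)<|a (a 0<|a 1<|a 0<|a 1<|a 0<|a 0<|a 0<|a 0<|b)<|a (a 0<|a 0<|a 1<|a 1<|a 0<|a 0<|a 0<|a 0<|b)<|a (a 0<|a 0<|a 0<|a 0<|a 1<|a 0<|a 0<|a 0<|b)<|
 a (a 0<|a 0<|a 0<|a 0<|a 0<|a 1<|a 0<|a 0<|b)<|a (a 0<|a 0<|a 0<|a 0<|a 0<|a 0<|a 1<|a 0<|b)<|a (a 0<|a 0<|a 0<|a (-1)<|a (-1)<|a (-1)<|a (-1)<|a 0<|b)<|
 a (a 0<|a 0<|a 0<|a 1<|a 1<|a 1<|a 1<|a 1<|b)<|b))<|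
 c (d 4 (a (a 1<|a 0<|a 0<|a 0<|a 0<|a 0<|a 0<|a 0<|b)<|a (a 0<|a 1<|a 0<|a 0<|a 0<|a 0<|a 0<|a 0<|b)<|a (a 0<|a 0<|a 1<|a 0<|a 0<|a 0<|a 0<|a 0<|b)<|a (a 0<|a 0<|a 0<|a 1<|a 1<|a 0<|a 0<|a 0<|b)<|
 a (a 0<|a 0<|a 0<|a 0<|a 0<|a 1<|a 0<|a 0<|b)<|a (a 0<|a 0<|a 0<|a 0<|a 0<|a 0<|a 1<|a 0<|b)<|a (a 0<|a 0<|a 0<|a 0<|a (-1)<|a (-1)<|a (-1)<|a 0<|b)<|
 a (a 0<|a 0<|a 0<|a 0<|a 1<|a 1<|a 1<|a 1<|b)<|b))<|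
 c (d 5 (a (a 1<|a 0<|a 0<|a 0<|a 0<|a 0<|a 0<|a 0<|b)<|a (a 0<|a 1<|a 0<|a 0<|a 0<|a 0<|a 0<|a 0<|b)<|a (a 0<|a 0<|a 1<|a 0<|a 0<|a 0<|a 0<|a 0<|b)<|a (a 0<|a 0<|a 0<|a 1<|a 0<|a 0<|a 0<|a 0<|b)<|
 a (a 0<|a 0<|a 0<|a 0<|a 1<|a 1<|a 0<|a 0<|b)<|a (a 0<|a 0<|a 0<|a 0<|a 0<|a 0<|a 1<|a 0<|b)<|a (a 0<|a 0<|a 0<|a 0<|a 0<|a (-1)<|a (-1)<|a 0<|b)<|
 a (a 0<|a 0<|a 0<|a 0<|a 0<|a 1<|a 1<|a 1<|b)<|b))<|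
 c (d 6 (a (a 1<|a 0<|a 0<|a 0<|a 0<|a 0<|a 0<|a 0<|b)<|a (a 0<|a 1<|a 0<|a 0<|a 0<|a 0<|a 0<|a 0<|b)<|a (a 0<|a 0<|a 1<|a 0<|a 0<|a 0<|a 0<|a 0<|b)<|a (a 0<|a 0<|a 0<|a 1<|a 0<|a 0<|a 0<|a 0<|b)<|
 a (a 0<|a 0<|a 0<|a 0<|a 1<|a 0<|a 0<|a 0<|b)<|a (a 0<|a 0<|a 0<|a 0<|a 0<|a 1<|a 1<|a 0<|b)<|a (a 0<|a 0<|a 0<|a 0<|a 0<|a 0<|a (-1)<|a 0<|b)<|
 a (a 0<|a 0<|a 0<|a 0<|a 0<|a 0<|a 1<|a 1<|b)<|b))<|e))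

theorem ch7_ok : ChainOK Am ch7 :=
  H129.ChainF.ok H129.ChainF.i8 H129.ChainF.m8 (H129.ChainF.c8 <| H129.ChainF.c8 <| H129.ChainF.c8 <| H129.ChainF.c8 <| H129.ChainF.c8 <| H129.ChainF.c8 <| H129.ChainF.nil) (by decide +kernel)

/-- coefficients of the eigenvector -/
def Ve7 : Fin 6 → Fin 8 → ℤ := (beta% delta% lq2656c60453 fun a b _ _ _ =>
 (a (a (-1)<|a 0<|a 0<|a 0<|a 0<|a 0<|a 0<|a 0<|b)<|a (a 0<|a 0<|a 1<|a 1<|a 1<|a 1<|a 1<|a 0<|b)<|a (a 0<|a 0<|a 1<|a 1<|a 1<|a 1<|a 0<|a 0<|b)<|a (a 0<|a 0<|a 1<|a 1<|a 1<|a 0<|a 0<|a 0<|b)<|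
 a (a 0<|a 0<|a 1<|a 1<|a 0<|a 0<|a 0<|a 0<|b)<|a (a 0<|a 0<|a 1<|a 0<|a 0<|a 0<|a 0<|a 0<|b)<|b))

/-- the functional -/
def Ue7 : Fin 8 → ℤ := ![-1, 0, 0, 0, 0, 0, 0, 0]

theorem eig_7 : EigOK (hd ch7) c7 Ve7 Ue7 :=
  H493.EigF.ok (H493.EigF.hT H493.EigF.t8) H493.EigF.r6 (H493.EigF.mc H493.EigF.r8 <| H493.EigF.mc H493.EigF.r8 <| H493.EigF.mc H493.EigF.r8 <| H493.EigF.mc H493.EigF.r8 <| H493.EigF.mc H493.EigF.r8 <| H493.EigF.mc H493.EigF.r8 <| H493.EigF.m0) H493.EigF.r8 (by decide +kernel)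

theorem rel7 {F : Type u} [Field F] [Finite F] {r s : ℕ} (hr : r.Prime) (hs : s.Prime) (hrs : r ≠ s)
    (h1 : phiC c7 (Nat.card F) 1 r) (h2 : phiC c7 (Nat.card F) 1 s) :
    PG.Rel ↥(chevE8.group F) r s := by
  have := finW
  exact rel_of_eig hp CoxeterMatrix.E₈.toCoxeterSystem H129.TorusChar.invC_E8 one_ne_zero
    (chain_rep hp CoxeterMatrix.E₈.toCoxeterSystem hA ch7_ok) eig_7 eig_7 hr hs hrs h1.1 h2.1 h1.2 h2.2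

/-- partial products of an element with characteristic polynomial divisible by the cyclotomic polynomial 8 -/
def ch8 : List (Fin 8 × Mat 8) := (beta% delta% lq2656c60453 fun a b c d e =>
 (c (d 0 (a (a 0<|a 0<|a 1<|a 0<|a 0<|a 0<|a 0<|a 0<|b)<|a (a 1<|a 0<|a 1<|a 1<|a 0<|a 0<|a 0<|a 0<|b)<|a (a 0<|a 1<|a 0<|a 1<|a 0<|a 0<|a 0<|a 0<|b)<|a (a 0<|a 0<|a 0<|a 0<|a 1<|a 0<|a 0<|a 0<|b)<|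
 a (a (-1)<|a (-1)<|a (-1)<|a (-1)<|a (-1)<|a 0<|a 0<|a 0<|b)<|a (a 1<|a 1<|a 1<|a 1<|a 1<|a 1<|a 0<|a 0<|b)<|a (a 0<|a 0<|a 0<|a 0<|a 0<|a 0<|a 1<|a 0<|b)<|
 a (a 0<|a 0<|a 0<|a 0<|a 0<|a 0<|a 0<|a 1<|b)<|b))<|
 c (d 1 (a (a 1<|a 0<|a 1<|a 0<|a 0<|a 0<|a 0<|a 0<|b)<|a (a 0<|a 0<|a 1<|a 1<|a 0<|a 0<|a 0<|a 0<|b)<|a (a 0<|a 1<|a 0<|a 1<|a 0<|a 0<|a 0<|a 0<|b)<|a (a 0<|a 0<|a 0<|a 0<|a 1<|a 0<|a 0<|a 0<|b)<|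
 a (a 0<|a (-1)<|a (-1)<|a (-1)<|a (-1)<|a 0<|a 0<|a 0<|b)<|a (a 0<|a 1<|a 1<|a 1<|a 1<|a 1<|a 0<|a 0<|b)<|a (a 0<|a 0<|a 0<|a 0<|a 0<|a 0<|a 1<|a 0<|b)<|
 a (a 0<|a 0<|a 0<|a 0<|a 0<|a 0<|a 0<|a 1<|b)<|b))<|
 c (d 2 (a (a 1<|a 0<|a 1<|a 0<|a 0<|a 0<|a 0<|a 0<|b)<|a (a 0<|a 1<|a 1<|a 1<|a 0<|a 0<|a 0<|a 0<|b)<|a (a 0<|a 0<|a 0<|a 1<|a 0<|a 0<|a 0<|a 0<|b)<|a (a 0<|a 0<|a 0<|a 0<|a 1<|a 0<|a 0<|a 0<|b)<|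
 a (a 0<|a 0<|a (-1)<|a (-1)<|a (-1)<|a 0<|a 0<|a 0<|b)<|a (a 0<|a 0<|a 1<|a 1<|a 1<|a 1<|a 0<|a 0<|b)<|a (a 0<|a 0<|a 0<|a 0<|a 0<|a 0<|a 1<|a 0<|b)<|
 a (a 0<|a 0<|a 0<|a 0<|a 0<|a 0<|a 0<|a 1<|b)<|b))<|
 c (d 3 (a (a 1<|a 0<|a 0<|a 0<|a 0<|a 0<|a 0<|a 0<|b)<|a (a 0<|a 1<|a 0<|a 1<|a 0<|a 0<|a 0<|a 0<|b)<|a (a 0<|a 0<|a 1<|a 1<|a 0<|a 0<|a 0<|a 0<|b)<|a (a 0<|a 0<|a 0<|a 0<|a 1<|a 0<|a 0<|a 0<|b)<|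
 a (a 0<|a 0<|a 0<|a (-1)<|a (-1)<|a 0<|a 0<|a 0<|b)<|a (a 0<|a 0<|a 0<|a 1<|a 1<|a 1<|a 0<|a 0<|b)<|a (a 0<|a 0<|a 0<|a 0<|a 0<|a 0<|a 1<|a 0<|b)<|
 a (a 0<|a 0<|a 0<|a 0<|a 0<|a 0<|a 0<|a 1<|b)<|b))<|
 c (d 4 (a (a 1<|a 0<|a 0<|a 0<|a 0<|a 0<|a 0<|a 0<|b)<|a (a 0<|a 1<|a 0<|a 0<|a 0<|a 0<|a 0<|a 0<|b)<|a (a 0<|a 0<|a 1<|a 0<|a 0<|a 0<|a 0<|a 0<|b)<|a (a 0<|a 0<|a 0<|a 1<|a 1<|a 0<|a 0<|a 0<|b)<|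
 a (a 0<|a 0<|a 0<|a 0<|a (-1)<|a 0<|a 0<|a 0<|b)<|a (a 0<|a 0<|a 0<|a 0<|a 1<|a 1<|a 0<|a 0<|b)<|a (a 0<|a 0<|a 0<|a 0<|a 0<|a 0<|a 1<|a 0<|b)<|
 a (a 0<|a 0<|a 0<|a 0<|a 0<|a 0<|a 0<|a 1<|b)<|b))<|e))

theorem ch8_ok : ChainOK Am ch8 :=
  H129.ChainF.ok H129.ChainF.i8 H129.ChainF.m8 (H129.ChainF.c8 <| H129.ChainF.c8 <| H129.ChainF.c8 <| H129.ChainF.c8 <| H129.ChainF.c8 <| H129.ChainF.nil) (by decide +kernel)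

/-- coefficients of the eigenvector -/
def Ve8 : Fin 4 → Fin 8 → ℤ := (beta% delta% lq2656c60453 fun a b _ _ _ =>
 (a (a 1<|a 0<|a 1<|a 1<|a 1<|a 0<|a 0<|a 0<|b)<|a (a 0<|a 1<|a 0<|a 1<|a 0<|a 0<|a 0<|a 0<|b)<|a (a 0<|a 0<|a 1<|a 0<|a 0<|a 0<|a 0<|a 0<|b)<|a (a 1<|a 0<|a 0<|a 0<|a 0<|a 0<|a 0<|a 0<|b)<|b))

/-- the functional -/
def Ue8 : Fin 8 → ℤ := ![0, -1, 0, 1, 0, 0, 0, 0]

theorem eig_8 : EigOK (hd ch8) c8 Ve8 Ue8 :=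
  H493.EigF.ok (H493.EigF.hT H493.EigF.t8) H493.EigF.r4 (H493.EigF.mc H493.EigF.r8 <| H493.EigF.mc H493.EigF.r8 <| H493.EigF.mc H493.EigF.r8 <| H493.EigF.mc H493.EigF.r8 <| H493.EigF.m0) H493.EigF.r8 (by decide +kernel)

theorem rel8 {F : Type u} [Field F] [Finite F] {r s : ℕ} (hr : r.Prime) (hs : s.Prime) (hrs : r ≠ s)
    (h1 : phiC c8 (Nat.card F) 1 r) (h2 : phiC c8 (Nat.card F) 1 s) :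
    PG.Rel ↥(chevE8.group F) r s := by
  have := finW
  exact rel_of_eig hp CoxeterMatrix.E₈.toCoxeterSystem H129.TorusChar.invC_E8 one_ne_zero
    (chain_rep hp CoxeterMatrix.E₈.toCoxeterSystem hA ch8_ok) eig_8 eig_8 hr hs hrs h1.1 h2.1 h1.2 h2.2

/-- partial products of an element with characteristic polynomial divisible by the cyclotomic polynomial 9 -/
def ch9 : List (Fin 8 × Mat 8) := (beta% delta% lq2656c60453 fun a b c d e =>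
 (c (d 2 (a (a (-1)<|a 0<|a (-1)<|a (-1)<|a 0<|a 0<|a 0<|a 0<|b)<|a (a 0<|a (-1)<|a (-1)<|a (-2)<|a (-1)<|a 0<|a 0<|a 0<|b)<|a (a 1<|a 0<|a 1<|a 1<|a 1<|a 0<|a 0<|a 0<|b)<|
 a (a 0<|a 1<|a 1<|a 1<|a 0<|a 0<|a 0<|a 0<|b)<|a (a 0<|a 0<|a 0<|a 1<|a 1<|a 1<|a 0<|a 0<|b)<|a (a 0<|a 0<|a (-1)<|a (-1)<|a (-1)<|a (-1)<|a 0<|a 0<|b)<|
 a (a 0<|a 0<|a 1<|a 1<|a 1<|a 1<|a 1<|a 0<|b)<|a (a 0<|a 0<|a 0<|a 0<|a 0<|a 0<|a 0<|a 1<|b)<|b))<|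
 c (d 3 (a (a (-1)<|a 0<|a (-1)<|a (-1)<|a 0<|a 0<|a 0<|a 0<|b)<|a (a 0<|a (-1)<|a (-1)<|a (-2)<|a (-1)<|a 0<|a 0<|a 0<|b)<|a (a 1<|a 0<|a 1<|a 1<|a 1<|a 0<|a 0<|a 0<|b)<|
 a (a 0<|a 1<|a 0<|a 1<|a 0<|a 0<|a 0<|a 0<|b)<|a (a 0<|a 0<|a 1<|a 1<|a 1<|a 1<|a 0<|a 0<|b)<|a (a 0<|a 0<|a 0<|a (-1)<|a (-1)<|a (-1)<|a 0<|a 0<|b)<|
 a (a 0<|a 0<|a 0<|a 1<|a 1<|a 1<|a 1<|a 0<|b)<|a (a 0<|a 0<|a 0<|a 0<|a 0<|a 0<|a 0<|a 1<|b)<|b))<|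
 c (d 2 (a (a (-1)<|a 0<|a (-1)<|a 0<|a 0<|a 0<|a 0<|a 0<|b)<|a (a 0<|a (-1)<|a (-1)<|a (-1)<|a (-1)<|a 0<|a 0<|a 0<|b)<|a (a 1<|a 0<|a 1<|a 1<|a 1<|a 0<|a 0<|a 0<|b)<|
 a (a 0<|a 1<|a 0<|a 0<|a 0<|a 0<|a 0<|a 0<|b)<|a (a 0<|a 0<|a 1<|a 1<|a 1<|a 1<|a 0<|a 0<|b)<|a (a 0<|a 0<|a 0<|a 0<|a (-1)<|a (-1)<|a 0<|a 0<|b)<|
 a (a 0<|a 0<|a 0<|a 0<|a 1<|a 1<|a 1<|a 0<|b)<|a (a 0<|a 0<|a 0<|a 0<|a 0<|a 0<|a 0<|a 1<|b)<|b))<|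
 c (d 7 (a (a (-1)<|a 0<|a 0<|a 0<|a 0<|a 0<|a 0<|a 0<|b)<|a (a 0<|a (-1)<|a 0<|a (-1)<|a (-1)<|a 0<|a 0<|a 0<|b)<|a (a 1<|a 0<|a 1<|a 1<|a 1<|a 0<|a 0<|a 0<|b)<|a (a 0<|a 1<|a 0<|a 0<|a 0<|a 0<|a 0<|a 0<|b)<|
 a (a 0<|a 0<|a 0<|a 1<|a 1<|a 1<|a 0<|a 0<|b)<|a (a 0<|a 0<|a 0<|a 0<|a (-1)<|a (-1)<|a 0<|a 0<|b)<|a (a 0<|a 0<|a 0<|a 0<|a 1<|a 1<|a 1<|a 0<|b)<|
 a (a 0<|a 0<|a 0<|a 0<|a 0<|a 0<|a 0<|a 1<|b)<|b))<|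
 c (d 0 (a (a (-1)<|a 0<|a 0<|a 0<|a 0<|a 0<|a 0<|a 0<|b)<|a (a 0<|a (-1)<|a 0<|a (-1)<|a (-1)<|a 0<|a 0<|a 0<|b)<|a (a 1<|a 0<|a 1<|a 1<|a 1<|a 0<|a 0<|a 0<|b)<|a (a 0<|a 1<|a 0<|a 0<|a 0<|a 0<|a 0<|a 0<|b)<|
 a (a 0<|a 0<|a 0<|a 1<|a 1<|a 1<|a 0<|a 0<|b)<|a (a 0<|a 0<|a 0<|a 0<|a (-1)<|a (-1)<|a 0<|a 0<|b)<|a (a 0<|a 0<|a 0<|a 0<|a 1<|a 1<|a 1<|a 1<|b)<|
 a (a 0<|a 0<|a 0<|a 0<|a 0<|a 0<|a 0<|a (-1)<|b)<|b))<|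
 c (d 7 (a (a 1<|a 0<|a 0<|a 0<|a 0<|a 0<|a 0<|a 0<|b)<|a (a 0<|a (-1)<|a 0<|a (-1)<|a (-1)<|a 0<|a 0<|a 0<|b)<|a (a 0<|a 0<|a 1<|a 1<|a 1<|a 0<|a 0<|a 0<|b)<|a (a 0<|a 1<|a 0<|a 0<|a 0<|a 0<|a 0<|a 0<|b)<|
 a (a 0<|a 0<|a 0<|a 1<|a 1<|a 1<|a 0<|a 0<|b)<|a (a 0<|a 0<|a 0<|a 0<|a (-1)<|a (-1)<|a 0<|a 0<|b)<|a (a 0<|a 0<|a 0<|a 0<|a 1<|a 1<|a 1<|a 1<|b)<|
 a (a 0<|a 0<|a 0<|a 0<|a 0<|a 0<|a 0<|a (-1)<|b)<|b))<|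
 c (d 4 (a (a 1<|a 0<|a 0<|a 0<|a 0<|a 0<|a 0<|a 0<|b)<|a (a 0<|a (-1)<|a 0<|a (-1)<|a (-1)<|a 0<|a 0<|a 0<|b)<|a (a 0<|a 0<|a 1<|a 1<|a 1<|a 0<|a 0<|a 0<|b)<|a (a 0<|a 1<|a 0<|a 0<|a 0<|a 0<|a 0<|a 0<|b)<|
 a (a 0<|a 0<|a 0<|a 1<|a 1<|a 1<|a 0<|a 0<|b)<|a (a 0<|a 0<|a 0<|a 0<|a (-1)<|a (-1)<|a 0<|a 0<|b)<|a (a 0<|a 0<|a 0<|a 0<|a 1<|a 1<|a 1<|a 0<|b)<|
 a (a 0<|a 0<|a 0<|a 0<|a 0<|a 0<|a 0<|a 1<|b)<|b))<|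
 c (d 3 (a (a 1<|a 0<|a 0<|a 0<|a 0<|a 0<|a 0<|a 0<|b)<|a (a 0<|a (-1)<|a 0<|a (-1)<|a 0<|a 0<|a 0<|a 0<|b)<|a (a 0<|a 0<|a 1<|a 1<|a 0<|a 0<|a 0<|a 0<|b)<|a (a 0<|a 1<|a 0<|a 0<|a 0<|a 0<|a 0<|a 0<|b)<|
 a (a 0<|a 0<|a 0<|a 1<|a 1<|a 1<|a 0<|a 0<|b)<|a (a 0<|a 0<|a 0<|a 0<|a 0<|a (-1)<|a 0<|a 0<|b)<|a (a 0<|a 0<|a 0<|a 0<|a 0<|a 1<|a 1<|a 0<|b)<|
 a (a 0<|a 0<|a 0<|a 0<|a 0<|a 0<|a 0<|a 1<|b)<|b))<|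
 c (d 5 (a (a 1<|a 0<|a 0<|a 0<|a 0<|a 0<|a 0<|a 0<|b)<|a (a 0<|a (-1)<|a 0<|a 0<|a 0<|a 0<|a 0<|a 0<|b)<|a (a 0<|a 0<|a 1<|a 0<|a 0<|a 0<|a 0<|a 0<|b)<|a (a 0<|a 1<|a 0<|a 1<|a 0<|a 0<|a 0<|a 0<|b)<|
 a (a 0<|a 0<|a 0<|a 0<|a 1<|a 1<|a 0<|a 0<|b)<|a (a 0<|a 0<|a 0<|a 0<|a 0<|a (-1)<|a 0<|a 0<|b)<|a (a 0<|a 0<|a 0<|a 0<|a 0<|a 1<|a 1<|a 0<|b)<|
 a (a 0<|a 0<|a 0<|a 0<|a 0<|a 0<|a 0<|a 1<|b)<|b))<|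
 c (d 1 (a (a 1<|a 0<|a 0<|a 0<|a 0<|a 0<|a 0<|a 0<|b)<|a (a 0<|a (-1)<|a 0<|a 0<|a 0<|a 0<|a 0<|a 0<|b)<|a (a 0<|a 0<|a 1<|a 0<|a 0<|a 0<|a 0<|a 0<|b)<|a (a 0<|a 1<|a 0<|a 1<|a 0<|a 0<|a 0<|a 0<|b)<|
 a (a 0<|a 0<|a 0<|a 0<|a 1<|a 0<|a 0<|a 0<|b)<|a (a 0<|a 0<|a 0<|a 0<|a 0<|a 1<|a 0<|a 0<|b)<|a (a 0<|a 0<|a 0<|a 0<|a 0<|a 0<|a 1<|a 0<|b)<|a (a 0<|a 0<|a 0<|a 0<|a 0<|a 0<|a 0<|a 1<|b)<|b))<|e))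

theorem ch9_ok : ChainOK Am ch9 :=
  H129.ChainF.ok H129.ChainF.i8 H129.ChainF.m8 (H129.ChainF.c8 <| H129.ChainF.c8 <| H129.ChainF.c8 <| H129.ChainF.c8 <| H129.ChainF.c8 <| H129.ChainF.c8 <| H129.ChainF.c8 <| H129.ChainF.c8 <| H129.ChainF.c8 <| H129.ChainF.c8 <| H129.ChainF.nil) (by decide +kernel)

/-- coefficients of the eigenvector -/
def Ve9 : Fin 6 → Fin 8 → ℤ := (beta% delta% lq2656c60453 fun a b _ _ _ =>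
 (a (a 1<|a 1<|a 1<|a 1<|a 0<|a 0<|a 0<|a 0<|b)<|a (a 0<|a 1<|a 1<|a 2<|a 1<|a 1<|a 0<|a 0<|b)<|a (a 0<|a 0<|a 0<|a 1<|a 1<|a 0<|a 0<|a 0<|b)<|a (a 1<|a 0<|a 1<|a 0<|a 0<|a 0<|a 0<|a 0<|b)<|
 a (a 0<|a 1<|a 1<|a 1<|a 0<|a 0<|a 0<|a 0<|b)<|a (a 0<|a 0<|a 0<|a 1<|a 0<|a 0<|a 0<|a 0<|b)<|b))

/-- the functional -/
def Ue9 : Fin 8 → ℤ := ![1, 1, -1, 0, 0, 0, 0, 0]

theorem eig_9 : EigOK (hd ch9) c9 Ve9 Ue9 :=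
  H493.EigF.ok (H493.EigF.hT H493.EigF.t8) H493.EigF.r6 (H493.EigF.mc H493.EigF.r8 <| H493.EigF.mc H493.EigF.r8 <| H493.EigF.mc H493.EigF.r8 <| H493.EigF.mc H493.EigF.r8 <| H493.EigF.mc H493.EigF.r8 <| H493.EigF.mc H493.EigF.r8 <| H493.EigF.m0) H493.EigF.r8 (by decide +kernel)

theorem rel9 {F : Type u} [Field F] [Finite F] {r s : ℕ} (hr : r.Prime) (hs : s.Prime) (hrs : r ≠ s)
    (h1 : phiC c9 (Nat.card F) 1 r) (h2 : phiC c9 (Nat.card F) 1 s) :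
    PG.Rel ↥(chevE8.group F) r s := by
  have := finW
  exact rel_of_eig hp CoxeterMatrix.E₈.toCoxeterSystem H129.TorusChar.invC_E8 one_ne_zero
    (chain_rep hp CoxeterMatrix.E₈.toCoxeterSystem hA ch9_ok) eig_9 eig_9 hr hs hrs h1.1 h2.1 h1.2 h2.2

/-- partial products of an element with characteristic polynomial divisible by the cyclotomic polynomial 10 -/
def ch10 : List (Fin 8 × Mat 8) := (beta% delta% lq2656c60453 fun a b c d e =>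
 (c (d 1 (a (a 1<|a 0<|a 1<|a 0<|a 0<|a 0<|a 0<|a 0<|b)<|a (a 0<|a 0<|a 1<|a 1<|a 0<|a 0<|a 0<|a 0<|b)<|a (a 0<|a 1<|a 0<|a 1<|a 0<|a 0<|a 0<|a 0<|b)<|a (a 0<|a 0<|a 0<|a 0<|a 1<|a 0<|a 0<|a 0<|b)<|
 a (a 0<|a 0<|a 0<|a 0<|a 0<|a 1<|a 0<|a 0<|b)<|a (a 0<|a 0<|a 0<|a 0<|a 0<|a 0<|a 1<|a 0<|b)<|a (a 0<|a (-1)<|a (-1)<|a (-1)<|a (-1)<|a (-1)<|a (-1)<|a 0<|b)<|
 a (a 0<|a 1<|a 1<|a 1<|a 1<|a 1<|a 1<|a 1<|b)<|b))<|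
 c (d 2 (a (a 1<|a 0<|a 1<|a 0<|a 0<|a 0<|a 0<|a 0<|b)<|a (a 0<|a 1<|a 1<|a 1<|a 0<|a 0<|a 0<|a 0<|b)<|a (a 0<|a 0<|a 0<|a 1<|a 0<|a 0<|a 0<|a 0<|b)<|a (a 0<|a 0<|a 0<|a 0<|a 1<|a 0<|a 0<|a 0<|b)<|
 a (a 0<|a 0<|a 0<|a 0<|a 0<|a 1<|a 0<|a 0<|b)<|a (a 0<|a 0<|a 0<|a 0<|a 0<|a 0<|a 1<|a 0<|b)<|a (a 0<|a 0<|a (-1)<|a (-1)<|a (-1)<|a (-1)<|a (-1)<|a 0<|b)<|
 a (a 0<|a 0<|a 1<|a 1<|a 1<|a 1<|a 1<|a 1<|b)<|b))<|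
 c (d 3 (a (a 1<|a 0<|a 0<|a 0<|a 0<|a 0<|a 0<|a 0<|b)<|a (a 0<|a 1<|a 0<|a 1<|a 0<|a 0<|a 0<|a 0<|b)<|a (a 0<|a 0<|a 1<|a 1<|a 0<|a 0<|a 0<|a 0<|b)<|a (a 0<|a 0<|a 0<|a 0<|a 1<|a 0<|a 0<|a 0<|b)<|
 a (a 0<|a 0<|a 0<|a 0<|a 0<|a 1<|a 0<|a 0<|b)<|a (a 0<|a 0<|a 0<|a 0<|a 0<|a 0<|a 1<|a 0<|b)<|a (a 0<|a 0<|a 0<|a (-1)<|a (-1)<|a (-1)<|a (-1)<|a 0<|b)<|
 a (a 0<|a 0<|a 0<|a 1<|a 1<|a 1<|a 1<|a 1<|b)<|b))<|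
 c (d 4 (a (a 1<|a 0<|a 0<|a 0<|a 0<|a 0<|a 0<|a 0<|b)<|a (a 0<|a 1<|a 0<|a 0<|a 0<|a 0<|a 0<|a 0<|b)<|a (a 0<|a 0<|a 1<|a 0<|a 0<|a 0<|a 0<|a 0<|b)<|a (a 0<|a 0<|a 0<|a 1<|a 1<|a 0<|a 0<|a 0<|b)<|
 a (a 0<|a 0<|a 0<|a 0<|a 0<|a 1<|a 0<|a 0<|b)<|a (a 0<|a 0<|a 0<|a 0<|a 0<|a 0<|a 1<|a 0<|b)<|a (a 0<|a 0<|a 0<|a 0<|a (-1)<|a (-1)<|a (-1)<|a 0<|b)<|
 a (a 0<|a 0<|a 0<|a 0<|a 1<|a 1<|a 1<|a 1<|b)<|b))<|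
 c (d 5 (a (a 1<|a 0<|a 0<|a 0<|a 0<|a 0<|a 0<|a 0<|b)<|a (a 0<|a 1<|a 0<|a 0<|a 0<|a 0<|a 0<|a 0<|b)<|a (a 0<|a 0<|a 1<|a 0<|a 0<|a 0<|a 0<|a 0<|b)<|a (a 0<|a 0<|a 0<|a 1<|a 0<|a 0<|a 0<|a 0<|b)<|
 a (a 0<|a 0<|a 0<|a 0<|a 1<|a 1<|a 0<|a 0<|b)<|a (a 0<|a 0<|a 0<|a 0<|a 0<|a 0<|a 1<|a 0<|b)<|a (a 0<|a 0<|a 0<|a 0<|a 0<|a (-1)<|a (-1)<|a 0<|b)<|
 a (a 0<|a 0<|a 0<|a 0<|a 0<|a 1<|a 1<|a 1<|b)<|b))<|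
 c (d 6 (a (a 1<|a 0<|a 0<|a 0<|a 0<|a 0<|a 0<|a 0<|b)<|a (a 0<|a 1<|a 0<|a 0<|a 0<|a 0<|a 0<|a 0<|b)<|a (a 0<|a 0<|a 1<|a 0<|a 0<|a 0<|a 0<|a 0<|b)<|a (a 0<|a 0<|a 0<|a 1<|a 0<|a 0<|a 0<|a 0<|b)<|
 a (a 0<|a 0<|a 0<|a 0<|a 1<|a 0<|a 0<|a 0<|b)<|a (a 0<|a 0<|a 0<|a 0<|a 0<|a 1<|a 1<|a 0<|b)<|a (a 0<|a 0<|a 0<|a 0<|a 0<|a 0<|a (-1)<|a 0<|b)<|
 a (a 0<|a 0<|a 0<|a 0<|a 0<|a 0<|a 1<|a 1<|b)<|b))<|e))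

theorem ch10_ok : ChainOK Am ch10 :=
  H129.ChainF.ok H129.ChainF.i8 H129.ChainF.m8 (H129.ChainF.c8 <| H129.ChainF.c8 <| H129.ChainF.c8 <| H129.ChainF.c8 <| H129.ChainF.c8 <| H129.ChainF.c8 <| H129.ChainF.nil) (by decide +kernel)

/-- coefficients of the eigenvector -/
def Ve10 : Fin 4 → Fin 8 → ℤ := (beta% delta% lq2656c60453 fun a b _ _ _ =>
 (a (a 0<|a (-1)<|a (-1)<|a (-2)<|a (-1)<|a (-1)<|a (-1)<|a 0<|b)<|a (a 0<|a 0<|a 0<|a 1<|a 0<|a 0<|a 1<|a 0<|b)<|a (a 0<|a 0<|a 0<|a (-1)<|a 0<|a 1<|a 0<|a 0<|b)<|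
 a (a 0<|a 0<|a 0<|a 1<|a 1<|a 0<|a 0<|a 0<|b)<|b))

/-- the functional -/
def Ue10 : Fin 8 → ℤ := ![0, -1, 0, 0, 0, 0, 0, 0]

theorem eig_10 : EigOK (hd ch10) c10 Ve10 Ue10 :=
  H493.EigF.ok (H493.EigF.hT H493.EigF.t8) H493.EigF.r4 (H493.EigF.mc H493.EigF.r8 <| H493.EigF.mc H493.EigF.r8 <| H493.EigF.mc H493.EigF.r8 <| H493.EigF.mc H493.EigF.r8 <| H493.EigF.m0) H493.EigF.r8 (by decide +kernel)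

theorem rel10 {F : Type u} [Field F] [Finite F] {r s : ℕ} (hr : r.Prime) (hs : s.Prime) (hrs : r ≠ s)
    (h1 : phiC c10 (Nat.card F) 1 r) (h2 : phiC c10 (Nat.card F) 1 s) :
    PG.Rel ↥(chevE8.group F) r s := by
  have := finW
  exact rel_of_eig hp CoxeterMatrix.E₈.toCoxeterSystem H129.TorusChar.invC_E8 one_ne_zero
    (chain_rep hp CoxeterMatrix.E₈.toCoxeterSystem hA ch10_ok) eig_10 eig_10 hr hs hrs h1.1 h2.1 h1.2 h2.2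

/-- partial products of an element with characteristic polynomial divisible by the cyclotomic polynomial 12 -/
def ch12 : List (Fin 8 × Mat 8) := (beta% delta% lq2656c60453 fun a b c d e =>
 (c (d 0 (a (a 0<|a 0<|a 1<|a 0<|a 0<|a 0<|a 0<|a 0<|b)<|a (a 1<|a 0<|a 1<|a 1<|a 0<|a 0<|a 0<|a 0<|b)<|a (a 0<|a 1<|a 0<|a 1<|a 0<|a 0<|a 0<|a 0<|b)<|a (a 0<|a 0<|a 0<|a 0<|a 1<|a 0<|a 0<|a 0<|b)<|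
 a (a 0<|a 0<|a 0<|a 0<|a 0<|a 1<|a 0<|a 0<|b)<|a (a (-1)<|a (-1)<|a (-1)<|a (-1)<|a (-1)<|a (-1)<|a 0<|a 0<|b)<|a (a 1<|a 1<|a 1<|a 1<|a 1<|a 1<|a 1<|a 0<|b)<|
 a (a 0<|a 0<|a 0<|a 0<|a 0<|a 0<|a 0<|a 1<|b)<|b))<|
 c (d 1 (a (a 1<|a 0<|a 1<|a 0<|a 0<|a 0<|a 0<|a 0<|b)<|a (a 0<|a 0<|a 1<|a 1<|a 0<|a 0<|a 0<|a 0<|b)<|a (a 0<|a 1<|a 0<|a 1<|a 0<|a 0<|a 0<|a 0<|b)<|a (a 0<|a 0<|a 0<|a 0<|a 1<|a 0<|a 0<|a 0<|b)<|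
 a (a 0<|a 0<|a 0<|a 0<|a 0<|a 1<|a 0<|a 0<|b)<|a (a 0<|a (-1)<|a (-1)<|a (-1)<|a (-1)<|a (-1)<|a 0<|a 0<|b)<|a (a 0<|a 1<|a 1<|a 1<|a 1<|a 1<|a 1<|a 0<|b)<|
 a (a 0<|a 0<|a 0<|a 0<|a 0<|a 0<|a 0<|a 1<|b)<|b))<|
 c (d 2 (a (a 1<|a 0<|a 1<|a 0<|a 0<|a 0<|a 0<|a 0<|b)<|a (a 0<|a 1<|a 1<|a 1<|a 0<|a 0<|a 0<|a 0<|b)<|a (a 0<|a 0<|a 0<|a 1<|a 0<|a 0<|a 0<|a 0<|b)<|a (a 0<|a 0<|a 0<|a 0<|a 1<|a 0<|a 0<|a 0<|b)<|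
 a (a 0<|a 0<|a 0<|a 0<|a 0<|a 1<|a 0<|a 0<|b)<|a (a 0<|a 0<|a (-1)<|a (-1)<|a (-1)<|a (-1)<|a 0<|a 0<|b)<|a (a 0<|a 0<|a 1<|a 1<|a 1<|a 1<|a 1<|a 0<|b)<|
 a (a 0<|a 0<|a 0<|a 0<|a 0<|a 0<|a 0<|a 1<|b)<|b))<|
 c (d 3 (a (a 1<|a 0<|a 0<|a 0<|a 0<|a 0<|a 0<|a 0<|b)<|a (a 0<|a 1<|a 0<|a 1<|a 0<|a 0<|a 0<|a 0<|b)<|a (a 0<|a 0<|a 1<|a 1<|a 0<|a 0<|a 0<|a 0<|b)<|a (a 0<|a 0<|a 0<|a 0<|a 1<|a 0<|a 0<|a 0<|b)<|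
 a (a 0<|a 0<|a 0<|a 0<|a 0<|a 1<|a 0<|a 0<|b)<|a (a 0<|a 0<|a 0<|a (-1)<|a (-1)<|a (-1)<|a 0<|a 0<|b)<|a (a 0<|a 0<|a 0<|a 1<|a 1<|a 1<|a 1<|a 0<|b)<|
 a (a 0<|a 0<|a 0<|a 0<|a 0<|a 0<|a 0<|a 1<|b)<|b))<|
 c (d 4 (a (a 1<|a 0<|a 0<|a 0<|a 0<|a 0<|a 0<|a 0<|b)<|a (a 0<|a 1<|a 0<|a 0<|a 0<|a 0<|a 0<|a 0<|b)<|a (a 0<|a 0<|a 1<|a 0<|a 0<|a 0<|a 0<|a 0<|b)<|a (a 0<|a 0<|a 0<|a 1<|a 1<|a 0<|a 0<|a 0<|b)<|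
 a (a 0<|a 0<|a 0<|a 0<|a 0<|a 1<|a 0<|a 0<|b)<|a (a 0<|a 0<|a 0<|a 0<|a (-1)<|a (-1)<|a 0<|a 0<|b)<|a (a 0<|a 0<|a 0<|a 0<|a 1<|a 1<|a 1<|a 0<|b)<|
 a (a 0<|a 0<|a 0<|a 0<|a 0<|a 0<|a 0<|a 1<|b)<|b))<|
 c (d 5 (a (a 1<|a 0<|a 0<|a 0<|a 0<|a 0<|a 0<|a 0<|b)<|a (a 0<|a 1<|a 0<|a 0<|a 0<|a 0<|a 0<|a 0<|b)<|a (a 0<|a 0<|a 1<|a 0<|a 0<|a 0<|a 0<|a 0<|b)<|a (a 0<|a 0<|a 0<|a 1<|a 0<|a 0<|a 0<|a 0<|b)<|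
 a (a 0<|a 0<|a 0<|a 0<|a 1<|a 1<|a 0<|a 0<|b)<|a (a 0<|a 0<|a 0<|a 0<|a 0<|a (-1)<|a 0<|a 0<|b)<|a (a 0<|a 0<|a 0<|a 0<|a 0<|a 1<|a 1<|a 0<|b)<|
 a (a 0<|a 0<|a 0<|a 0<|a 0<|a 0<|a 0<|a 1<|b)<|b))<|e))

theorem ch12_ok : ChainOK Am ch12 :=
  H129.ChainF.ok H129.ChainF.i8 H129.ChainF.m8 (H129.ChainF.c8 <| H129.ChainF.c8 <| H129.ChainF.c8 <| H129.ChainF.c8 <| H129.ChainF.c8 <| H129.ChainF.c8 <| H129.ChainF.nil) (by decide +kernel)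

/-- coefficients of the eigenvector -/
def Ve12 : Fin 4 → Fin 8 → ℤ := (beta% delta% lq2656c60453 fun a b _ _ _ =>
 (a (a 0<|a 1<|a 0<|a 1<|a 1<|a 1<|a 0<|a 0<|b)<|a (a 0<|a 0<|a 1<|a 1<|a 1<|a 0<|a 0<|a 0<|b)<|a (a 1<|a 0<|a 1<|a 1<|a 0<|a 0<|a 0<|a 0<|b)<|a (a 0<|a 1<|a 0<|a 0<|a 0<|a 0<|a 0<|a 0<|b)<|b))

/-- the functional -/
def Ue12 : Fin 8 → ℤ := ![0, 0, -1, 1, 0, 0, 0, 0]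

theorem eig_12 : EigOK (hd ch12) c12 Ve12 Ue12 :=
  H493.EigF.ok (H493.EigF.hT H493.EigF.t8) H493.EigF.r4 (H493.EigF.mc H493.EigF.r8 <| H493.EigF.mc H493.EigF.r8 <| H493.EigF.mc H493.EigF.r8 <| H493.EigF.mc H493.EigF.r8 <| H493.EigF.m0) H493.EigF.r8 (by decide +kernel)

theorem rel12 {F : Type u} [Field F] [Finite F] {r s : ℕ} (hr : r.Prime) (hs : s.Prime) (hrs : r ≠ s)
    (h1 : phiC c12 (Nat.card F) 1 r) (h2 : phiC c12 (Nat.card F) 1 s) :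
    PG.Rel ↥(chevE8.group F) r s := by
  have := finW
  exact rel_of_eig hp CoxeterMatrix.E₈.toCoxeterSystem H129.TorusChar.invC_E8 one_ne_zero
    (chain_rep hp CoxeterMatrix.E₈.toCoxeterSystem hA ch12_ok) eig_12 eig_12 hr hs hrs h1.1 h2.1 h1.2 h2.2

/-- partial products of an element with characteristic polynomial divisible by the cyclotomic polynomial 14 -/
def ch14 : List (Fin 8 × Mat 8) := (beta% delta% lq2656c60453 fun a b c d e =>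
 (c (d 3 (a (a 0<|a 0<|a 1<|a 1<|a 0<|a 0<|a 0<|a 0<|b)<|a (a (-1)<|a 0<|a (-1)<|a 0<|a 0<|a 0<|a 0<|a 0<|b)<|a (a 0<|a 1<|a 0<|a 0<|a 0<|a 0<|a 0<|a 0<|b)<|a (a 1<|a 0<|a 1<|a 1<|a 1<|a 1<|a 0<|a 0<|b)<|
 a (a (-1)<|a (-1)<|a (-1)<|a (-2)<|a (-1)<|a (-1)<|a 0<|a 0<|b)<|a (a 1<|a 1<|a 1<|a 2<|a 1<|a 1<|a 1<|a 0<|b)<|a (a 0<|a 0<|a 0<|a 0<|a 0<|a (-1)<|a (-1)<|a 0<|b)<|
 a (a 0<|a 0<|a 0<|a 0<|a 0<|a 1<|a 1<|a 1<|b)<|b))<|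
 c (d 0 (a (a 0<|a 0<|a 1<|a 0<|a 0<|a 0<|a 0<|a 0<|b)<|a (a (-1)<|a 0<|a (-1)<|a (-1)<|a 0<|a 0<|a 0<|a 0<|b)<|a (a 0<|a 1<|a 0<|a 1<|a 0<|a 0<|a 0<|a 0<|b)<|a (a 1<|a 0<|a 1<|a 1<|a 1<|a 1<|a 0<|a 0<|b)<|
 a (a (-1)<|a (-1)<|a (-1)<|a (-1)<|a (-1)<|a (-1)<|a 0<|a 0<|b)<|a (a 1<|a 1<|a 1<|a 1<|a 1<|a 1<|a 1<|a 0<|b)<|a (a 0<|a 0<|a 0<|a 0<|a 0<|a (-1)<|a (-1)<|a 0<|b)<|
 a (a 0<|a 0<|a 0<|a 0<|a 0<|a 1<|a 1<|a 1<|b)<|b))<|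
 c (d 2 (a (a 1<|a 0<|a 1<|a 0<|a 0<|a 0<|a 0<|a 0<|b)<|a (a 0<|a 0<|a (-1)<|a (-1)<|a 0<|a 0<|a 0<|a 0<|b)<|a (a 0<|a 1<|a 0<|a 1<|a 0<|a 0<|a 0<|a 0<|b)<|a (a 0<|a 0<|a 1<|a 1<|a 1<|a 1<|a 0<|a 0<|b)<|
 a (a 0<|a (-1)<|a (-1)<|a (-1)<|a (-1)<|a (-1)<|a 0<|a 0<|b)<|a (a 0<|a 1<|a 1<|a 1<|a 1<|a 1<|a 1<|a 0<|b)<|a (a 0<|a 0<|a 0<|a 0<|a 0<|a (-1)<|a (-1)<|a 0<|b)<|
 a (a 0<|a 0<|a 0<|a 0<|a 0<|a 1<|a 1<|a 1<|b)<|b))<|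
 c (d 1 (a (a 1<|a 0<|a 0<|a 0<|a 0<|a 0<|a 0<|a 0<|b)<|a (a 0<|a 0<|a 0<|a (-1)<|a 0<|a 0<|a 0<|a 0<|b)<|a (a 0<|a 1<|a 1<|a 1<|a 0<|a 0<|a 0<|a 0<|b)<|a (a 0<|a 0<|a 0<|a 1<|a 1<|a 1<|a 0<|a 0<|b)<|
 a (a 0<|a (-1)<|a 0<|a (-1)<|a (-1)<|a (-1)<|a 0<|a 0<|b)<|a (a 0<|a 1<|a 0<|a 1<|a 1<|a 1<|a 1<|a 0<|b)<|a (a 0<|a 0<|a 0<|a 0<|a 0<|a (-1)<|a (-1)<|a 0<|b)<|
 a (a 0<|a 0<|a 0<|a 0<|a 0<|a 1<|a 1<|a 1<|b)<|b))<|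
 c (d 5 (a (a 1<|a 0<|a 0<|a 0<|a 0<|a 0<|a 0<|a 0<|b)<|a (a 0<|a (-1)<|a 0<|a (-1)<|a 0<|a 0<|a 0<|a 0<|b)<|a (a 0<|a 0<|a 1<|a 1<|a 0<|a 0<|a 0<|a 0<|b)<|a (a 0<|a 1<|a 0<|a 1<|a 1<|a 1<|a 0<|a 0<|b)<|
 a (a 0<|a 0<|a 0<|a (-1)<|a (-1)<|a (-1)<|a 0<|a 0<|b)<|a (a 0<|a 0<|a 0<|a 1<|a 1<|a 1<|a 1<|a 0<|b)<|a (a 0<|a 0<|a 0<|a 0<|a 0<|a (-1)<|a (-1)<|a 0<|b)<|
 a (a 0<|a 0<|a 0<|a 0<|a 0<|a 1<|a 1<|a 1<|b)<|b))<|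
 c (d 3 (a (a 1<|a 0<|a 0<|a 0<|a 0<|a 0<|a 0<|a 0<|b)<|a (a 0<|a (-1)<|a 0<|a (-1)<|a 0<|a 0<|a 0<|a 0<|b)<|a (a 0<|a 0<|a 1<|a 1<|a 0<|a 0<|a 0<|a 0<|b)<|a (a 0<|a 1<|a 0<|a 1<|a 1<|a 0<|a 0<|a 0<|b)<|
 a (a 0<|a 0<|a 0<|a (-1)<|a (-1)<|a 0<|a 0<|a 0<|b)<|a (a 0<|a 0<|a 0<|a 1<|a 1<|a 1<|a 1<|a 0<|b)<|a (a 0<|a 0<|a 0<|a 0<|a 0<|a 0<|a (-1)<|a 0<|b)<|
 a (a 0<|a 0<|a 0<|a 0<|a 0<|a 0<|a 1<|a 1<|b)<|b))<|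
 c (d 6 (a (a 1<|a 0<|a 0<|a 0<|a 0<|a 0<|a 0<|a 0<|b)<|a (a 0<|a (-1)<|a 0<|a 0<|a 0<|a 0<|a 0<|a 0<|b)<|a (a 0<|a 0<|a 1<|a 0<|a 0<|a 0<|a 0<|a 0<|b)<|a (a 0<|a 1<|a 0<|a 1<|a 1<|a 0<|a 0<|a 0<|b)<|
 a (a 0<|a 0<|a 0<|a 0<|a (-1)<|a 0<|a 0<|a 0<|b)<|a (a 0<|a 0<|a 0<|a 0<|a 1<|a 1<|a 1<|a 0<|b)<|a (a 0<|a 0<|a 0<|a 0<|a 0<|a 0<|a (-1)<|a 0<|b)<|
 a (a 0<|a 0<|a 0<|a 0<|a 0<|a 0<|a 1<|a 1<|b)<|b))<|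
 c (d 4 (a (a 1<|a 0<|a 0<|a 0<|a 0<|a 0<|a 0<|a 0<|b)<|a (a 0<|a (-1)<|a 0<|a 0<|a 0<|a 0<|a 0<|a 0<|b)<|a (a 0<|a 0<|a 1<|a 0<|a 0<|a 0<|a 0<|a 0<|b)<|a (a 0<|a 1<|a 0<|a 1<|a 1<|a 0<|a 0<|a 0<|b)<|
 a (a 0<|a 0<|a 0<|a 0<|a (-1)<|a 0<|a 0<|a 0<|b)<|a (a 0<|a 0<|a 0<|a 0<|a 1<|a 1<|a 0<|a 0<|b)<|a (a 0<|a 0<|a 0<|a 0<|a 0<|a 0<|a 1<|a 0<|b)<|
 a (a 0<|a 0<|a 0<|a 0<|a 0<|a 0<|a 0<|a 1<|b)<|b))<|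
 c (d 1 (a (a 1<|a 0<|a 0<|a 0<|a 0<|a 0<|a 0<|a 0<|b)<|a (a 0<|a (-1)<|a 0<|a 0<|a 0<|a 0<|a 0<|a 0<|b)<|a (a 0<|a 0<|a 1<|a 0<|a 0<|a 0<|a 0<|a 0<|b)<|a (a 0<|a 1<|a 0<|a 1<|a 0<|a 0<|a 0<|a 0<|b)<|
 a (a 0<|a 0<|a 0<|a 0<|a 1<|a 0<|a 0<|a 0<|b)<|a (a 0<|a 0<|a 0<|a 0<|a 0<|a 1<|a 0<|a 0<|b)<|a (a 0<|a 0<|a 0<|a 0<|a 0<|a 0<|a 1<|a 0<|b)<|a (a 0<|a 0<|a 0<|a 0<|a 0<|a 0<|a 0<|a 1<|b)<|b))<|e))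

theorem ch14_ok : ChainOK Am ch14 :=
  H129.ChainF.ok H129.ChainF.i8 H129.ChainF.m8 (H129.ChainF.c8 <| H129.ChainF.c8 <| H129.ChainF.c8 <| H129.ChainF.c8 <| H129.ChainF.c8 <| H129.ChainF.c8 <| H129.ChainF.c8 <| H129.ChainF.c8 <| H129.ChainF.c8 <| H129.ChainF.nil) (by decide +kernel)

/-- coefficients of the eigenvector -/
def Ve14 : Fin 6 → Fin 8 → ℤ := (beta% delta% lq2656c60453 fun a b _ _ _ =>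
 (a (a 0<|a 0<|a 0<|a 0<|a 1<|a 1<|a 1<|a 0<|b)<|a (a 0<|a 1<|a 1<|a 2<|a 1<|a 0<|a (-1)<|a 0<|b)<|a (a 1<|a 1<|a 1<|a 1<|a 1<|a 1<|a 2<|a 0<|b)<|a (a 0<|a 0<|a 1<|a 1<|a 1<|a 1<|a (-1)<|a 0<|b)<|
 a (a 1<|a 1<|a 1<|a 2<|a 1<|a 0<|a 1<|a 0<|b)<|a (a 0<|a 0<|a 0<|a 0<|a 0<|a 1<|a 0<|a 0<|b)<|b))

/-- the functional -/
def Ue14 : Fin 8 → ℤ := ![0, 0, -1, 0, 1, 0, 0, 0]

theorem eig_14 : EigOK (hd ch14) c14 Ve14 Ue14 :=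
  H493.EigF.ok (H493.EigF.hT H493.EigF.t8) H493.EigF.r6 (H493.EigF.mc H493.EigF.r8 <| H493.EigF.mc H493.EigF.r8 <| H493.EigF.mc H493.EigF.r8 <| H493.EigF.mc H493.EigF.r8 <| H493.EigF.mc H493.EigF.r8 <| H493.EigF.mc H493.EigF.r8 <| H493.EigF.m0) H493.EigF.r8 (by decide +kernel)

theorem rel14 {F : Type u} [Field F] [Finite F] {r s : ℕ} (hr : r.Prime) (hs : s.Prime) (hrs : r ≠ s)
    (h1 : phiC c14 (Nat.card F) 1 r) (h2 : phiC c14 (Nat.card F) 1 s) :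
    PG.Rel ↥(chevE8.group F) r s := by
  have := finW
  exact rel_of_eig hp CoxeterMatrix.E₈.toCoxeterSystem H129.TorusChar.invC_E8 one_ne_zero
    (chain_rep hp CoxeterMatrix.E₈.toCoxeterSystem hA ch14_ok) eig_14 eig_14 hr hs hrs h1.1 h2.1 h1.2 h2.2

/-- partial products of an element with characteristic polynomial divisible by the cyclotomic polynomial 15 -/
def ch15 : List (Fin 8 × Mat 8) := (beta% delta% lq2656c60453 fun a b c d e =>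
 (c (d 0 (a (a 0<|a 1<|a 0<|a 1<|a 0<|a 0<|a 0<|a 0<|b)<|a (a 0<|a 1<|a 1<|a 1<|a 1<|a 0<|a 0<|a 0<|b)<|a (a 1<|a 0<|a 1<|a 1<|a 1<|a 0<|a 0<|a 0<|b)<|a (a 0<|a 0<|a 0<|a 0<|a 0<|a 1<|a 0<|a 0<|b)<|
 a (a 0<|a 0<|a 0<|a 0<|a 0<|a 0<|a 1<|a 0<|b)<|a (a 0<|a 0<|a 0<|a 0<|a 0<|a 0<|a 0<|a 1<|b)<|a (a (-1)<|a (-1)<|a (-1)<|a (-1)<|a (-1)<|a (-1)<|a (-1)<|a (-1)<|b)<|
 a (a 0<|a 0<|a (-1)<|a (-1)<|a 0<|a 0<|a 0<|a 0<|b)<|b))<|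
 c (d 1 (a (a 0<|a 1<|a 0<|a 1<|a 0<|a 0<|a 0<|a 0<|b)<|a (a 1<|a 1<|a 1<|a 1<|a 1<|a 0<|a 0<|a 0<|b)<|a (a 0<|a 0<|a 1<|a 1<|a 1<|a 0<|a 0<|a 0<|b)<|a (a 0<|a 0<|a 0<|a 0<|a 0<|a 1<|a 0<|a 0<|b)<|
 a (a 0<|a 0<|a 0<|a 0<|a 0<|a 0<|a 1<|a 0<|b)<|a (a 0<|a 0<|a 0<|a 0<|a 0<|a 0<|a 0<|a 1<|b)<|a (a 0<|a (-1)<|a (-1)<|a (-1)<|a (-1)<|a (-1)<|a (-1)<|a (-1)<|b)<|
 a (a (-1)<|a 0<|a (-1)<|a (-1)<|a 0<|a 0<|a 0<|a 0<|b)<|b))<|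
 c (d 2 (a (a 0<|a 0<|a 0<|a 1<|a 0<|a 0<|a 0<|a 0<|b)<|a (a 1<|a 0<|a 1<|a 1<|a 1<|a 0<|a 0<|a 0<|b)<|a (a 0<|a 1<|a 1<|a 1<|a 1<|a 0<|a 0<|a 0<|b)<|a (a 0<|a 0<|a 0<|a 0<|a 0<|a 1<|a 0<|a 0<|b)<|
 a (a 0<|a 0<|a 0<|a 0<|a 0<|a 0<|a 1<|a 0<|b)<|a (a 0<|a 0<|a 0<|a 0<|a 0<|a 0<|a 0<|a 1<|b)<|a (a 0<|a 0<|a (-1)<|a (-1)<|a (-1)<|a (-1)<|a (-1)<|a (-1)<|b)<|
 a (a (-1)<|a (-1)<|a (-1)<|a (-1)<|a 0<|a 0<|a 0<|a 0<|b)<|b))<|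
 c (d 3 (a (a 0<|a 0<|a 1<|a 1<|a 0<|a 0<|a 0<|a 0<|b)<|a (a 1<|a 0<|a 1<|a 1<|a 1<|a 0<|a 0<|a 0<|b)<|a (a 0<|a 1<|a 0<|a 1<|a 1<|a 0<|a 0<|a 0<|b)<|a (a 0<|a 0<|a 0<|a 0<|a 0<|a 1<|a 0<|a 0<|b)<|
 a (a 0<|a 0<|a 0<|a 0<|a 0<|a 0<|a 1<|a 0<|b)<|a (a 0<|a 0<|a 0<|a 0<|a 0<|a 0<|a 0<|a 1<|b)<|a (a 0<|a 0<|a 0<|a (-1)<|a (-1)<|a (-1)<|a (-1)<|a (-1)<|b)<|
 a (a (-1)<|a (-1)<|a (-1)<|a (-1)<|a 0<|a 0<|a 0<|a 0<|b)<|b))<|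
 c (d 4 (a (a 0<|a 0<|a 1<|a 0<|a 0<|a 0<|a 0<|a 0<|b)<|a (a 1<|a 0<|a 1<|a 1<|a 1<|a 0<|a 0<|a 0<|b)<|a (a 0<|a 1<|a 0<|a 1<|a 1<|a 0<|a 0<|a 0<|b)<|a (a 0<|a 0<|a 0<|a 0<|a 0<|a 1<|a 0<|a 0<|b)<|
 a (a 0<|a 0<|a 0<|a 0<|a 0<|a 0<|a 1<|a 0<|b)<|a (a 0<|a 0<|a 0<|a 0<|a 0<|a 0<|a 0<|a 1<|b)<|a (a 0<|a 0<|a 0<|a 0<|a (-1)<|a (-1)<|a (-1)<|a (-1)<|b)<|
 a (a (-1)<|a (-1)<|a (-1)<|a (-1)<|a 0<|a 0<|a 0<|a 0<|b)<|b))<|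
 c (d 5 (a (a 0<|a 0<|a 1<|a 0<|a 0<|a 0<|a 0<|a 0<|b)<|a (a 1<|a 0<|a 1<|a 1<|a 0<|a 0<|a 0<|a 0<|b)<|a (a 0<|a 1<|a 0<|a 1<|a 0<|a 0<|a 0<|a 0<|b)<|a (a 0<|a 0<|a 0<|a 0<|a 1<|a 1<|a 0<|a 0<|b)<|
 a (a 0<|a 0<|a 0<|a 0<|a 0<|a 0<|a 1<|a 0<|b)<|a (a 0<|a 0<|a 0<|a 0<|a 0<|a 0<|a 0<|a 1<|b)<|a (a 0<|a 0<|a 0<|a 0<|a 0<|a (-1)<|a (-1)<|a (-1)<|b)<|
 a (a (-1)<|a (-1)<|a (-1)<|a (-1)<|a (-1)<|a 0<|a 0<|a 0<|b)<|b))<|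
 c (d 6 (a (a 0<|a 0<|a 1<|a 0<|a 0<|a 0<|a 0<|a 0<|b)<|a (a 1<|a 0<|a 1<|a 1<|a 0<|a 0<|a 0<|a 0<|b)<|a (a 0<|a 1<|a 0<|a 1<|a 0<|a 0<|a 0<|a 0<|b)<|a (a 0<|a 0<|a 0<|a 0<|a 1<|a 0<|a 0<|a 0<|b)<|
 a (a 0<|a 0<|a 0<|a 0<|a 0<|a 1<|a 1<|a 0<|b)<|a (a 0<|a 0<|a 0<|a 0<|a 0<|a 0<|a 0<|a 1<|b)<|a (a 0<|a 0<|a 0<|a 0<|a 0<|a 0<|a (-1)<|a (-1)<|b)<|
 a (a (-1)<|a (-1)<|a (-1)<|a (-1)<|a (-1)<|a (-1)<|a 0<|a 0<|b)<|b))<|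
 c (d 7 (a (a 0<|a 0<|a 1<|a 0<|a 0<|a 0<|a 0<|a 0<|b)<|a (a 1<|a 0<|a 1<|a 1<|a 0<|a 0<|a 0<|a 0<|b)<|a (a 0<|a 1<|a 0<|a 1<|a 0<|a 0<|a 0<|a 0<|b)<|a (a 0<|a 0<|a 0<|a 0<|a 1<|a 0<|a 0<|a 0<|b)<|
 a (a 0<|a 0<|a 0<|a 0<|a 0<|a 1<|a 0<|a 0<|b)<|a (a 0<|a 0<|a 0<|a 0<|a 0<|a 0<|a 1<|a 1<|b)<|a (a 0<|a 0<|a 0<|a 0<|a 0<|a 0<|a 0<|a (-1)<|b)<|
 a (a (-1)<|a (-1)<|a (-1)<|a (-1)<|a (-1)<|a (-1)<|a (-1)<|a 0<|b)<|b))<|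
 c (d 0 (a (a 0<|a 0<|a 1<|a 0<|a 0<|a 0<|a 0<|a 0<|b)<|a (a 1<|a 0<|a 1<|a 1<|a 0<|a 0<|a 0<|a 0<|b)<|a (a 0<|a 1<|a 0<|a 1<|a 0<|a 0<|a 0<|a 0<|b)<|a (a 0<|a 0<|a 0<|a 0<|a 1<|a 0<|a 0<|a 0<|b)<|
 a (a 0<|a 0<|a 0<|a 0<|a 0<|a 1<|a 0<|a 0<|b)<|a (a 0<|a 0<|a 0<|a 0<|a 0<|a 0<|a 1<|a 0<|b)<|a (a 0<|a 0<|a 0<|a 0<|a 0<|a 0<|a 0<|a 1<|b)<|
 a (a (-1)<|a (-1)<|a (-1)<|a (-1)<|a (-1)<|a (-1)<|a (-1)<|a (-1)<|b)<|b))<|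
 c (d 1 (a (a 1<|a 0<|a 1<|a 0<|a 0<|a 0<|a 0<|a 0<|b)<|a (a 0<|a 0<|a 1<|a 1<|a 0<|a 0<|a 0<|a 0<|b)<|a (a 0<|a 1<|a 0<|a 1<|a 0<|a 0<|a 0<|a 0<|b)<|a (a 0<|a 0<|a 0<|a 0<|a 1<|a 0<|a 0<|a 0<|b)<|
 a (a 0<|a 0<|a 0<|a 0<|a 0<|a 1<|a 0<|a 0<|b)<|a (a 0<|a 0<|a 0<|a 0<|a 0<|a 0<|a 1<|a 0<|b)<|a (a 0<|a 0<|a 0<|a 0<|a 0<|a 0<|a 0<|a 1<|b)<|
 a (a 0<|a (-1)<|a (-1)<|a (-1)<|a (-1)<|a (-1)<|a (-1)<|a (-1)<|b)<|b))<|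
 c (d 2 (a (a 1<|a 0<|a 1<|a 0<|a 0<|a 0<|a 0<|a 0<|b)<|a (a 0<|a 1<|a 1<|a 1<|a 0<|a 0<|a 0<|a 0<|b)<|a (a 0<|a 0<|a 0<|a 1<|a 0<|a 0<|a 0<|a 0<|b)<|a (a 0<|a 0<|a 0<|a 0<|a 1<|a 0<|a 0<|a 0<|b)<|
 a (a 0<|a 0<|a 0<|a 0<|a 0<|a 1<|a 0<|a 0<|b)<|a (a 0<|a 0<|a 0<|a 0<|a 0<|a 0<|a 1<|a 0<|b)<|a (a 0<|a 0<|a 0<|a 0<|a 0<|a 0<|a 0<|a 1<|b)<|
 a (a 0<|a 0<|a (-1)<|a (-1)<|a (-1)<|a (-1)<|a (-1)<|a (-1)<|b)<|b))<|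
 c (d 3 (a (a 1<|a 0<|a 0<|a 0<|a 0<|a 0<|a 0<|a 0<|b)<|a (a 0<|a 1<|a 0<|a 1<|a 0<|a 0<|a 0<|a 0<|b)<|a (a 0<|a 0<|a 1<|a 1<|a 0<|a 0<|a 0<|a 0<|b)<|a (a 0<|a 0<|a 0<|a 0<|a 1<|a 0<|a 0<|a 0<|b)<|
 a (a 0<|a 0<|a 0<|a 0<|a 0<|a 1<|a 0<|a 0<|b)<|a (a 0<|a 0<|a 0<|a 0<|a 0<|a 0<|a 1<|a 0<|b)<|a (a 0<|a 0<|a 0<|a 0<|a 0<|a 0<|a 0<|a 1<|b)<|
 a (a 0<|a 0<|a 0<|a (-1)<|a (-1)<|a (-1)<|a (-1)<|a (-1)<|b)<|b))<|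
 c (d 4 (a (a 1<|a 0<|a 0<|a 0<|a 0<|a 0<|a 0<|a 0<|b)<|a (a 0<|a 1<|a 0<|a 0<|a 0<|a 0<|a 0<|a 0<|b)<|a (a 0<|a 0<|a 1<|a 0<|a 0<|a 0<|a 0<|a 0<|b)<|a (a 0<|a 0<|a 0<|a 1<|a 1<|a 0<|a 0<|a 0<|b)<|
 a (a 0<|a 0<|a 0<|a 0<|a 0<|a 1<|a 0<|a 0<|b)<|a (a 0<|a 0<|a 0<|a 0<|a 0<|a 0<|a 1<|a 0<|b)<|a (a 0<|a 0<|a 0<|a 0<|a 0<|a 0<|a 0<|a 1<|b)<|
 a (a 0<|a 0<|a 0<|a 0<|a (-1)<|a (-1)<|a (-1)<|a (-1)<|b)<|b))<|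
 c (d 5 (a (a 1<|a 0<|a 0<|a 0<|a 0<|a 0<|a 0<|a 0<|b)<|a (a 0<|a 1<|a 0<|a 0<|a 0<|a 0<|a 0<|a 0<|b)<|a (a 0<|a 0<|a 1<|a 0<|a 0<|a 0<|a 0<|a 0<|b)<|a (a 0<|a 0<|a 0<|a 1<|a 0<|a 0<|a 0<|a 0<|b)<|
 a (a 0<|a 0<|a 0<|a 0<|a 1<|a 1<|a 0<|a 0<|b)<|a (a 0<|a 0<|a 0<|a 0<|a 0<|a 0<|a 1<|a 0<|b)<|a (a 0<|a 0<|a 0<|a 0<|a 0<|a 0<|a 0<|a 1<|b)<|
 a (a 0<|a 0<|a 0<|a 0<|a 0<|a (-1)<|a (-1)<|a (-1)<|b)<|b))<|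
 c (d 6 (a (a 1<|a 0<|a 0<|a 0<|a 0<|a 0<|a 0<|a 0<|b)<|a (a 0<|a 1<|a 0<|a 0<|a 0<|a 0<|a 0<|a 0<|b)<|a (a 0<|a 0<|a 1<|a 0<|a 0<|a 0<|a 0<|a 0<|b)<|a (a 0<|a 0<|a 0<|a 1<|a 0<|a 0<|a 0<|a 0<|b)<|
 a (a 0<|a 0<|a 0<|a 0<|a 1<|a 0<|a 0<|a 0<|b)<|a (a 0<|a 0<|a 0<|a 0<|a 0<|a 1<|a 1<|a 0<|b)<|a (a 0<|a 0<|a 0<|a 0<|a 0<|a 0<|a 0<|a 1<|b)<|
 a (a 0<|a 0<|a 0<|a 0<|a 0<|a 0<|a (-1)<|a (-1)<|b)<|b))<|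
 c (d 7 (a (a 1<|a 0<|a 0<|a 0<|a 0<|a 0<|a 0<|a 0<|b)<|a (a 0<|a 1<|a 0<|a 0<|a 0<|a 0<|a 0<|a 0<|b)<|a (a 0<|a 0<|a 1<|a 0<|a 0<|a 0<|a 0<|a 0<|b)<|a (a 0<|a 0<|a 0<|a 1<|a 0<|a 0<|a 0<|a 0<|b)<|
 a (a 0<|a 0<|a 0<|a 0<|a 1<|a 0<|a 0<|a 0<|b)<|a (a 0<|a 0<|a 0<|a 0<|a 0<|a 1<|a 0<|a 0<|b)<|a (a 0<|a 0<|a 0<|a 0<|a 0<|a 0<|a 1<|a 1<|b)<|
 a (a 0<|a 0<|a 0<|a 0<|a 0<|a 0<|a 0<|a (-1)<|b)<|b))<|e))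

theorem ch15_ok : ChainOK Am ch15 :=
  H129.ChainF.ok H129.ChainF.i8 H129.ChainF.m8 (H129.ChainF.c8 <| H129.ChainF.c8 <| H129.ChainF.c8 <| H129.ChainF.c8 <| H129.ChainF.c8 <| H129.ChainF.c8 <| H129.ChainF.c8 <| H129.ChainF.c8 <| H129.ChainF.c8 <| H129.ChainF.c8 <| H129.ChainF.c8 <| H129.ChainF.c8 <| H129.ChainF.c8 <| H129.ChainF.c8 <| H129.ChainF.c8 <| H129.ChainF.c8 <| H129.ChainF.nil) (by decide +kernel)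

/-- coefficients of the eigenvector -/
def Ve15 : Fin 8 → Fin 8 → ℤ := (beta% delta% lq2656c60453 fun a b _ _ _ =>
 (a (a 0<|a 1<|a 0<|a 1<|a 1<|a 1<|a 1<|a 0<|b)<|a (a 1<|a 0<|a 1<|a 1<|a 1<|a 0<|a 0<|a 1<|b)<|a (a 0<|a 0<|a 1<|a 0<|a 0<|a 1<|a 0<|a 0<|b)<|a (a (-1)<|a 1<|a (-1)<|a 1<|a 0<|a 0<|a 0<|a (-1)<|b)<|
 a (a 2<|a 0<|a 1<|a 1<|a 1<|a 0<|a 1<|a 1<|b)<|a (a 0<|a 0<|a 1<|a 0<|a 1<|a 1<|a 0<|a 0<|b)<|a (a (-1)<|a 1<|a 0<|a 1<|a 0<|a 0<|a 0<|a 0<|b)<|a (a 1<|a 0<|a 0<|a 0<|a 0<|a 0<|a 0<|a 0<|b)<|b))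

/-- the functional -/
def Ue15 : Fin 8 → ℤ := ![0, 0, -1, 0, 0, 1, 0, 1]

theorem eig_15 : EigOK (hd ch15) c15 Ve15 Ue15 :=
  H493.EigF.ok (H493.EigF.hT H493.EigF.t8) H493.EigF.r8 (H493.EigF.mc H493.EigF.r8 <| H493.EigF.mc H493.EigF.r8 <| H493.EigF.mc H493.EigF.r8 <| H493.EigF.mc H493.EigF.r8 <| H493.EigF.mc H493.EigF.r8 <| H493.EigF.mc H493.EigF.r8 <| H493.EigF.mc H493.EigF.r8 <| H493.EigF.mc H493.EigF.r8 <| H493.EigF.m0) H493.EigF.r8 (by decide +kernel)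

theorem rel15 {F : Type u} [Field F] [Finite F] {r s : ℕ} (hr : r.Prime) (hs : s.Prime) (hrs : r ≠ s)
    (h1 : phiC c15 (Nat.card F) 1 r) (h2 : phiC c15 (Nat.card F) 1 s) :
    PG.Rel ↥(chevE8.group F) r s := by
  have := finW
  exact rel_of_eig hp CoxeterMatrix.E₈.toCoxeterSystem H129.TorusChar.invC_E8 one_ne_zero
    (chain_rep hp CoxeterMatrix.E₈.toCoxeterSystem hA ch15_ok) eig_15 eig_15 hr hs hrs h1.1 h2.1 h1.2 h2.2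

/-- partial products of an element with characteristic polynomial divisible by the cyclotomic polynomial 18 -/
def ch18 : List (Fin 8 × Mat 8) := (beta% delta% lq2656c60453 fun a b c d e =>
 (c (d 0 (a (a 0<|a 0<|a 1<|a 0<|a 0<|a 0<|a 0<|a 0<|b)<|a (a 1<|a 0<|a 1<|a 1<|a 0<|a 0<|a 0<|a 0<|b)<|a (a 0<|a 1<|a 0<|a 1<|a 0<|a 0<|a 0<|a 0<|b)<|a (a 0<|a 0<|a 0<|a 0<|a 1<|a 0<|a 0<|a 0<|b)<|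
 a (a 0<|a 0<|a 0<|a 0<|a 0<|a 1<|a 0<|a 0<|b)<|a (a 0<|a 0<|a 0<|a 0<|a 0<|a 0<|a 1<|a 0<|b)<|a (a (-1)<|a (-1)<|a (-1)<|a (-1)<|a (-1)<|a (-1)<|a (-1)<|a 0<|b)<|
 a (a 1<|a 1<|a 1<|a 1<|a 1<|a 1<|a 1<|a 1<|b)<|b))<|
 c (d 1 (a (a 1<|a 0<|a 1<|a 0<|a 0<|a 0<|a 0<|a 0<|b)<|a (a 0<|a 0<|a 1<|a 1<|a 0<|a 0<|a 0<|a 0<|b)<|a (a 0<|a 1<|a 0<|a 1<|a 0<|a 0<|a 0<|a 0<|b)<|a (a 0<|a 0<|a 0<|a 0<|a 1<|a 0<|a 0<|a 0<|b)<|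
 a (a 0<|a 0<|a 0<|a 0<|a 0<|a 1<|a 0<|a 0<|b)<|a (a 0<|a 0<|a 0<|a 0<|a 0<|a 0<|a 1<|a 0<|b)<|a (a 0<|a (-1)<|a (-1)<|a (-1)<|a (-1)<|a (-1)<|a (-1)<|a 0<|b)<|
 a (a 0<|a 1<|a 1<|a 1<|a 1<|a 1<|a 1<|a 1<|b)<|b))<|
 c (d 2 (a (a 1<|a 0<|a 1<|a 0<|a 0<|a 0<|a 0<|a 0<|b)<|a (a 0<|a 1<|a 1<|a 1<|a 0<|a 0<|a 0<|a 0<|b)<|a (a 0<|a 0<|a 0<|a 1<|a 0<|a 0<|a 0<|a 0<|b)<|a (a 0<|a 0<|a 0<|a 0<|a 1<|a 0<|a 0<|a 0<|b)<|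
 a (a 0<|a 0<|a 0<|a 0<|a 0<|a 1<|a 0<|a 0<|b)<|a (a 0<|a 0<|a 0<|a 0<|a 0<|a 0<|a 1<|a 0<|b)<|a (a 0<|a 0<|a (-1)<|a (-1)<|a (-1)<|a (-1)<|a (-1)<|a 0<|b)<|
 a (a 0<|a 0<|a 1<|a 1<|a 1<|a 1<|a 1<|a 1<|b)<|b))<|
 c (d 3 (a (a 1<|a 0<|a 0<|a 0<|a 0<|a 0<|a 0<|a 0<|b)<|a (a 0<|a 1<|a 0<|a 1<|a 0<|a 0<|a 0<|a 0<|b)<|a (a 0<|a 0<|a 1<|a 1<|a 0<|a 0<|a 0<|a 0<|b)<|a (a 0<|a 0<|a 0<|a 0<|a 1<|a 0<|a 0<|a 0<|b)<|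
 a (a 0<|a 0<|a 0<|a 0<|a 0<|a 1<|a 0<|a 0<|b)<|a (a 0<|a 0<|a 0<|a 0<|a 0<|a 0<|a 1<|a 0<|b)<|a (a 0<|a 0<|a 0<|a (-1)<|a (-1)<|a (-1)<|a (-1)<|a 0<|b)<|
 a (a 0<|a 0<|a 0<|a 1<|a 1<|a 1<|a 1<|a 1<|b)<|b))<|
 c (d 4 (a (a 1<|a 0<|a 0<|a 0<|a 0<|a 0<|a 0<|a 0<|b)<|a (a 0<|a 1<|a 0<|a 0<|a 0<|a 0<|a 0<|a 0<|b)<|a (a 0<|a 0<|a 1<|a 0<|a 0<|a 0<|a 0<|a 0<|b)<|a (a 0<|a 0<|a 0<|a 1<|a 1<|a 0<|a 0<|a 0<|b)<|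
 a (a 0<|a 0<|a 0<|a 0<|a 0<|a 1<|a 0<|a 0<|b)<|a (a 0<|a 0<|a 0<|a 0<|a 0<|a 0<|a 1<|a 0<|b)<|a (a 0<|a 0<|a 0<|a 0<|a (-1)<|a (-1)<|a (-1)<|a 0<|b)<|
 a (a 0<|a 0<|a 0<|a 0<|a 1<|a 1<|a 1<|a 1<|b)<|b))<|
 c (d 5 (a (a 1<|a 0<|a 0<|a 0<|a 0<|a 0<|a 0<|a 0<|b)<|a (a 0<|a 1<|a 0<|a 0<|a 0<|a 0<|a 0<|a 0<|b)<|a (a 0<|a 0<|a 1<|a 0<|a 0<|a 0<|a 0<|a 0<|b)<|a (a 0<|a 0<|a 0<|a 1<|a 0<|a 0<|a 0<|a 0<|b)<|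
 a (a 0<|a 0<|a 0<|a 0<|a 1<|a 1<|a 0<|a 0<|b)<|a (a 0<|a 0<|a 0<|a 0<|a 0<|a 0<|a 1<|a 0<|b)<|a (a 0<|a 0<|a 0<|a 0<|a 0<|a (-1)<|a (-1)<|a 0<|b)<|
 a (a 0<|a 0<|a 0<|a 0<|a 0<|a 1<|a 1<|a 1<|b)<|b))<|
 c (d 6 (a (a 1<|a 0<|a 0<|a 0<|a 0<|a 0<|a 0<|a 0<|b)<|a (a 0<|a 1<|a 0<|a 0<|a 0<|a 0<|a 0<|a 0<|b)<|a (a 0<|a 0<|a 1<|a 0<|a 0<|a 0<|a 0<|a 0<|b)<|a (a 0<|a 0<|a 0<|a 1<|a 0<|a 0<|a 0<|a 0<|b)<|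
 a (a 0<|a 0<|a 0<|a 0<|a 1<|a 0<|a 0<|a 0<|b)<|a (a 0<|a 0<|a 0<|a 0<|a 0<|a 1<|a 1<|a 0<|b)<|a (a 0<|a 0<|a 0<|a 0<|a 0<|a 0<|a (-1)<|a 0<|b)<|
 a (a 0<|a 0<|a 0<|a 0<|a 0<|a 0<|a 1<|a 1<|b)<|b))<|e))

theorem ch18_ok : ChainOK Am ch18 :=
  H129.ChainF.ok H129.ChainF.i8 H129.ChainF.m8 (H129.ChainF.c8 <| H129.ChainF.c8 <| H129.ChainF.c8 <| H129.ChainF.c8 <| H129.ChainF.c8 <| H129.ChainF.c8 <| H129.ChainF.c8 <| H129.ChainF.nil) (by decide +kernel)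

/-- coefficients of the eigenvector -/
def Ve18 : Fin 6 → Fin 8 → ℤ := (beta% delta% lq2656c60453 fun a b _ _ _ =>
 (a (a (-1)<|a 0<|a 0<|a 0<|a 0<|a 0<|a 0<|a 0<|b)<|a (a 1<|a 0<|a 1<|a 1<|a 1<|a 1<|a 1<|a 0<|b)<|a (a 0<|a 1<|a 0<|a 1<|a 1<|a 1<|a 0<|a 0<|b)<|a (a 1<|a 0<|a 1<|a 1<|a 1<|a 0<|a 0<|a 0<|b)<|
 a (a 0<|a 1<|a 0<|a 1<|a 0<|a 0<|a 0<|a 0<|b)<|a (a 0<|a 0<|a 1<|a 0<|a 0<|a 0<|a 0<|a 0<|b)<|b))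

/-- the functional -/
def Ue18 : Fin 8 → ℤ := ![-1, -1, 0, 1, 0, 0, 0, 0]

theorem eig_18 : EigOK (hd ch18) c18 Ve18 Ue18 :=
  H493.EigF.ok (H493.EigF.hT H493.EigF.t8) H493.EigF.r6 (H493.EigF.mc H493.EigF.r8 <| H493.EigF.mc H493.EigF.r8 <| H493.EigF.mc H493.EigF.r8 <| H493.EigF.mc H493.EigF.r8 <| H493.EigF.mc H493.EigF.r8 <| H493.EigF.mc H493.EigF.r8 <| H493.EigF.m0) H493.EigF.r8 (by decide +kernel)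

theorem rel18 {F : Type u} [Field F] [Finite F] {r s : ℕ} (hr : r.Prime) (hs : s.Prime) (hrs : r ≠ s)
    (h1 : phiC c18 (Nat.card F) 1 r) (h2 : phiC c18 (Nat.card F) 1 s) :
    PG.Rel ↥(chevE8.group F) r s := by
  have := finW
  exact rel_of_eig hp CoxeterMatrix.E₈.toCoxeterSystem H129.TorusChar.invC_E8 one_ne_zero
    (chain_rep hp CoxeterMatrix.E₈.toCoxeterSystem hA ch18_ok) eig_18 eig_18 hr hs hrs h1.1 h2.1 h1.2 h2.2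

/-- partial products of an element with characteristic polynomial divisible by the cyclotomic polynomial 20 -/
def ch20 : List (Fin 8 × Mat 8) := (beta% delta% lq2656c60453 fun a b c d e =>
 (c (d 7 (a (a 0<|a 1<|a 1<|a 2<|a 1<|a 1<|a 0<|a 0<|b)<|a (a 1<|a 0<|a 1<|a 1<|a 0<|a 0<|a 0<|a 0<|b)<|a (a 0<|a (-1)<|a 0<|a (-1)<|a 0<|a 0<|a 0<|a 0<|b)<|a (a 0<|a 1<|a 0<|a 0<|a 0<|a 0<|a 0<|a 0<|b)<|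
 a (a (-1)<|a (-1)<|a (-1)<|a (-1)<|a (-1)<|a (-1)<|a 0<|a 0<|b)<|a (a 1<|a 1<|a 1<|a 2<|a 2<|a 2<|a 1<|a 1<|b)<|a (a 0<|a 0<|a 0<|a 0<|a 0<|a (-1)<|a (-1)<|a (-1)<|b)<|
 a (a 0<|a 0<|a 0<|a 0<|a 0<|a 1<|a 1<|a 0<|b)<|b))<|
 c (d 5 (a (a 0<|a 1<|a 1<|a 2<|a 1<|a 1<|a 0<|a 0<|b)<|a (a 1<|a 0<|a 1<|a 1<|a 0<|a 0<|a 0<|a 0<|b)<|a (a 0<|a (-1)<|a 0<|a (-1)<|a 0<|a 0<|a 0<|a 0<|b)<|a (a 0<|a 1<|a 0<|a 0<|a 0<|a 0<|a 0<|a 0<|b)<|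
 a (a (-1)<|a (-1)<|a (-1)<|a (-1)<|a (-1)<|a (-1)<|a 0<|a 0<|b)<|a (a 1<|a 1<|a 1<|a 2<|a 2<|a 2<|a 1<|a 0<|b)<|a (a 0<|a 0<|a 0<|a 0<|a 0<|a (-1)<|a (-1)<|a 0<|b)<|
 a (a 0<|a 0<|a 0<|a 0<|a 0<|a 1<|a 1<|a 1<|b)<|b))<|
 c (d 0 (a (a 0<|a 1<|a 1<|a 2<|a 1<|a 0<|a 0<|a 0<|b)<|a (a 1<|a 0<|a 1<|a 1<|a 0<|a 0<|a 0<|a 0<|b)<|a (a 0<|a (-1)<|a 0<|a (-1)<|a 0<|a 0<|a 0<|a 0<|b)<|a (a 0<|a 1<|a 0<|a 0<|a 0<|a 0<|a 0<|a 0<|b)<|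
 a (a (-1)<|a (-1)<|a (-1)<|a (-1)<|a (-1)<|a 0<|a 0<|a 0<|b)<|a (a 1<|a 1<|a 1<|a 2<|a 2<|a 1<|a 1<|a 0<|b)<|a (a 0<|a 0<|a 0<|a 0<|a 0<|a 0<|a (-1)<|a 0<|b)<|
 a (a 0<|a 0<|a 0<|a 0<|a 0<|a 0<|a 1<|a 1<|b)<|b))<|
 c (d 4 (a (a 1<|a 1<|a 1<|a 2<|a 1<|a 0<|a 0<|a 0<|b)<|a (a 0<|a 0<|a 1<|a 1<|a 0<|a 0<|a 0<|a 0<|b)<|a (a 0<|a (-1)<|a 0<|a (-1)<|a 0<|a 0<|a 0<|a 0<|b)<|a (a 0<|a 1<|a 0<|a 0<|a 0<|a 0<|a 0<|a 0<|b)<|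
 a (a 0<|a (-1)<|a (-1)<|a (-1)<|a (-1)<|a 0<|a 0<|a 0<|b)<|a (a 0<|a 1<|a 1<|a 2<|a 2<|a 1<|a 1<|a 0<|b)<|a (a 0<|a 0<|a 0<|a 0<|a 0<|a 0<|a (-1)<|a 0<|b)<|
 a (a 0<|a 0<|a 0<|a 0<|a 0<|a 0<|a 1<|a 1<|b)<|b))<|
 c (d 3 (a (a 1<|a 1<|a 1<|a 2<|a 1<|a 0<|a 0<|a 0<|b)<|a (a 0<|a 0<|a 1<|a 1<|a 1<|a 0<|a 0<|a 0<|b)<|a (a 0<|a (-1)<|a 0<|a (-1)<|a (-1)<|a 0<|a 0<|a 0<|b)<|a (a 0<|a 1<|a 0<|a 0<|a 0<|a 0<|a 0<|a 0<|b)<|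
 a (a 0<|a (-1)<|a (-1)<|a (-1)<|a 0<|a 0<|a 0<|a 0<|b)<|a (a 0<|a 1<|a 1<|a 2<|a 1<|a 1<|a 1<|a 0<|b)<|a (a 0<|a 0<|a 0<|a 0<|a 0<|a 0<|a (-1)<|a 0<|b)<|
 a (a 0<|a 0<|a 0<|a 0<|a 0<|a 0<|a 1<|a 1<|b)<|b))<|
 c (d 5 (a (a 1<|a 1<|a 1<|a 1<|a 1<|a 0<|a 0<|a 0<|b)<|a (a 0<|a 0<|a 1<|a 1<|a 1<|a 0<|a 0<|a 0<|b)<|a (a 0<|a (-1)<|a 0<|a (-1)<|a (-1)<|a 0<|a 0<|a 0<|b)<|a (a 0<|a 1<|a 0<|a 1<|a 0<|a 0<|a 0<|a 0<|b)<|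
 a (a 0<|a (-1)<|a (-1)<|a (-1)<|a 0<|a 0<|a 0<|a 0<|b)<|a (a 0<|a 1<|a 1<|a 1<|a 1<|a 1<|a 1<|a 0<|b)<|a (a 0<|a 0<|a 0<|a 0<|a 0<|a 0<|a (-1)<|a 0<|b)<|
 a (a 0<|a 0<|a 0<|a 0<|a 0<|a 0<|a 1<|a 1<|b)<|b))<|
 c (d 5 (a (a 1<|a 1<|a 1<|a 1<|a 1<|a 1<|a 0<|a 0<|b)<|a (a 0<|a 0<|a 1<|a 1<|a 1<|a 1<|a 0<|a 0<|b)<|a (a 0<|a (-1)<|a 0<|a (-1)<|a (-1)<|a (-1)<|a 0<|a 0<|b)<|a (a 0<|a 1<|a 0<|a 1<|a 0<|a 0<|a 0<|a 0<|b)<|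
 a (a 0<|a (-1)<|a (-1)<|a (-1)<|a 0<|a 0<|a 0<|a 0<|b)<|a (a 0<|a 1<|a 1<|a 1<|a 1<|a 1<|a 1<|a 0<|b)<|a (a 0<|a 0<|a 0<|a 0<|a 0<|a (-1)<|a (-1)<|a 0<|b)<|
 a (a 0<|a 0<|a 0<|a 0<|a 0<|a 1<|a 1<|a 1<|b)<|b))<|
 c (d 1 (a (a 1<|a 1<|a 1<|a 1<|a 1<|a 0<|a 0<|a 0<|b)<|a (a 0<|a 0<|a 1<|a 1<|a 1<|a 0<|a 0<|a 0<|b)<|a (a 0<|a (-1)<|a 0<|a (-1)<|a (-1)<|a 0<|a 0<|a 0<|b)<|a (a 0<|a 1<|a 0<|a 1<|a 0<|a 0<|a 0<|a 0<|b)<|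
 a (a 0<|a (-1)<|a (-1)<|a (-1)<|a 0<|a 0<|a 0<|a 0<|b)<|a (a 0<|a 1<|a 1<|a 1<|a 1<|a 1<|a 1<|a 0<|b)<|a (a 0<|a 0<|a 0<|a 0<|a 0<|a 0<|a (-1)<|a 0<|b)<|
 a (a 0<|a 0<|a 0<|a 0<|a 0<|a 0<|a 1<|a 1<|b)<|b))<|
 c (d 6 (a (a 1<|a 0<|a 1<|a 1<|a 1<|a 0<|a 0<|a 0<|b)<|a (a 0<|a 1<|a 1<|a 1<|a 1<|a 0<|a 0<|a 0<|b)<|a (a 0<|a 0<|a 0<|a (-1)<|a (-1)<|a 0<|a 0<|a 0<|b)<|a (a 0<|a 0<|a 0<|a 1<|a 0<|a 0<|a 0<|a 0<|b)<|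
 a (a 0<|a 0<|a (-1)<|a (-1)<|a 0<|a 0<|a 0<|a 0<|b)<|a (a 0<|a 0<|a 1<|a 1<|a 1<|a 1<|a 1<|a 0<|b)<|a (a 0<|a 0<|a 0<|a 0<|a 0<|a 0<|a (-1)<|a 0<|b)<|
 a (a 0<|a 0<|a 0<|a 0<|a 0<|a 0<|a 1<|a 1<|b)<|b))<|
 c (d 2 (a (a 1<|a 0<|a 1<|a 1<|a 1<|a 0<|a 0<|a 0<|b)<|a (a 0<|a 1<|a 1<|a 1<|a 1<|a 0<|a 0<|a 0<|b)<|a (a 0<|a 0<|a 0<|a (-1)<|a (-1)<|a 0<|a 0<|a 0<|b)<|a (a 0<|a 0<|a 0<|a 1<|a 0<|a 0<|a 0<|a 0<|b)<|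
 a (a 0<|a 0<|a (-1)<|a (-1)<|a 0<|a 0<|a 0<|a 0<|b)<|a (a 0<|a 0<|a 1<|a 1<|a 1<|a 1<|a 0<|a 0<|b)<|a (a 0<|a 0<|a 0<|a 0<|a 0<|a 0<|a 1<|a 0<|b)<|
 a (a 0<|a 0<|a 0<|a 0<|a 0<|a 0<|a 0<|a 1<|b)<|b))<|
 c (d 3 (a (a 1<|a 0<|a 1<|a 1<|a 1<|a 0<|a 0<|a 0<|b)<|a (a 0<|a 1<|a 0<|a 1<|a 1<|a 0<|a 0<|a 0<|b)<|a (a 0<|a 0<|a (-1)<|a (-1)<|a (-1)<|a 0<|a 0<|a 0<|b)<|a (a 0<|a 0<|a 1<|a 1<|a 0<|a 0<|a 0<|a 0<|b)<|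
 a (a 0<|a 0<|a 0<|a (-1)<|a 0<|a 0<|a 0<|a 0<|b)<|a (a 0<|a 0<|a 0<|a 1<|a 1<|a 1<|a 0<|a 0<|b)<|a (a 0<|a 0<|a 0<|a 0<|a 0<|a 0<|a 1<|a 0<|b)<|
 a (a 0<|a 0<|a 0<|a 0<|a 0<|a 0<|a 0<|a 1<|b)<|b))<|
 c (d 4 (a (a 1<|a 0<|a 1<|a 1<|a 1<|a 0<|a 0<|a 0<|b)<|a (a 0<|a 1<|a 0<|a 1<|a 1<|a 0<|a 0<|a 0<|b)<|a (a 0<|a 0<|a (-1)<|a (-1)<|a (-1)<|a 0<|a 0<|a 0<|b)<|a (a 0<|a 0<|a 1<|a 0<|a 0<|a 0<|a 0<|a 0<|b)<|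
 a (a 0<|a 0<|a 0<|a 1<|a 0<|a 0<|a 0<|a 0<|b)<|a (a 0<|a 0<|a 0<|a 0<|a 1<|a 1<|a 0<|a 0<|b)<|a (a 0<|a 0<|a 0<|a 0<|a 0<|a 0<|a 1<|a 0<|b)<|a (a 0<|a 0<|a 0<|a 0<|a 0<|a 0<|a 0<|a 1<|b)<|b))<|
 c (d 3 (a (a 1<|a 0<|a 1<|a 1<|a 0<|a 0<|a 0<|a 0<|b)<|a (a 0<|a 1<|a 0<|a 1<|a 0<|a 0<|a 0<|a 0<|b)<|a (a 0<|a 0<|a (-1)<|a (-1)<|a 0<|a 0<|a 0<|a 0<|b)<|a (a 0<|a 0<|a 1<|a 0<|a 0<|a 0<|a 0<|a 0<|b)<|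
 a (a 0<|a 0<|a 0<|a 1<|a 1<|a 0<|a 0<|a 0<|b)<|a (a 0<|a 0<|a 0<|a 0<|a 0<|a 1<|a 0<|a 0<|b)<|a (a 0<|a 0<|a 0<|a 0<|a 0<|a 0<|a 1<|a 0<|b)<|a (a 0<|a 0<|a 0<|a 0<|a 0<|a 0<|a 0<|a 1<|b)<|b))<|
 c (d 2 (a (a 1<|a 0<|a 1<|a 0<|a 0<|a 0<|a 0<|a 0<|b)<|a (a 0<|a 1<|a 0<|a 0<|a 0<|a 0<|a 0<|a 0<|b)<|a (a 0<|a 0<|a (-1)<|a 0<|a 0<|a 0<|a 0<|a 0<|b)<|a (a 0<|a 0<|a 1<|a 1<|a 0<|a 0<|a 0<|a 0<|b)<|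
 a (a 0<|a 0<|a 0<|a 0<|a 1<|a 0<|a 0<|a 0<|b)<|a (a 0<|a 0<|a 0<|a 0<|a 0<|a 1<|a 0<|a 0<|b)<|a (a 0<|a 0<|a 0<|a 0<|a 0<|a 0<|a 1<|a 0<|b)<|a (a 0<|a 0<|a 0<|a 0<|a 0<|a 0<|a 0<|a 1<|b)<|b))<|e))

theorem ch20_ok : ChainOK Am ch20 :=
  H129.ChainF.ok H129.ChainF.i8 H129.ChainF.m8 (H129.ChainF.c8 <| H129.ChainF.c8 <| H129.ChainF.c8 <| H129.ChainF.c8 <| H129.ChainF.c8 <| H129.ChainF.c8 <| H129.ChainF.c8 <| H129.ChainF.c8 <| H129.ChainF.c8 <| H129.ChainF.c8 <| H129.ChainF.c8 <| H129.ChainF.c8 <| H129.ChainF.c8 <| H129.ChainF.c8 <| H129.ChainF.nil) (by decide +kernel)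

/-- coefficients of the eigenvector -/
def Ve20 : Fin 8 → Fin 8 → ℤ := (beta% delta% lq2656c60453 fun a b _ _ _ =>
 (a (a 1<|a 0<|a 1<|a 1<|a 1<|a 0<|a 0<|a 0<|b)<|a (a 0<|a 1<|a 1<|a 1<|a 1<|a 1<|a 1<|a 0<|b)<|a (a 0<|a 1<|a 1<|a 2<|a 1<|a 1<|a 1<|a 1<|b)<|a (a 1<|a 1<|a 1<|a 2<|a 2<|a 1<|a 0<|a 0<|b)<|
 a (a 1<|a 0<|a 1<|a 1<|a 1<|a 1<|a 1<|a 0<|b)<|a (a 0<|a 1<|a 1<|a 1<|a 1<|a 1<|a 1<|a 1<|b)<|a (a 0<|a 1<|a 1<|a 2<|a 1<|a 1<|a 0<|a 0<|b)<|a (a 1<|a 0<|a 0<|a 0<|a 0<|a 0<|a 0<|a 0<|b)<|b))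

/-- the functional -/
def Ue20 : Fin 8 → ℤ := ![0, 0, 1, 0, 0, -1, 0, 0]

theorem eig_20 : EigOK (hd ch20) c20 Ve20 Ue20 :=
  H493.EigF.ok (H493.EigF.hT H493.EigF.t8) H493.EigF.r8 (H493.EigF.mc H493.EigF.r8 <| H493.EigF.mc H493.EigF.r8 <| H493.EigF.mc H493.EigF.r8 <| H493.EigF.mc H493.EigF.r8 <| H493.EigF.mc H493.EigF.r8 <| H493.EigF.mc H493.EigF.r8 <| H493.EigF.mc H493.EigF.r8 <| H493.EigF.mc H493.EigF.r8 <| H493.EigF.m0) H493.EigF.r8 (by decide +kernel)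

theorem rel20 {F : Type u} [Field F] [Finite F] {r s : ℕ} (hr : r.Prime) (hs : s.Prime) (hrs : r ≠ s)
    (h1 : phiC c20 (Nat.card F) 1 r) (h2 : phiC c20 (Nat.card F) 1 s) :
    PG.Rel ↥(chevE8.group F) r s := by
  have := finW
  exact rel_of_eig hp CoxeterMatrix.E₈.toCoxeterSystem H129.TorusChar.invC_E8 one_ne_zero
    (chain_rep hp CoxeterMatrix.E₈.toCoxeterSystem hA ch20_ok) eig_20 eig_20 hr hs hrs h1.1 h2.1 h1.2 h2.2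

/-- partial products of an element with characteristic polynomial divisible by the cyclotomic polynomial 24 -/
def ch24 : List (Fin 8 × Mat 8) := (beta% delta% lq2656c60453 fun a b c d e =>
 (c (d 1 (a (a 0<|a 0<|a 0<|a (-1)<|a (-1)<|a 0<|a 0<|a 0<|b)<|a (a 0<|a 1<|a 1<|a 1<|a 1<|a 0<|a 0<|a 0<|b)<|a (a (-1)<|a (-1)<|a (-1)<|a (-1)<|a 0<|a 0<|a 0<|a 0<|b)<|
 a (a 1<|a 0<|a 0<|a 0<|a 0<|a 0<|a 0<|a 0<|b)<|a (a 0<|a 1<|a 1<|a 2<|a 1<|a 1<|a 0<|a 0<|b)<|a (a 0<|a 0<|a 0<|a 0<|a 0<|a 0<|a 1<|a 1<|b)<|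
 a (a 0<|a (-1)<|a 0<|a (-1)<|a (-1)<|a (-1)<|a (-1)<|a (-1)<|b)<|a (a 0<|a 1<|a 0<|a 1<|a 1<|a 1<|a 1<|a 0<|b)<|b))<|
 c (d 3 (a (a 0<|a (-1)<|a 0<|a (-1)<|a (-1)<|a 0<|a 0<|a 0<|b)<|a (a 0<|a 0<|a 1<|a 1<|a 1<|a 0<|a 0<|a 0<|b)<|a (a (-1)<|a 0<|a (-1)<|a (-1)<|a 0<|a 0<|a 0<|a 0<|b)<|
 a (a 1<|a 0<|a 0<|a 0<|a 0<|a 0<|a 0<|a 0<|b)<|a (a 0<|a 1<|a 1<|a 2<|a 1<|a 1<|a 0<|a 0<|b)<|a (a 0<|a 0<|a 0<|a 0<|a 0<|a 0<|a 1<|a 1<|b)<|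
 a (a 0<|a 0<|a 0<|a (-1)<|a (-1)<|a (-1)<|a (-1)<|a (-1)<|b)<|a (a 0<|a 0<|a 0<|a 1<|a 1<|a 1<|a 1<|a 0<|b)<|b))<|
 c (d 2 (a (a 0<|a (-1)<|a 0<|a (-1)<|a (-1)<|a 0<|a 0<|a 0<|b)<|a (a 0<|a 0<|a 1<|a 1<|a 1<|a 0<|a 0<|a 0<|b)<|a (a (-1)<|a 0<|a (-1)<|a 0<|a 0<|a 0<|a 0<|a 0<|b)<|
 a (a 1<|a 0<|a 0<|a 0<|a 0<|a 0<|a 0<|a 0<|b)<|a (a 0<|a 1<|a 1<|a 1<|a 1<|a 1<|a 0<|a 0<|b)<|a (a 0<|a 0<|a 0<|a 0<|a 0<|a 0<|a 1<|a 1<|b)<|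
 a (a 0<|a 0<|a 0<|a 0<|a (-1)<|a (-1)<|a (-1)<|a (-1)<|b)<|a (a 0<|a 0<|a 0<|a 0<|a 1<|a 1<|a 1<|a 0<|b)<|b))<|
 c (d 4 (a (a 0<|a (-1)<|a (-1)<|a (-1)<|a (-1)<|a 0<|a 0<|a 0<|b)<|a (a 0<|a 0<|a 0<|a 1<|a 1<|a 0<|a 0<|a 0<|b)<|a (a (-1)<|a 0<|a 0<|a 0<|a 0<|a 0<|a 0<|a 0<|b)<|
 a (a 1<|a 0<|a 1<|a 0<|a 0<|a 0<|a 0<|a 0<|b)<|a (a 0<|a 1<|a 0<|a 1<|a 1<|a 1<|a 0<|a 0<|b)<|a (a 0<|a 0<|a 0<|a 0<|a 0<|a 0<|a 1<|a 1<|b)<|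
 a (a 0<|a 0<|a 0<|a 0<|a (-1)<|a (-1)<|a (-1)<|a (-1)<|b)<|a (a 0<|a 0<|a 0<|a 0<|a 1<|a 1<|a 1<|a 0<|b)<|b))<|
 c (d 0 (a (a 0<|a (-1)<|a (-1)<|a (-1)<|a 0<|a 0<|a 0<|a 0<|b)<|a (a 0<|a 0<|a 0<|a 1<|a 0<|a 0<|a 0<|a 0<|b)<|a (a (-1)<|a 0<|a 0<|a 0<|a 0<|a 0<|a 0<|a 0<|b)<|a (a 1<|a 0<|a 1<|a 0<|a 0<|a 0<|a 0<|a 0<|b)<|
 a (a 0<|a 1<|a 0<|a 1<|a 1<|a 1<|a 0<|a 0<|b)<|a (a 0<|a 0<|a 0<|a 0<|a 0<|a 0<|a 1<|a 1<|b)<|a (a 0<|a 0<|a 0<|a 0<|a 0<|a (-1)<|a (-1)<|a (-1)<|b)<|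
 a (a 0<|a 0<|a 0<|a 0<|a 0<|a 1<|a 1<|a 0<|b)<|b))<|
 c (d 1 (a (a (-1)<|a (-1)<|a (-1)<|a (-1)<|a 0<|a 0<|a 0<|a 0<|b)<|a (a 0<|a 0<|a 0<|a 1<|a 0<|a 0<|a 0<|a 0<|b)<|a (a 1<|a 0<|a 0<|a 0<|a 0<|a 0<|a 0<|a 0<|b)<|a (a 0<|a 0<|a 1<|a 0<|a 0<|a 0<|a 0<|a 0<|b)<|
 a (a 0<|a 1<|a 0<|a 1<|a 1<|a 1<|a 0<|a 0<|b)<|a (a 0<|a 0<|a 0<|a 0<|a 0<|a 0<|a 1<|a 1<|b)<|a (a 0<|a 0<|a 0<|a 0<|a 0<|a (-1)<|a (-1)<|a (-1)<|b)<|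
 a (a 0<|a 0<|a 0<|a 0<|a 0<|a 1<|a 1<|a 0<|b)<|b))<|
 c (d 7 (a (a (-1)<|a 0<|a (-1)<|a (-1)<|a 0<|a 0<|a 0<|a 0<|b)<|a (a 0<|a 1<|a 0<|a 1<|a 0<|a 0<|a 0<|a 0<|b)<|a (a 1<|a 0<|a 0<|a 0<|a 0<|a 0<|a 0<|a 0<|b)<|a (a 0<|a 0<|a 1<|a 0<|a 0<|a 0<|a 0<|a 0<|b)<|
 a (a 0<|a 0<|a 0<|a 1<|a 1<|a 1<|a 0<|a 0<|b)<|a (a 0<|a 0<|a 0<|a 0<|a 0<|a 0<|a 1<|a 1<|b)<|a (a 0<|a 0<|a 0<|a 0<|a 0<|a (-1)<|a (-1)<|a (-1)<|b)<|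
 a (a 0<|a 0<|a 0<|a 0<|a 0<|a 1<|a 1<|a 0<|b)<|b))<|
 c (d 3 (a (a (-1)<|a 0<|a (-1)<|a (-1)<|a 0<|a 0<|a 0<|a 0<|b)<|a (a 0<|a 1<|a 0<|a 1<|a 0<|a 0<|a 0<|a 0<|b)<|a (a 1<|a 0<|a 0<|a 0<|a 0<|a 0<|a 0<|a 0<|b)<|a (a 0<|a 0<|a 1<|a 0<|a 0<|a 0<|a 0<|a 0<|b)<|
 a (a 0<|a 0<|a 0<|a 1<|a 1<|a 1<|a 0<|a 0<|b)<|a (a 0<|a 0<|a 0<|a 0<|a 0<|a 0<|a 1<|a 0<|b)<|a (a 0<|a 0<|a 0<|a 0<|a 0<|a (-1)<|a (-1)<|a 0<|b)<|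
 a (a 0<|a 0<|a 0<|a 0<|a 0<|a 1<|a 1<|a 1<|b)<|b))<|
 c (d 2 (a (a (-1)<|a 0<|a (-1)<|a 0<|a 0<|a 0<|a 0<|a 0<|b)<|a (a 0<|a 1<|a 0<|a 0<|a 0<|a 0<|a 0<|a 0<|b)<|a (a 1<|a 0<|a 0<|a 0<|a 0<|a 0<|a 0<|a 0<|b)<|a (a 0<|a 0<|a 1<|a 1<|a 0<|a 0<|a 0<|a 0<|b)<|
 a (a 0<|a 0<|a 0<|a 0<|a 1<|a 1<|a 0<|a 0<|b)<|a (a 0<|a 0<|a 0<|a 0<|a 0<|a 0<|a 1<|a 0<|b)<|a (a 0<|a 0<|a 0<|a 0<|a 0<|a (-1)<|a (-1)<|a 0<|b)<|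
 a (a 0<|a 0<|a 0<|a 0<|a 0<|a 1<|a 1<|a 1<|b)<|b))<|
 c (d 0 (a (a (-1)<|a 0<|a 0<|a 0<|a 0<|a 0<|a 0<|a 0<|b)<|a (a 0<|a 1<|a 0<|a 0<|a 0<|a 0<|a 0<|a 0<|b)<|a (a 1<|a 0<|a 1<|a 0<|a 0<|a 0<|a 0<|a 0<|b)<|a (a 0<|a 0<|a 0<|a 1<|a 0<|a 0<|a 0<|a 0<|b)<|
 a (a 0<|a 0<|a 0<|a 0<|a 1<|a 1<|a 0<|a 0<|b)<|a (a 0<|a 0<|a 0<|a 0<|a 0<|a 0<|a 1<|a 0<|b)<|a (a 0<|a 0<|a 0<|a 0<|a 0<|a (-1)<|a (-1)<|a 0<|b)<|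
 a (a 0<|a 0<|a 0<|a 0<|a 0<|a 1<|a 1<|a 1<|b)<|b))<|
 c (d 5 (a (a 1<|a 0<|a 0<|a 0<|a 0<|a 0<|a 0<|a 0<|b)<|a (a 0<|a 1<|a 0<|a 0<|a 0<|a 0<|a 0<|a 0<|b)<|a (a 0<|a 0<|a 1<|a 0<|a 0<|a 0<|a 0<|a 0<|b)<|a (a 0<|a 0<|a 0<|a 1<|a 0<|a 0<|a 0<|a 0<|b)<|
 a (a 0<|a 0<|a 0<|a 0<|a 1<|a 1<|a 0<|a 0<|b)<|a (a 0<|a 0<|a 0<|a 0<|a 0<|a 0<|a 1<|a 0<|b)<|a (a 0<|a 0<|a 0<|a 0<|a 0<|a (-1)<|a (-1)<|a 0<|b)<|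
 a (a 0<|a 0<|a 0<|a 0<|a 0<|a 1<|a 1<|a 1<|b)<|b))<|
 c (d 6 (a (a 1<|a 0<|a 0<|a 0<|a 0<|a 0<|a 0<|a 0<|b)<|a (a 0<|a 1<|a 0<|a 0<|a 0<|a 0<|a 0<|a 0<|b)<|a (a 0<|a 0<|a 1<|a 0<|a 0<|a 0<|a 0<|a 0<|b)<|a (a 0<|a 0<|a 0<|a 1<|a 0<|a 0<|a 0<|a 0<|b)<|
 a (a 0<|a 0<|a 0<|a 0<|a 1<|a 0<|a 0<|a 0<|b)<|a (a 0<|a 0<|a 0<|a 0<|a 0<|a 1<|a 1<|a 0<|b)<|a (a 0<|a 0<|a 0<|a 0<|a 0<|a 0<|a (-1)<|a 0<|b)<|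
 a (a 0<|a 0<|a 0<|a 0<|a 0<|a 0<|a 1<|a 1<|b)<|b))<|
 c (d 7 (a (a 1<|a 0<|a 0<|a 0<|a 0<|a 0<|a 0<|a 0<|b)<|a (a 0<|a 1<|a 0<|a 0<|a 0<|a 0<|a 0<|a 0<|b)<|a (a 0<|a 0<|a 1<|a 0<|a 0<|a 0<|a 0<|a 0<|b)<|a (a 0<|a 0<|a 0<|a 1<|a 0<|a 0<|a 0<|a 0<|b)<|
 a (a 0<|a 0<|a 0<|a 0<|a 1<|a 0<|a 0<|a 0<|b)<|a (a 0<|a 0<|a 0<|a 0<|a 0<|a 1<|a 0<|a 0<|b)<|a (a 0<|a 0<|a 0<|a 0<|a 0<|a 0<|a 1<|a 0<|b)<|a (a 0<|a 0<|a 0<|a 0<|a 0<|a 0<|a 0<|a 1<|b)<|b))<|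
 c (d 7 (a (a 1<|a 0<|a 0<|a 0<|a 0<|a 0<|a 0<|a 0<|b)<|a (a 0<|a 1<|a 0<|a 0<|a 0<|a 0<|a 0<|a 0<|b)<|a (a 0<|a 0<|a 1<|a 0<|a 0<|a 0<|a 0<|a 0<|b)<|a (a 0<|a 0<|a 0<|a 1<|a 0<|a 0<|a 0<|a 0<|b)<|
 a (a 0<|a 0<|a 0<|a 0<|a 1<|a 0<|a 0<|a 0<|b)<|a (a 0<|a 0<|a 0<|a 0<|a 0<|a 1<|a 0<|a 0<|b)<|a (a 0<|a 0<|a 0<|a 0<|a 0<|a 0<|a 1<|a 1<|b)<|
 a (a 0<|a 0<|a 0<|a 0<|a 0<|a 0<|a 0<|a (-1)<|b)<|b))<|e))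

theorem ch24_ok : ChainOK Am ch24 :=
  H129.ChainF.ok H129.ChainF.i8 H129.ChainF.m8 (H129.ChainF.c8 <| H129.ChainF.c8 <| H129.ChainF.c8 <| H129.ChainF.c8 <| H129.ChainF.c8 <| H129.ChainF.c8 <| H129.ChainF.c8 <| H129.ChainF.c8 <| H129.ChainF.c8 <| H129.ChainF.c8 <| H129.ChainF.c8 <| H129.ChainF.c8 <| H129.ChainF.c8 <| H129.ChainF.c8 <| H129.ChainF.nil) (by decide +kernel)

/-- coefficients of the eigenvector -/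
def Ve24 : Fin 8 → Fin 8 → ℤ := (beta% delta% lq2656c60453 fun a b _ _ _ =>
 (a (a 0<|a 0<|a 0<|a (-1)<|a 0<|a 0<|a 0<|a 0<|b)<|a (a 1<|a 1<|a 1<|a 1<|a 0<|a 0<|a 0<|a 0<|b)<|a (a 0<|a 0<|a (-1)<|a 0<|a 0<|a 0<|a 0<|a 0<|b)<|
 a (a (-1)<|a (-1)<|a (-1)<|a (-1)<|a (-1)<|a (-1)<|a (-1)<|a 0<|b)<|a (a (-1)<|a (-1)<|a (-1)<|a (-1)<|a (-1)<|a (-1)<|a (-1)<|a (-1)<|b)<|a (a (-1)<|a (-1)<|a (-1)<|a (-2)<|a (-1)<|a (-1)<|a 0<|a 0<|b)<|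
 a (a 0<|a 0<|a 0<|a (-1)<|a (-1)<|a 0<|a 0<|a 0<|b)<|a (a 1<|a 0<|a 0<|a 0<|a 0<|a 0<|a 0<|a 0<|b)<|b))

/-- the functional -/
def Ue24 : Fin 8 → ℤ := ![0, 1, 0, -1, 1, 0, -1, 0]

theorem eig_24 : EigOK (hd ch24) c24 Ve24 Ue24 :=
  H493.EigF.ok (H493.EigF.hT H493.EigF.t8) H493.EigF.r8 (H493.EigF.mc H493.EigF.r8 <| H493.EigF.mc H493.EigF.r8 <| H493.EigF.mc H493.EigF.r8 <| H493.EigF.mc H493.EigF.r8 <| H493.EigF.mc H493.EigF.r8 <| H493.EigF.mc H493.EigF.r8 <| H493.EigF.mc H493.EigF.r8 <| H493.EigF.mc H493.EigF.r8 <| H493.EigF.m0) H493.EigF.r8 (by decide +kernel)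

theorem rel24 {F : Type u} [Field F] [Finite F] {r s : ℕ} (hr : r.Prime) (hs : s.Prime) (hrs : r ≠ s)
    (h1 : phiC c24 (Nat.card F) 1 r) (h2 : phiC c24 (Nat.card F) 1 s) :
    PG.Rel ↥(chevE8.group F) r s := by
  have := finW
  exact rel_of_eig hp CoxeterMatrix.E₈.toCoxeterSystem H129.TorusChar.invC_E8 one_ne_zero
    (chain_rep hp CoxeterMatrix.E₈.toCoxeterSystem hA ch24_ok) eig_24 eig_24 hr hs hrs h1.1 h2.1 h1.2 h2.2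

/-- partial products of an element with characteristic polynomial divisible by the cyclotomic polynomial 30 -/
def ch30 : List (Fin 8 × Mat 8) := (beta% delta% lq2656c60453 fun a b c d e =>
 (c (d 0 (a (a 0<|a 0<|a 1<|a 0<|a 0<|a 0<|a 0<|a 0<|b)<|a (a 1<|a 0<|a 1<|a 1<|a 0<|a 0<|a 0<|a 0<|b)<|a (a 0<|a 1<|a 0<|a 1<|a 0<|a 0<|a 0<|a 0<|b)<|a (a 0<|a 0<|a 0<|a 0<|a 1<|a 0<|a 0<|a 0<|b)<|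
 a (a 0<|a 0<|a 0<|a 0<|a 0<|a 1<|a 0<|a 0<|b)<|a (a 0<|a 0<|a 0<|a 0<|a 0<|a 0<|a 1<|a 0<|b)<|a (a 0<|a 0<|a 0<|a 0<|a 0<|a 0<|a 0<|a 1<|b)<|
 a (a (-1)<|a (-1)<|a (-1)<|a (-1)<|a (-1)<|a (-1)<|a (-1)<|a (-1)<|b)<|b))<|
 c (d 1 (a (a 1<|a 0<|a 1<|a 0<|a 0<|a 0<|a 0<|a 0<|b)<|a (a 0<|a 0<|a 1<|a 1<|a 0<|a 0<|a 0<|a 0<|b)<|a (a 0<|a 1<|a 0<|a 1<|a 0<|a 0<|a 0<|a 0<|b)<|a (a 0<|a 0<|a 0<|a 0<|a 1<|a 0<|a 0<|a 0<|b)<|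
 a (a 0<|a 0<|a 0<|a 0<|a 0<|a 1<|a 0<|a 0<|b)<|a (a 0<|a 0<|a 0<|a 0<|a 0<|a 0<|a 1<|a 0<|b)<|a (a 0<|a 0<|a 0<|a 0<|a 0<|a 0<|a 0<|a 1<|b)<|
 a (a 0<|a (-1)<|a (-1)<|a (-1)<|a (-1)<|a (-1)<|a (-1)<|a (-1)<|b)<|b))<|
 c (d 2 (a (a 1<|a 0<|a 1<|a 0<|a 0<|a 0<|a 0<|a 0<|b)<|a (a 0<|a 1<|a 1<|a 1<|a 0<|a 0<|a 0<|a 0<|b)<|a (a 0<|a 0<|a 0<|a 1<|a 0<|a 0<|a 0<|a 0<|b)<|a (a 0<|a 0<|a 0<|a 0<|a 1<|a 0<|a 0<|a 0<|b)<|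
 a (a 0<|a 0<|a 0<|a 0<|a 0<|a 1<|a 0<|a 0<|b)<|a (a 0<|a 0<|a 0<|a 0<|a 0<|a 0<|a 1<|a 0<|b)<|a (a 0<|a 0<|a 0<|a 0<|a 0<|a 0<|a 0<|a 1<|b)<|
 a (a 0<|a 0<|a (-1)<|a (-1)<|a (-1)<|a (-1)<|a (-1)<|a (-1)<|b)<|b))<|
 c (d 3 (a (a 1<|a 0<|a 0<|a 0<|a 0<|a 0<|a 0<|a 0<|b)<|a (a 0<|a 1<|a 0<|a 1<|a 0<|a 0<|a 0<|a 0<|b)<|a (a 0<|a 0<|a 1<|a 1<|a 0<|a 0<|a 0<|a 0<|b)<|a (a 0<|a 0<|a 0<|a 0<|a 1<|a 0<|a 0<|a 0<|b)<|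
 a (a 0<|a 0<|a 0<|a 0<|a 0<|a 1<|a 0<|a 0<|b)<|a (a 0<|a 0<|a 0<|a 0<|a 0<|a 0<|a 1<|a 0<|b)<|a (a 0<|a 0<|a 0<|a 0<|a 0<|a 0<|a 0<|a 1<|b)<|
 a (a 0<|a 0<|a 0<|a (-1)<|a (-1)<|a (-1)<|a (-1)<|a (-1)<|b)<|b))<|
 c (d 4 (a (a 1<|a 0<|a 0<|a 0<|a 0<|a 0<|a 0<|a 0<|b)<|a (a 0<|a 1<|a 0<|a 0<|a 0<|a 0<|a 0<|a 0<|b)<|a (a 0<|a 0<|a 1<|a 0<|a 0<|a 0<|a 0<|a 0<|b)<|a (a 0<|a 0<|a 0<|a 1<|a 1<|a 0<|a 0<|a 0<|b)<|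
 a (a 0<|a 0<|a 0<|a 0<|a 0<|a 1<|a 0<|a 0<|b)<|a (a 0<|a 0<|a 0<|a 0<|a 0<|a 0<|a 1<|a 0<|b)<|a (a 0<|a 0<|a 0<|a 0<|a 0<|a 0<|a 0<|a 1<|b)<|
 a (a 0<|a 0<|a 0<|a 0<|a (-1)<|a (-1)<|a (-1)<|a (-1)<|b)<|b))<|
 c (d 5 (a (a 1<|a 0<|a 0<|a 0<|a 0<|a 0<|a 0<|a 0<|b)<|a (a 0<|a 1<|a 0<|a 0<|a 0<|a 0<|a 0<|a 0<|b)<|a (a 0<|a 0<|a 1<|a 0<|a 0<|a 0<|a 0<|a 0<|b)<|a (a 0<|a 0<|a 0<|a 1<|a 0<|a 0<|a 0<|a 0<|b)<|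
 a (a 0<|a 0<|a 0<|a 0<|a 1<|a 1<|a 0<|a 0<|b)<|a (a 0<|a 0<|a 0<|a 0<|a 0<|a 0<|a 1<|a 0<|b)<|a (a 0<|a 0<|a 0<|a 0<|a 0<|a 0<|a 0<|a 1<|b)<|
 a (a 0<|a 0<|a 0<|a 0<|a 0<|a (-1)<|a (-1)<|a (-1)<|b)<|b))<|
 c (d 6 (a (a 1<|a 0<|a 0<|a 0<|a 0<|a 0<|a 0<|a 0<|b)<|a (a 0<|a 1<|a 0<|a 0<|a 0<|a 0<|a 0<|a 0<|b)<|a (a 0<|a 0<|a 1<|a 0<|a 0<|a 0<|a 0<|a 0<|b)<|a (a 0<|a 0<|a 0<|a 1<|a 0<|a 0<|a 0<|a 0<|b)<|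
 a (a 0<|a 0<|a 0<|a 0<|a 1<|a 0<|a 0<|a 0<|b)<|a (a 0<|a 0<|a 0<|a 0<|a 0<|a 1<|a 1<|a 0<|b)<|a (a 0<|a 0<|a 0<|a 0<|a 0<|a 0<|a 0<|a 1<|b)<|
 a (a 0<|a 0<|a 0<|a 0<|a 0<|a 0<|a (-1)<|a (-1)<|b)<|b))<|
 c (d 7 (a (a 1<|a 0<|a 0<|a 0<|a 0<|a 0<|a 0<|a 0<|b)<|a (a 0<|a 1<|a 0<|a 0<|a 0<|a 0<|a 0<|a 0<|b)<|a (a 0<|a 0<|a 1<|a 0<|a 0<|a 0<|a 0<|a 0<|b)<|a (a 0<|a 0<|a 0<|a 1<|a 0<|a 0<|a 0<|a 0<|b)<|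
 a (a 0<|a 0<|a 0<|a 0<|a 1<|a 0<|a 0<|a 0<|b)<|a (a 0<|a 0<|a 0<|a 0<|a 0<|a 1<|a 0<|a 0<|b)<|a (a 0<|a 0<|a 0<|a 0<|a 0<|a 0<|a 1<|a 1<|b)<|
 a (a 0<|a 0<|a 0<|a 0<|a 0<|a 0<|a 0<|a (-1)<|b)<|b))<|e))

theorem ch30_ok : ChainOK Am ch30 :=
  H129.ChainF.ok H129.ChainF.i8 H129.ChainF.m8 (H129.ChainF.c8 <| H129.ChainF.c8 <| H129.ChainF.c8 <| H129.ChainF.c8 <| H129.ChainF.c8 <| H129.ChainF.c8 <| H129.ChainF.c8 <| H129.ChainF.c8 <| H129.ChainF.nil) (by decide +kernel)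

/-- coefficients of the eigenvector -/
def Ve30 : Fin 8 → Fin 8 → ℤ := (beta% delta% lq2656c60453 fun a b _ _ _ =>
 (a (a 1<|a 0<|a 1<|a 1<|a 1<|a 1<|a 1<|a 1<|b)<|a (a 1<|a 1<|a 1<|a 2<|a 2<|a 2<|a 2<|a 1<|b)<|a (a 0<|a 1<|a 1<|a 2<|a 2<|a 2<|a 1<|a 0<|b)<|a (a 0<|a 1<|a 1<|a 2<|a 2<|a 1<|a 0<|a 0<|b)<|
 a (a 0<|a 1<|a 1<|a 2<|a 1<|a 0<|a 0<|a 0<|b)<|a (a 0<|a 1<|a 1<|a 1<|a 0<|a 0<|a 0<|a 0<|b)<|a (a 1<|a 0<|a 1<|a 0<|a 0<|a 0<|a 0<|a 0<|b)<|a (a 1<|a 0<|a 0<|a 0<|a 0<|a 0<|a 0<|a 0<|b)<|b))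

/-- the functional -/
def Ue30 : Fin 8 → ℤ := ![0, -1, 0, 1, -1, 1, -1, 1]

theorem eig_30 : EigOK (hd ch30) c30 Ve30 Ue30 :=
  H493.EigF.ok (H493.EigF.hT H493.EigF.t8) H493.EigF.r8 (H493.EigF.mc H493.EigF.r8 <| H493.EigF.mc H493.EigF.r8 <| H493.EigF.mc H493.EigF.r8 <| H493.EigF.mc H493.EigF.r8 <| H493.EigF.mc H493.EigF.r8 <| H493.EigF.mc H493.EigF.r8 <| H493.EigF.mc H493.EigF.r8 <| H493.EigF.mc H493.EigF.r8 <| H493.EigF.m0) H493.EigF.r8 (by decide +kernel)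

theorem rel30 {F : Type u} [Field F] [Finite F] {r s : ℕ} (hr : r.Prime) (hs : s.Prime) (hrs : r ≠ s)
    (h1 : phiC c30 (Nat.card F) 1 r) (h2 : phiC c30 (Nat.card F) 1 s) :
    PG.Rel ↥(chevE8.group F) r s := by
  have := finW
  exact rel_of_eig hp CoxeterMatrix.E₈.toCoxeterSystem H129.TorusChar.invC_E8 one_ne_zero
    (chain_rep hp CoxeterMatrix.E₈.toCoxeterSystem hA ch30_ok) eig_30 eig_30 hr hs hrs h1.1 h2.1 h1.2 h2.2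

end Cfsg.Agent.H168.ExcE8
end

-- part: H168/ExcE7
section
prune_inst 0x20000000700000000800001202002260420001020020000170e008060d8f536180442100fad00a0281c49ee4707ac00811000119023000002000ba00411b00a084076ce217341f0cde0007c0f807100000000000000000000000000000041000000000000
set_option linter.all false
private noncomputable def lq26957d6a04 {T : Sort _} (f :
    type_of% (@_root_.Matrix.vecCons.{0}) →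
    type_of% (@_root_.Matrix.vecEmpty.{0}) →
    type_of% (@_root_.List.cons.{0}) →
    type_of% (@_root_.Prod.mk.{0, 0}) →
    type_of% (@_root_.List.nil.{0}) → T) : T :=
  f (@_root_.Matrix.vecCons.{0}) (@_root_.Matrix.vecEmpty.{0}) (@_root_.List.cons.{0}) (@_root_.Prod.mk.{0, 0}) (@_root_.List.nil.{0})

/-!
# Adjacency of the prime divisors of each cyclotomic value, type E7 (helper168)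
-/

set_option autoImplicit false

namespace Cfsg.Agent.H168.ExcE7

open Cfsg.Agent.H129.WData Cfsg.Agent.ChevalleyStructure.CoxeterGeomTypes Cfsg.Agent.Nodes.RGDChev
open Cfsg.Lie Cfsg.Lie.ChevalleyDatum
open Cfsg.Agent.H493 Cfsg.Agent.H493.PGTorus Cfsg.Agent.H493.PGCyc Cfsg.Agent.H493.PGE7
open Cfsg.Agent.H168.ExcAdj

universe u

/-- partial products of an element with characteristic polynomial divisible by the cyclotomic polynomial 1 -/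
def ch1 : List (Fin 7 × Mat 7) := []

theorem ch1_ok : ChainOK Am ch1 := by decide +kernel

/-- coefficients of the eigenvector -/
def Ve1 : Fin 1 → Fin 7 → ℤ := ![![1, 0, 0, 0, 0, 0, 0]]

/-- the functional -/
def Ue1 : Fin 7 → ℤ := ![1, 0, 0, 0, 0, 0, 0]

theorem eig_1 : EigOK (hd ch1) c1 Ve1 Ue1 := by decide +kernel

theorem rel1 {F : Type u} [Field F] [Finite F] {r s : ℕ} (hr : r.Prime) (hs : s.Prime) (hrs : r ≠ s)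
    (h1 : phiC c1 (Nat.card F) 2 r) (h2 : phiC c1 (Nat.card F) 2 s) :
    PG.Rel ↥(chevE7.group F) r s := by
  have := finW
  exact rel_of_eig hp CoxeterMatrix.E₇.toCoxeterSystem H129.TorusChar.invC_E7 (by norm_num)
    (chain_rep hp CoxeterMatrix.E₇.toCoxeterSystem hA ch1_ok) eig_1 eig_1 hr hs hrs h1.1 h2.1 h1.2 h2.2

/-- partial products of an element with characteristic polynomial divisible by the cyclotomic polynomial 2 -/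
def ch2 : List (Fin 7 × Mat 7) := (beta% delta% lq26957d6a04 fun a b c d e =>
 (c (d 0 (a (a (-1)<|a 0<|a 0<|a 0<|a 0<|a 0<|a 0<|b)<|a (a 0<|a 1<|a 0<|a 0<|a 0<|a 0<|a 0<|b)<|a (a 1<|a 0<|a 1<|a 0<|a 0<|a 0<|a 0<|b)<|a (a 0<|a 0<|a 0<|a 1<|a 0<|a 0<|a 0<|b)<|
 a (a 0<|a 0<|a 0<|a 0<|a 1<|a 0<|a 0<|b)<|a (a 0<|a 0<|a 0<|a 0<|a 0<|a 1<|a 0<|b)<|a (a 0<|a 0<|a 0<|a 0<|a 0<|a 0<|a 1<|b)<|b))<|e))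

theorem ch2_ok : ChainOK Am ch2 :=
  H129.ChainF.ok H129.ChainF.i7 H129.ChainF.m7 (H129.ChainF.c7 <| H129.ChainF.nil) (by decide +kernel)

/-- coefficients of the eigenvector -/
def Ve2 : Fin 1 → Fin 7 → ℤ := ![![1, 0, 0, 0, 0, 0, 0]]

/-- the functional -/
def Ue2 : Fin 7 → ℤ := ![1, 0, 0, 0, 0, 0, 0]

theorem eig_2 : EigOK (hd ch2) c2 Ve2 Ue2 :=
  H493.EigF.ok (H493.EigF.hT H493.EigF.t7) H493.EigF.r1 (H493.EigF.mc H493.EigF.r7 <| H493.EigF.m0) H493.EigF.r7 (by decide +kernel)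

theorem rel2 {F : Type u} [Field F] [Finite F] {r s : ℕ} (hr : r.Prime) (hs : s.Prime) (hrs : r ≠ s)
    (h1 : phiC c2 (Nat.card F) 2 r) (h2 : phiC c2 (Nat.card F) 2 s) :
    PG.Rel ↥(chevE7.group F) r s := by
  have := finW
  exact rel_of_eig hp CoxeterMatrix.E₇.toCoxeterSystem H129.TorusChar.invC_E7 (by norm_num)
    (chain_rep hp CoxeterMatrix.E₇.toCoxeterSystem hA ch2_ok) eig_2 eig_2 hr hs hrs h1.1 h2.1 h1.2 h2.2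

/-- partial products of an element with characteristic polynomial divisible by the cyclotomic polynomial 3 -/
def ch3 : List (Fin 7 × Mat 7) := (beta% delta% lq26957d6a04 fun a b c d e =>
 (c (d 0 (a (a 0<|a 0<|a 1<|a 0<|a 0<|a 0<|a 0<|b)<|a (a 0<|a 1<|a 0<|a 0<|a 0<|a 0<|a 0<|b)<|a (a (-1)<|a 0<|a (-1)<|a 0<|a 0<|a 0<|a 0<|b)<|a (a 1<|a 0<|a 1<|a 1<|a 0<|a 0<|a 0<|b)<|
 a (a 0<|a 0<|a 0<|a 0<|a 1<|a 0<|a 0<|b)<|a (a 0<|a 0<|a 0<|a 0<|a 0<|a 1<|a 0<|b)<|a (a 0<|a 0<|a 0<|a 0<|a 0<|a 0<|a 1<|b)<|b))<|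
 c (d 2 (a (a 1<|a 0<|a 1<|a 0<|a 0<|a 0<|a 0<|b)<|a (a 0<|a 1<|a 0<|a 0<|a 0<|a 0<|a 0<|b)<|a (a 0<|a 0<|a (-1)<|a 0<|a 0<|a 0<|a 0<|b)<|a (a 0<|a 0<|a 1<|a 1<|a 0<|a 0<|a 0<|b)<|
 a (a 0<|a 0<|a 0<|a 0<|a 1<|a 0<|a 0<|b)<|a (a 0<|a 0<|a 0<|a 0<|a 0<|a 1<|a 0<|b)<|a (a 0<|a 0<|a 0<|a 0<|a 0<|a 0<|a 1<|b)<|b))<|e))

theorem ch3_ok : ChainOK Am ch3 :=
  H129.ChainF.ok H129.ChainF.i7 H129.ChainF.m7 (H129.ChainF.c7 <| H129.ChainF.c7 <| H129.ChainF.nil) (by decide +kernel)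

/-- coefficients of the eigenvector -/
def Ve3 : Fin 2 → Fin 7 → ℤ := (beta% delta% lq26957d6a04 fun a b _ _ _ =>
 (a (a 1<|a 0<|a 1<|a 0<|a 0<|a 0<|a 0<|b)<|a (a 1<|a 0<|a 0<|a 0<|a 0<|a 0<|a 0<|b)<|b))

/-- the functional -/
def Ue3 : Fin 7 → ℤ := ![0, 0, 1, 0, 0, 0, 0]

theorem eig_3 : EigOK (hd ch3) c3 Ve3 Ue3 :=
  H493.EigF.ok (H493.EigF.hT H493.EigF.t7) H493.EigF.r2 (H493.EigF.mc H493.EigF.r7 <| H493.EigF.mc H493.EigF.r7 <| H493.EigF.m0) H493.EigF.r7 (by decide +kernel)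

theorem rel3 {F : Type u} [Field F] [Finite F] {r s : ℕ} (hr : r.Prime) (hs : s.Prime) (hrs : r ≠ s)
    (h1 : phiC c3 (Nat.card F) 2 r) (h2 : phiC c3 (Nat.card F) 2 s) :
    PG.Rel ↥(chevE7.group F) r s := by
  have := finW
  exact rel_of_eig hp CoxeterMatrix.E₇.toCoxeterSystem H129.TorusChar.invC_E7 (by norm_num)
    (chain_rep hp CoxeterMatrix.E₇.toCoxeterSystem hA ch3_ok) eig_3 eig_3 hr hs hrs h1.1 h2.1 h1.2 h2.2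

/-- partial products of an element with characteristic polynomial divisible by the cyclotomic polynomial 4 -/
def ch4 : List (Fin 7 × Mat 7) := (beta% delta% lq26957d6a04 fun a b c d e =>
 (c (d 0 (a (a 0<|a 0<|a 1<|a 0<|a 0<|a 0<|a 0<|b)<|a (a 1<|a 1<|a 1<|a 1<|a 0<|a 0<|a 0<|b)<|a (a 0<|a 0<|a 0<|a 1<|a 0<|a 0<|a 0<|b)<|a (a (-1)<|a 0<|a (-1)<|a (-1)<|a 0<|a 0<|a 0<|b)<|
 a (a 1<|a 0<|a 1<|a 1<|a 1<|a 0<|a 0<|b)<|a (a 0<|a 0<|a 0<|a 0<|a 0<|a 1<|a 0<|b)<|a (a 0<|a 0<|a 0<|a 0<|a 0<|a 0<|a 1<|b)<|b))<|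
 c (d 2 (a (a 1<|a 0<|a 1<|a 0<|a 0<|a 0<|a 0<|b)<|a (a 0<|a 1<|a 1<|a 1<|a 0<|a 0<|a 0<|b)<|a (a 0<|a 0<|a 0<|a 1<|a 0<|a 0<|a 0<|b)<|a (a 0<|a 0<|a (-1)<|a (-1)<|a 0<|a 0<|a 0<|b)<|
 a (a 0<|a 0<|a 1<|a 1<|a 1<|a 0<|a 0<|b)<|a (a 0<|a 0<|a 0<|a 0<|a 0<|a 1<|a 0<|b)<|a (a 0<|a 0<|a 0<|a 0<|a 0<|a 0<|a 1<|b)<|b))<|
 c (d 3 (a (a 1<|a 0<|a 0<|a 0<|a 0<|a 0<|a 0<|b)<|a (a 0<|a 1<|a 0<|a 1<|a 0<|a 0<|a 0<|b)<|a (a 0<|a 0<|a 1<|a 1<|a 0<|a 0<|a 0<|b)<|a (a 0<|a 0<|a 0<|a (-1)<|a 0<|a 0<|a 0<|b)<|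
 a (a 0<|a 0<|a 0<|a 1<|a 1<|a 0<|a 0<|b)<|a (a 0<|a 0<|a 0<|a 0<|a 0<|a 1<|a 0<|b)<|a (a 0<|a 0<|a 0<|a 0<|a 0<|a 0<|a 1<|b)<|b))<|e))

theorem ch4_ok : ChainOK Am ch4 :=
  H129.ChainF.ok H129.ChainF.i7 H129.ChainF.m7 (H129.ChainF.c7 <| H129.ChainF.c7 <| H129.ChainF.c7 <| H129.ChainF.nil) (by decide +kernel)

/-- coefficients of the eigenvector -/
def Ve4 : Fin 2 → Fin 7 → ℤ := (beta% delta% lq26957d6a04 fun a b _ _ _ =>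
 (a (a 0<|a 0<|a 1<|a 1<|a 0<|a 0<|a 0<|b)<|a (a 1<|a 0<|a 1<|a 0<|a 0<|a 0<|a 0<|b)<|b))

/-- the functional -/
def Ue4 : Fin 7 → ℤ := ![-1, 0, 1, 0, 0, 0, 0]

theorem eig_4 : EigOK (hd ch4) c4 Ve4 Ue4 :=
  H493.EigF.ok (H493.EigF.hT H493.EigF.t7) H493.EigF.r2 (H493.EigF.mc H493.EigF.r7 <| H493.EigF.mc H493.EigF.r7 <| H493.EigF.m0) H493.EigF.r7 (by decide +kernel)

theorem rel4 {F : Type u} [Field F] [Finite F] {r s : ℕ} (hr : r.Prime) (hs : s.Prime) (hrs : r ≠ s)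
    (h1 : phiC c4 (Nat.card F) 2 r) (h2 : phiC c4 (Nat.card F) 2 s) :
    PG.Rel ↥(chevE7.group F) r s := by
  have := finW
  exact rel_of_eig hp CoxeterMatrix.E₇.toCoxeterSystem H129.TorusChar.invC_E7 (by norm_num)
    (chain_rep hp CoxeterMatrix.E₇.toCoxeterSystem hA ch4_ok) eig_4 eig_4 hr hs hrs h1.1 h2.1 h1.2 h2.2

/-- partial products of an element with characteristic polynomial divisible by the cyclotomic polynomial 5 -/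
def ch5 : List (Fin 7 × Mat 7) := (beta% delta% lq26957d6a04 fun a b c d e =>
 (c (d 0 (a (a 0<|a 0<|a 1<|a 0<|a 0<|a 0<|a 0<|b)<|a (a 1<|a 0<|a 1<|a 1<|a 0<|a 0<|a 0<|b)<|a (a 0<|a 1<|a 0<|a 1<|a 0<|a 0<|a 0<|b)<|a (a (-1)<|a (-1)<|a (-1)<|a (-1)<|a 0<|a 0<|a 0<|b)<|
 a (a 1<|a 1<|a 1<|a 1<|a 1<|a 0<|a 0<|b)<|a (a 0<|a 0<|a 0<|a 0<|a 0<|a 1<|a 0<|b)<|a (a 0<|a 0<|a 0<|a 0<|a 0<|a 0<|a 1<|b)<|b))<|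
 c (d 1 (a (a 1<|a 0<|a 1<|a 0<|a 0<|a 0<|a 0<|b)<|a (a 0<|a 0<|a 1<|a 1<|a 0<|a 0<|a 0<|b)<|a (a 0<|a 1<|a 0<|a 1<|a 0<|a 0<|a 0<|b)<|a (a 0<|a (-1)<|a (-1)<|a (-1)<|a 0<|a 0<|a 0<|b)<|
 a (a 0<|a 1<|a 1<|a 1<|a 1<|a 0<|a 0<|b)<|a (a 0<|a 0<|a 0<|a 0<|a 0<|a 1<|a 0<|b)<|a (a 0<|a 0<|a 0<|a 0<|a 0<|a 0<|a 1<|b)<|b))<|
 c (d 2 (a (a 1<|a 0<|a 1<|a 0<|a 0<|a 0<|a 0<|b)<|a (a 0<|a 1<|a 1<|a 1<|a 0<|a 0<|a 0<|b)<|a (a 0<|a 0<|a 0<|a 1<|a 0<|a 0<|a 0<|b)<|a (a 0<|a 0<|a (-1)<|a (-1)<|a 0<|a 0<|a 0<|b)<|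
 a (a 0<|a 0<|a 1<|a 1<|a 1<|a 0<|a 0<|b)<|a (a 0<|a 0<|a 0<|a 0<|a 0<|a 1<|a 0<|b)<|a (a 0<|a 0<|a 0<|a 0<|a 0<|a 0<|a 1<|b)<|b))<|
 c (d 3 (a (a 1<|a 0<|a 0<|a 0<|a 0<|a 0<|a 0<|b)<|a (a 0<|a 1<|a 0<|a 1<|a 0<|a 0<|a 0<|b)<|a (a 0<|a 0<|a 1<|a 1<|a 0<|a 0<|a 0<|b)<|a (a 0<|a 0<|a 0<|a (-1)<|a 0<|a 0<|a 0<|b)<|
 a (a 0<|a 0<|a 0<|a 1<|a 1<|a 0<|a 0<|b)<|a (a 0<|a 0<|a 0<|a 0<|a 0<|a 1<|a 0<|b)<|a (a 0<|a 0<|a 0<|a 0<|a 0<|a 0<|a 1<|b)<|b))<|e))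

theorem ch5_ok : ChainOK Am ch5 :=
  H129.ChainF.ok H129.ChainF.i7 H129.ChainF.m7 (H129.ChainF.c7 <| H129.ChainF.c7 <| H129.ChainF.c7 <| H129.ChainF.c7 <| H129.ChainF.nil) (by decide +kernel)

/-- coefficients of the eigenvector -/
def Ve5 : Fin 4 → Fin 7 → ℤ := (beta% delta% lq26957d6a04 fun a b _ _ _ =>
 (a (a 0<|a (-1)<|a (-1)<|a (-1)<|a 0<|a 0<|a 0<|b)<|a (a (-1)<|a (-1)<|a (-2)<|a (-1)<|a 0<|a 0<|a 0<|b)<|a (a (-1)<|a (-1)<|a (-1)<|a 0<|a 0<|a 0<|a 0<|b)<|a (a 0<|a 0<|a 0<|a 1<|a 0<|a 0<|a 0<|b)<|b))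

/-- the functional -/
def Ue5 : Fin 7 → ℤ := ![1, -1, 0, 0, 0, 0, 0]

theorem eig_5 : EigOK (hd ch5) c5 Ve5 Ue5 :=
  H493.EigF.ok (H493.EigF.hT H493.EigF.t7) H493.EigF.r4 (H493.EigF.mc H493.EigF.r7 <| H493.EigF.mc H493.EigF.r7 <| H493.EigF.mc H493.EigF.r7 <| H493.EigF.mc H493.EigF.r7 <| H493.EigF.m0) H493.EigF.r7 (by decide +kernel)

theorem rel5 {F : Type u} [Field F] [Finite F] {r s : ℕ} (hr : r.Prime) (hs : s.Prime) (hrs : r ≠ s)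
    (h1 : phiC c5 (Nat.card F) 2 r) (h2 : phiC c5 (Nat.card F) 2 s) :
    PG.Rel ↥(chevE7.group F) r s := by
  have := finW
  exact rel_of_eig hp CoxeterMatrix.E₇.toCoxeterSystem H129.TorusChar.invC_E7 (by norm_num)
    (chain_rep hp CoxeterMatrix.E₇.toCoxeterSystem hA ch5_ok) eig_5 eig_5 hr hs hrs h1.1 h2.1 h1.2 h2.2

/-- partial products of an element with characteristic polynomial divisible by the cyclotomic polynomial 6 -/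
def ch6 : List (Fin 7 × Mat 7) := (beta% delta% lq26957d6a04 fun a b c d e =>
 (c (d 1 (a (a 1<|a 0<|a 1<|a 0<|a 0<|a 0<|a 0<|b)<|a (a 0<|a 0<|a 1<|a 1<|a 0<|a 0<|a 0<|b)<|a (a 0<|a 1<|a 0<|a 1<|a 0<|a 0<|a 0<|b)<|a (a 0<|a 0<|a 0<|a 0<|a 1<|a 0<|a 0<|b)<|
 a (a 0<|a (-1)<|a (-1)<|a (-1)<|a (-1)<|a 0<|a 0<|b)<|a (a 0<|a 1<|a 1<|a 1<|a 1<|a 1<|a 0<|b)<|a (a 0<|a 0<|a 0<|a 0<|a 0<|a 0<|a 1<|b)<|b))<|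
 c (d 2 (a (a 1<|a 0<|a 1<|a 0<|a 0<|a 0<|a 0<|b)<|a (a 0<|a 1<|a 1<|a 1<|a 0<|a 0<|a 0<|b)<|a (a 0<|a 0<|a 0<|a 1<|a 0<|a 0<|a 0<|b)<|a (a 0<|a 0<|a 0<|a 0<|a 1<|a 0<|a 0<|b)<|
 a (a 0<|a 0<|a (-1)<|a (-1)<|a (-1)<|a 0<|a 0<|b)<|a (a 0<|a 0<|a 1<|a 1<|a 1<|a 1<|a 0<|b)<|a (a 0<|a 0<|a 0<|a 0<|a 0<|a 0<|a 1<|b)<|b))<|
 c (d 3 (a (a 1<|a 0<|a 0<|a 0<|a 0<|a 0<|a 0<|b)<|a (a 0<|a 1<|a 0<|a 1<|a 0<|a 0<|a 0<|b)<|a (a 0<|a 0<|a 1<|a 1<|a 0<|a 0<|a 0<|b)<|a (a 0<|a 0<|a 0<|a 0<|a 1<|a 0<|a 0<|b)<|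
 a (a 0<|a 0<|a 0<|a (-1)<|a (-1)<|a 0<|a 0<|b)<|a (a 0<|a 0<|a 0<|a 1<|a 1<|a 1<|a 0<|b)<|a (a 0<|a 0<|a 0<|a 0<|a 0<|a 0<|a 1<|b)<|b))<|
 c (d 4 (a (a 1<|a 0<|a 0<|a 0<|a 0<|a 0<|a 0<|b)<|a (a 0<|a 1<|a 0<|a 0<|a 0<|a 0<|a 0<|b)<|a (a 0<|a 0<|a 1<|a 0<|a 0<|a 0<|a 0<|b)<|a (a 0<|a 0<|a 0<|a 1<|a 1<|a 0<|a 0<|b)<|
 a (a 0<|a 0<|a 0<|a 0<|a (-1)<|a 0<|a 0<|b)<|a (a 0<|a 0<|a 0<|a 0<|a 1<|a 1<|a 0<|b)<|a (a 0<|a 0<|a 0<|a 0<|a 0<|a 0<|a 1<|b)<|b))<|e))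

theorem ch6_ok : ChainOK Am ch6 :=
  H129.ChainF.ok H129.ChainF.i7 H129.ChainF.m7 (H129.ChainF.c7 <| H129.ChainF.c7 <| H129.ChainF.c7 <| H129.ChainF.c7 <| H129.ChainF.nil) (by decide +kernel)

/-- coefficients of the eigenvector -/
def Ve6 : Fin 2 → Fin 7 → ℤ := (beta% delta% lq26957d6a04 fun a b _ _ _ =>
 (a (a 0<|a (-1)<|a (-1)<|a (-2)<|a (-1)<|a 0<|a 0<|b)<|a (a 0<|a 0<|a 0<|a 1<|a 1<|a 0<|a 0<|b)<|b))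

/-- the functional -/
def Ue6 : Fin 7 → ℤ := ![0, -1, 0, 0, 0, 0, 0]

theorem eig_6 : EigOK (hd ch6) c6 Ve6 Ue6 :=
  H493.EigF.ok (H493.EigF.hT H493.EigF.t7) H493.EigF.r2 (H493.EigF.mc H493.EigF.r7 <| H493.EigF.mc H493.EigF.r7 <| H493.EigF.m0) H493.EigF.r7 (by decide +kernel)

theorem rel6 {F : Type u} [Field F] [Finite F] {r s : ℕ} (hr : r.Prime) (hs : s.Prime) (hrs : r ≠ s)
    (h1 : phiC c6 (Nat.card F) 2 r) (h2 : phiC c6 (Nat.card F) 2 s) :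
    PG.Rel ↥(chevE7.group F) r s := by
  have := finW
  exact rel_of_eig hp CoxeterMatrix.E₇.toCoxeterSystem H129.TorusChar.invC_E7 (by norm_num)
    (chain_rep hp CoxeterMatrix.E₇.toCoxeterSystem hA ch6_ok) eig_6 eig_6 hr hs hrs h1.1 h2.1 h1.2 h2.2

/-- partial products of an element with characteristic polynomial divisible by the cyclotomic polynomial 7 -/
def ch7 : List (Fin 7 × Mat 7) := (beta% delta% lq26957d6a04 fun a b c d e =>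
 (c (d 0 (a (a 0<|a 0<|a 1<|a 0<|a 0<|a 0<|a 0<|b)<|a (a 1<|a 1<|a 1<|a 1<|a 0<|a 0<|a 0<|b)<|a (a 0<|a 0<|a 0<|a 1<|a 0<|a 0<|a 0<|b)<|a (a 0<|a 0<|a 0<|a 0<|a 1<|a 0<|a 0<|b)<|
 a (a 0<|a 0<|a 0<|a 0<|a 0<|a 1<|a 0<|b)<|a (a 0<|a 0<|a 0<|a 0<|a 0<|a 0<|a 1<|b)<|a (a (-1)<|a 0<|a (-1)<|a (-1)<|a (-1)<|a (-1)<|a (-1)<|b)<|b))<|
 c (d 2 (a (a 1<|a 0<|a 1<|a 0<|a 0<|a 0<|a 0<|b)<|a (a 0<|a 1<|a 1<|a 1<|a 0<|a 0<|a 0<|b)<|a (a 0<|a 0<|a 0<|a 1<|a 0<|a 0<|a 0<|b)<|a (a 0<|a 0<|a 0<|a 0<|a 1<|a 0<|a 0<|b)<|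
 a (a 0<|a 0<|a 0<|a 0<|a 0<|a 1<|a 0<|b)<|a (a 0<|a 0<|a 0<|a 0<|a 0<|a 0<|a 1<|b)<|a (a 0<|a 0<|a (-1)<|a (-1)<|a (-1)<|a (-1)<|a (-1)<|b)<|b))<|
 c (d 3 (a (a 1<|a 0<|a 0<|a 0<|a 0<|a 0<|a 0<|b)<|a (a 0<|a 1<|a 0<|a 1<|a 0<|a 0<|a 0<|b)<|a (a 0<|a 0<|a 1<|a 1<|a 0<|a 0<|a 0<|b)<|a (a 0<|a 0<|a 0<|a 0<|a 1<|a 0<|a 0<|b)<|
 a (a 0<|a 0<|a 0<|a 0<|a 0<|a 1<|a 0<|b)<|a (a 0<|a 0<|a 0<|a 0<|a 0<|a 0<|a 1<|b)<|a (a 0<|a 0<|a 0<|a (-1)<|a (-1)<|a (-1)<|a (-1)<|b)<|b))<|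
 c (d 4 (a (a 1<|a 0<|a 0<|a 0<|a 0<|a 0<|a 0<|b)<|a (a 0<|a 1<|a 0<|a 0<|a 0<|a 0<|a 0<|b)<|a (a 0<|a 0<|a 1<|a 0<|a 0<|a 0<|a 0<|b)<|a (a 0<|a 0<|a 0<|a 1<|a 1<|a 0<|a 0<|b)<|
 a (a 0<|a 0<|a 0<|a 0<|a 0<|a 1<|a 0<|b)<|a (a 0<|a 0<|a 0<|a 0<|a 0<|a 0<|a 1<|b)<|a (a 0<|a 0<|a 0<|a 0<|a (-1)<|a (-1)<|a (-1)<|b)<|b))<|
 c (d 5 (a (a 1<|a 0<|a 0<|a 0<|a 0<|a 0<|a 0<|b)<|a (a 0<|a 1<|a 0<|a 0<|a 0<|a 0<|a 0<|b)<|a (a 0<|a 0<|a 1<|a 0<|a 0<|a 0<|a 0<|b)<|a (a 0<|a 0<|a 0<|a 1<|a 0<|a 0<|a 0<|b)<|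
 a (a 0<|a 0<|a 0<|a 0<|a 1<|a 1<|a 0<|b)<|a (a 0<|a 0<|a 0<|a 0<|a 0<|a 0<|a 1<|b)<|a (a 0<|a 0<|a 0<|a 0<|a 0<|a (-1)<|a (-1)<|b)<|b))<|
 c (d 6 (a (a 1<|a 0<|a 0<|a 0<|a 0<|a 0<|a 0<|b)<|a (a 0<|a 1<|a 0<|a 0<|a 0<|a 0<|a 0<|b)<|a (a 0<|a 0<|a 1<|a 0<|a 0<|a 0<|a 0<|b)<|a (a 0<|a 0<|a 0<|a 1<|a 0<|a 0<|a 0<|b)<|
 a (a 0<|a 0<|a 0<|a 0<|a 1<|a 0<|a 0<|b)<|a (a 0<|a 0<|a 0<|a 0<|a 0<|a 1<|a 1<|b)<|a (a 0<|a 0<|a 0<|a 0<|a 0<|a 0<|a (-1)<|b)<|b))<|e))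

theorem ch7_ok : ChainOK Am ch7 :=
  H129.ChainF.ok H129.ChainF.i7 H129.ChainF.m7 (H129.ChainF.c7 <| H129.ChainF.c7 <| H129.ChainF.c7 <| H129.ChainF.c7 <| H129.ChainF.c7 <| H129.ChainF.c7 <| H129.ChainF.nil) (by decide +kernel)

/-- coefficients of the eigenvector -/
def Ve7 : Fin 6 → Fin 7 → ℤ := (beta% delta% lq26957d6a04 fun a b _ _ _ =>
 (a (a 1<|a 0<|a 1<|a 1<|a 1<|a 1<|a 1<|b)<|a (a 1<|a 0<|a 1<|a 1<|a 1<|a 1<|a 0<|b)<|a (a 1<|a 0<|a 1<|a 1<|a 1<|a 0<|a 0<|b)<|a (a 1<|a 0<|a 1<|a 1<|a 0<|a 0<|a 0<|b)<|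
 a (a 1<|a 0<|a 1<|a 0<|a 0<|a 0<|a 0<|b)<|a (a 1<|a 0<|a 0<|a 0<|a 0<|a 0<|a 0<|b)<|b))

/-- the functional -/
def Ue7 : Fin 7 → ℤ := ![0, 0, 0, 0, 0, 0, 1]

theorem eig_7 : EigOK (hd ch7) c7 Ve7 Ue7 :=
  H493.EigF.ok (H493.EigF.hT H493.EigF.t7) H493.EigF.r6 (H493.EigF.mc H493.EigF.r7 <| H493.EigF.mc H493.EigF.r7 <| H493.EigF.mc H493.EigF.r7 <| H493.EigF.mc H493.EigF.r7 <| H493.EigF.mc H493.EigF.r7 <| H493.EigF.mc H493.EigF.r7 <| H493.EigF.m0) H493.EigF.r7 (by decide +kernel)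

theorem rel7 {F : Type u} [Field F] [Finite F] {r s : ℕ} (hr : r.Prime) (hs : s.Prime) (hrs : r ≠ s)
    (h1 : phiC c7 (Nat.card F) 2 r) (h2 : phiC c7 (Nat.card F) 2 s) :
    PG.Rel ↥(chevE7.group F) r s := by
  have := finW
  exact rel_of_eig hp CoxeterMatrix.E₇.toCoxeterSystem H129.TorusChar.invC_E7 (by norm_num)
    (chain_rep hp CoxeterMatrix.E₇.toCoxeterSystem hA ch7_ok) eig_7 eig_7 hr hs hrs h1.1 h2.1 h1.2 h2.2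

/-- partial products of an element with characteristic polynomial divisible by the cyclotomic polynomial 8 -/
def ch8 : List (Fin 7 × Mat 7) := (beta% delta% lq26957d6a04 fun a b c d e =>
 (c (d 0 (a (a 0<|a 0<|a 1<|a 0<|a 0<|a 0<|a 0<|b)<|a (a 1<|a 0<|a 1<|a 1<|a 0<|a 0<|a 0<|b)<|a (a 0<|a 1<|a 0<|a 1<|a 0<|a 0<|a 0<|b)<|a (a 0<|a 0<|a 0<|a 0<|a 1<|a 0<|a 0<|b)<|
 a (a (-1)<|a (-1)<|a (-1)<|a (-1)<|a (-1)<|a 0<|a 0<|b)<|a (a 1<|a 1<|a 1<|a 1<|a 1<|a 1<|a 0<|b)<|a (a 0<|a 0<|a 0<|a 0<|a 0<|a 0<|a 1<|b)<|b))<|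
 c (d 1 (a (a 1<|a 0<|a 1<|a 0<|a 0<|a 0<|a 0<|b)<|a (a 0<|a 0<|a 1<|a 1<|a 0<|a 0<|a 0<|b)<|a (a 0<|a 1<|a 0<|a 1<|a 0<|a 0<|a 0<|b)<|a (a 0<|a 0<|a 0<|a 0<|a 1<|a 0<|a 0<|b)<|
 a (a 0<|a (-1)<|a (-1)<|a (-1)<|a (-1)<|a 0<|a 0<|b)<|a (a 0<|a 1<|a 1<|a 1<|a 1<|a 1<|a 0<|b)<|a (a 0<|a 0<|a 0<|a 0<|a 0<|a 0<|a 1<|b)<|b))<|
 c (d 2 (a (a 1<|a 0<|a 1<|a 0<|a 0<|a 0<|a 0<|b)<|a (a 0<|a 1<|a 1<|a 1<|a 0<|a 0<|a 0<|b)<|a (a 0<|a 0<|a 0<|a 1<|a 0<|a 0<|a 0<|b)<|a (a 0<|a 0<|a 0<|a 0<|a 1<|a 0<|a 0<|b)<|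
 a (a 0<|a 0<|a (-1)<|a (-1)<|a (-1)<|a 0<|a 0<|b)<|a (a 0<|a 0<|a 1<|a 1<|a 1<|a 1<|a 0<|b)<|a (a 0<|a 0<|a 0<|a 0<|a 0<|a 0<|a 1<|b)<|b))<|
 c (d 3 (a (a 1<|a 0<|a 0<|a 0<|a 0<|a 0<|a 0<|b)<|a (a 0<|a 1<|a 0<|a 1<|a 0<|a 0<|a 0<|b)<|a (a 0<|a 0<|a 1<|a 1<|a 0<|a 0<|a 0<|b)<|a (a 0<|a 0<|a 0<|a 0<|a 1<|a 0<|a 0<|b)<|
 a (a 0<|a 0<|a 0<|a (-1)<|a (-1)<|a 0<|a 0<|b)<|a (a 0<|a 0<|a 0<|a 1<|a 1<|a 1<|a 0<|b)<|a (a 0<|a 0<|a 0<|a 0<|a 0<|a 0<|a 1<|b)<|b))<|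
 c (d 4 (a (a 1<|a 0<|a 0<|a 0<|a 0<|a 0<|a 0<|b)<|a (a 0<|a 1<|a 0<|a 0<|a 0<|a 0<|a 0<|b)<|a (a 0<|a 0<|a 1<|a 0<|a 0<|a 0<|a 0<|b)<|a (a 0<|a 0<|a 0<|a 1<|a 1<|a 0<|a 0<|b)<|
 a (a 0<|a 0<|a 0<|a 0<|a (-1)<|a 0<|a 0<|b)<|a (a 0<|a 0<|a 0<|a 0<|a 1<|a 1<|a 0<|b)<|a (a 0<|a 0<|a 0<|a 0<|a 0<|a 0<|a 1<|b)<|b))<|e))

theorem ch8_ok : ChainOK Am ch8 :=
  H129.ChainF.ok H129.ChainF.i7 H129.ChainF.m7 (H129.ChainF.c7 <| H129.ChainF.c7 <| H129.ChainF.c7 <| H129.ChainF.c7 <| H129.ChainF.c7 <| H129.ChainF.nil) (by decide +kernel)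

/-- coefficients of the eigenvector -/
def Ve8 : Fin 4 → Fin 7 → ℤ := (beta% delta% lq26957d6a04 fun a b _ _ _ =>
 (a (a 1<|a 0<|a 1<|a 1<|a 1<|a 0<|a 0<|b)<|a (a 0<|a 1<|a 0<|a 1<|a 0<|a 0<|a 0<|b)<|a (a 0<|a 0<|a 1<|a 0<|a 0<|a 0<|a 0<|b)<|a (a 1<|a 0<|a 0<|a 0<|a 0<|a 0<|a 0<|b)<|b))

/-- the functional -/
def Ue8 : Fin 7 → ℤ := ![0, -1, 0, 1, 0, 0, 0]

theorem eig_8 : EigOK (hd ch8) c8 Ve8 Ue8 :=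
  H493.EigF.ok (H493.EigF.hT H493.EigF.t7) H493.EigF.r4 (H493.EigF.mc H493.EigF.r7 <| H493.EigF.mc H493.EigF.r7 <| H493.EigF.mc H493.EigF.r7 <| H493.EigF.mc H493.EigF.r7 <| H493.EigF.m0) H493.EigF.r7 (by decide +kernel)

theorem rel8 {F : Type u} [Field F] [Finite F] {r s : ℕ} (hr : r.Prime) (hs : s.Prime) (hrs : r ≠ s)
    (h1 : phiC c8 (Nat.card F) 2 r) (h2 : phiC c8 (Nat.card F) 2 s) :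
    PG.Rel ↥(chevE7.group F) r s := by
  have := finW
  exact rel_of_eig hp CoxeterMatrix.E₇.toCoxeterSystem H129.TorusChar.invC_E7 (by norm_num)
    (chain_rep hp CoxeterMatrix.E₇.toCoxeterSystem hA ch8_ok) eig_8 eig_8 hr hs hrs h1.1 h2.1 h1.2 h2.2

/-- partial products of an element with characteristic polynomial divisible by the cyclotomic polynomial 9 -/
def ch9 : List (Fin 7 × Mat 7) := (beta% delta% lq26957d6a04 fun a b c d e =>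
 (c (d 3 (a (a 0<|a 1<|a 1<|a 2<|a 1<|a 0<|a 0<|b)<|a (a 0<|a 0<|a 0<|a 0<|a (-1)<|a 0<|a 0<|b)<|a (a (-1)<|a (-1)<|a (-1)<|a (-2)<|a (-1)<|a 0<|a 0<|b)<|a (a 1<|a 0<|a 1<|a 1<|a 1<|a 0<|a 0<|b)<|
 a (a 0<|a 1<|a 0<|a 1<|a 1<|a 1<|a 0<|b)<|a (a 0<|a 0<|a 0<|a (-1)<|a (-1)<|a (-1)<|a 0<|b)<|a (a 0<|a 0<|a 0<|a 1<|a 1<|a 1<|a 1<|b)<|b))<|
 c (d 0 (a (a 0<|a 1<|a 1<|a 1<|a 1<|a 0<|a 0<|b)<|a (a 0<|a 0<|a 0<|a (-1)<|a (-1)<|a 0<|a 0<|b)<|a (a (-1)<|a (-1)<|a (-1)<|a (-1)<|a (-1)<|a 0<|a 0<|b)<|a (a 1<|a 0<|a 1<|a 1<|a 1<|a 0<|a 0<|b)<|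
 a (a 0<|a 1<|a 0<|a 1<|a 1<|a 1<|a 0<|b)<|a (a 0<|a 0<|a 0<|a 0<|a (-1)<|a (-1)<|a 0<|b)<|a (a 0<|a 0<|a 0<|a 0<|a 1<|a 1<|a 1<|b)<|b))<|
 c (d 4 (a (a 1<|a 1<|a 1<|a 1<|a 1<|a 0<|a 0<|b)<|a (a 0<|a 0<|a 0<|a (-1)<|a (-1)<|a 0<|a 0<|b)<|a (a 0<|a (-1)<|a (-1)<|a (-1)<|a (-1)<|a 0<|a 0<|b)<|a (a 0<|a 0<|a 1<|a 1<|a 1<|a 0<|a 0<|b)<|
 a (a 0<|a 1<|a 0<|a 1<|a 1<|a 1<|a 0<|b)<|a (a 0<|a 0<|a 0<|a 0<|a (-1)<|a (-1)<|a 0<|b)<|a (a 0<|a 0<|a 0<|a 0<|a 1<|a 1<|a 1<|b)<|b))<|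
 c (d 1 (a (a 1<|a 1<|a 1<|a 1<|a 0<|a 0<|a 0<|b)<|a (a 0<|a 0<|a 0<|a (-1)<|a 0<|a 0<|a 0<|b)<|a (a 0<|a (-1)<|a (-1)<|a (-1)<|a 0<|a 0<|a 0<|b)<|a (a 0<|a 0<|a 1<|a 1<|a 0<|a 0<|a 0<|b)<|
 a (a 0<|a 1<|a 0<|a 1<|a 1<|a 1<|a 0<|b)<|a (a 0<|a 0<|a 0<|a 0<|a 0<|a (-1)<|a 0<|b)<|a (a 0<|a 0<|a 0<|a 0<|a 0<|a 1<|a 1<|b)<|b))<|
 c (d 3 (a (a 1<|a 0<|a 1<|a 1<|a 0<|a 0<|a 0<|b)<|a (a 0<|a (-1)<|a 0<|a (-1)<|a 0<|a 0<|a 0<|b)<|a (a 0<|a 0<|a (-1)<|a (-1)<|a 0<|a 0<|a 0<|b)<|a (a 0<|a 1<|a 1<|a 1<|a 0<|a 0<|a 0<|b)<|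
 a (a 0<|a 0<|a 0<|a 1<|a 1<|a 1<|a 0<|b)<|a (a 0<|a 0<|a 0<|a 0<|a 0<|a (-1)<|a 0<|b)<|a (a 0<|a 0<|a 0<|a 0<|a 0<|a 1<|a 1<|b)<|b))<|
 c (d 5 (a (a 1<|a 0<|a 1<|a 0<|a 0<|a 0<|a 0<|b)<|a (a 0<|a (-1)<|a 0<|a 0<|a 0<|a 0<|a 0<|b)<|a (a 0<|a 0<|a (-1)<|a 0<|a 0<|a 0<|a 0<|b)<|a (a 0<|a 1<|a 1<|a 1<|a 0<|a 0<|a 0<|b)<|
 a (a 0<|a 0<|a 0<|a 0<|a 1<|a 1<|a 0<|b)<|a (a 0<|a 0<|a 0<|a 0<|a 0<|a (-1)<|a 0<|b)<|a (a 0<|a 0<|a 0<|a 0<|a 0<|a 1<|a 1<|b)<|b))<|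
 c (d 1 (a (a 1<|a 0<|a 1<|a 0<|a 0<|a 0<|a 0<|b)<|a (a 0<|a (-1)<|a 0<|a 0<|a 0<|a 0<|a 0<|b)<|a (a 0<|a 0<|a (-1)<|a 0<|a 0<|a 0<|a 0<|b)<|a (a 0<|a 1<|a 1<|a 1<|a 0<|a 0<|a 0<|b)<|
 a (a 0<|a 0<|a 0<|a 0<|a 1<|a 0<|a 0<|b)<|a (a 0<|a 0<|a 0<|a 0<|a 0<|a 1<|a 0<|b)<|a (a 0<|a 0<|a 0<|a 0<|a 0<|a 0<|a 1<|b)<|b))<|
 c (d 2 (a (a 1<|a 0<|a 1<|a 0<|a 0<|a 0<|a 0<|b)<|a (a 0<|a 1<|a 0<|a 0<|a 0<|a 0<|a 0<|b)<|a (a 0<|a 0<|a (-1)<|a 0<|a 0<|a 0<|a 0<|b)<|a (a 0<|a 0<|a 1<|a 1<|a 0<|a 0<|a 0<|b)<|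
 a (a 0<|a 0<|a 0<|a 0<|a 1<|a 0<|a 0<|b)<|a (a 0<|a 0<|a 0<|a 0<|a 0<|a 1<|a 0<|b)<|a (a 0<|a 0<|a 0<|a 0<|a 0<|a 0<|a 1<|b)<|b))<|e))

theorem ch9_ok : ChainOK Am ch9 :=
  H129.ChainF.ok H129.ChainF.i7 H129.ChainF.m7 (H129.ChainF.c7 <| H129.ChainF.c7 <| H129.ChainF.c7 <| H129.ChainF.c7 <| H129.ChainF.c7 <| H129.ChainF.c7 <| H129.ChainF.c7 <| H129.ChainF.c7 <| H129.ChainF.nil) (by decide +kernel)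

/-- coefficients of the eigenvector -/
def Ve9 : Fin 6 → Fin 7 → ℤ := (beta% delta% lq26957d6a04 fun a b _ _ _ =>
 (a (a 0<|a 0<|a 0<|a 0<|a (-1)<|a (-1)<|a 0<|b)<|a (a 0<|a 0<|a (-1)<|a (-1)<|a (-1)<|a 0<|a 0<|b)<|a (a (-1)<|a 0<|a (-1)<|a (-1)<|a 0<|a 0<|a 0<|b)<|a (a 0<|a (-1)<|a 0<|a (-1)<|a (-1)<|a (-1)<|a 0<|b)<|
 a (a 0<|a 0<|a 0<|a 0<|a (-1)<|a 0<|a 0<|b)<|a (a 0<|a 1<|a 0<|a 0<|a 0<|a 0<|a 0<|b)<|b))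

/-- the functional -/
def Ue9 : Fin 7 → ℤ := ![0, 0, -1, 1, 0, -1, 0]

theorem eig_9 : EigOK (hd ch9) c9 Ve9 Ue9 :=
  H493.EigF.ok (H493.EigF.hT H493.EigF.t7) H493.EigF.r6 (H493.EigF.mc H493.EigF.r7 <| H493.EigF.mc H493.EigF.r7 <| H493.EigF.mc H493.EigF.r7 <| H493.EigF.mc H493.EigF.r7 <| H493.EigF.mc H493.EigF.r7 <| H493.EigF.mc H493.EigF.r7 <| H493.EigF.m0) H493.EigF.r7 (by decide +kernel)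

theorem rel9 {F : Type u} [Field F] [Finite F] {r s : ℕ} (hr : r.Prime) (hs : s.Prime) (hrs : r ≠ s)
    (h1 : phiC c9 (Nat.card F) 2 r) (h2 : phiC c9 (Nat.card F) 2 s) :
    PG.Rel ↥(chevE7.group F) r s := by
  have := finW
  exact rel_of_eig hp CoxeterMatrix.E₇.toCoxeterSystem H129.TorusChar.invC_E7 (by norm_num)
    (chain_rep hp CoxeterMatrix.E₇.toCoxeterSystem hA ch9_ok) eig_9 eig_9 hr hs hrs h1.1 h2.1 h1.2 h2.2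

/-- partial products of an element with characteristic polynomial divisible by the cyclotomic polynomial 10 -/
def ch10 : List (Fin 7 × Mat 7) := (beta% delta% lq26957d6a04 fun a b c d e =>
 (c (d 1 (a (a 1<|a 0<|a 1<|a 0<|a 0<|a 0<|a 0<|b)<|a (a 0<|a 0<|a 1<|a 1<|a 0<|a 0<|a 0<|b)<|a (a 0<|a 1<|a 0<|a 1<|a 0<|a 0<|a 0<|b)<|a (a 0<|a 0<|a 0<|a 0<|a 1<|a 0<|a 0<|b)<|
 a (a 0<|a 0<|a 0<|a 0<|a 0<|a 1<|a 0<|b)<|a (a 0<|a 0<|a 0<|a 0<|a 0<|a 0<|a 1<|b)<|a (a 0<|a (-1)<|a (-1)<|a (-1)<|a (-1)<|a (-1)<|a (-1)<|b)<|b))<|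
 c (d 2 (a (a 1<|a 0<|a 1<|a 0<|a 0<|a 0<|a 0<|b)<|a (a 0<|a 1<|a 1<|a 1<|a 0<|a 0<|a 0<|b)<|a (a 0<|a 0<|a 0<|a 1<|a 0<|a 0<|a 0<|b)<|a (a 0<|a 0<|a 0<|a 0<|a 1<|a 0<|a 0<|b)<|
 a (a 0<|a 0<|a 0<|a 0<|a 0<|a 1<|a 0<|b)<|a (a 0<|a 0<|a 0<|a 0<|a 0<|a 0<|a 1<|b)<|a (a 0<|a 0<|a (-1)<|a (-1)<|a (-1)<|a (-1)<|a (-1)<|b)<|b))<|
 c (d 3 (a (a 1<|a 0<|a 0<|a 0<|a 0<|a 0<|a 0<|b)<|a (a 0<|a 1<|a 0<|a 1<|a 0<|a 0<|a 0<|b)<|a (a 0<|a 0<|a 1<|a 1<|a 0<|a 0<|a 0<|b)<|a (a 0<|a 0<|a 0<|a 0<|a 1<|a 0<|a 0<|b)<|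
 a (a 0<|a 0<|a 0<|a 0<|a 0<|a 1<|a 0<|b)<|a (a 0<|a 0<|a 0<|a 0<|a 0<|a 0<|a 1<|b)<|a (a 0<|a 0<|a 0<|a (-1)<|a (-1)<|a (-1)<|a (-1)<|b)<|b))<|
 c (d 4 (a (a 1<|a 0<|a 0<|a 0<|a 0<|a 0<|a 0<|b)<|a (a 0<|a 1<|a 0<|a 0<|a 0<|a 0<|a 0<|b)<|a (a 0<|a 0<|a 1<|a 0<|a 0<|a 0<|a 0<|b)<|a (a 0<|a 0<|a 0<|a 1<|a 1<|a 0<|a 0<|b)<|
 a (a 0<|a 0<|a 0<|a 0<|a 0<|a 1<|a 0<|b)<|a (a 0<|a 0<|a 0<|a 0<|a 0<|a 0<|a 1<|b)<|a (a 0<|a 0<|a 0<|a 0<|a (-1)<|a (-1)<|a (-1)<|b)<|b))<|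
 c (d 5 (a (a 1<|a 0<|a 0<|a 0<|a 0<|a 0<|a 0<|b)<|a (a 0<|a 1<|a 0<|a 0<|a 0<|a 0<|a 0<|b)<|a (a 0<|a 0<|a 1<|a 0<|a 0<|a 0<|a 0<|b)<|a (a 0<|a 0<|a 0<|a 1<|a 0<|a 0<|a 0<|b)<|
 a (a 0<|a 0<|a 0<|a 0<|a 1<|a 1<|a 0<|b)<|a (a 0<|a 0<|a 0<|a 0<|a 0<|a 0<|a 1<|b)<|a (a 0<|a 0<|a 0<|a 0<|a 0<|a (-1)<|a (-1)<|b)<|b))<|
 c (d 6 (a (a 1<|a 0<|a 0<|a 0<|a 0<|a 0<|a 0<|b)<|a (a 0<|a 1<|a 0<|a 0<|a 0<|a 0<|a 0<|b)<|a (a 0<|a 0<|a 1<|a 0<|a 0<|a 0<|a 0<|b)<|a (a 0<|a 0<|a 0<|a 1<|a 0<|a 0<|a 0<|b)<|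
 a (a 0<|a 0<|a 0<|a 0<|a 1<|a 0<|a 0<|b)<|a (a 0<|a 0<|a 0<|a 0<|a 0<|a 1<|a 1<|b)<|a (a 0<|a 0<|a 0<|a 0<|a 0<|a 0<|a (-1)<|b)<|b))<|e))

theorem ch10_ok : ChainOK Am ch10 :=
  H129.ChainF.ok H129.ChainF.i7 H129.ChainF.m7 (H129.ChainF.c7 <| H129.ChainF.c7 <| H129.ChainF.c7 <| H129.ChainF.c7 <| H129.ChainF.c7 <| H129.ChainF.c7 <| H129.ChainF.nil) (by decide +kernel)

/-- coefficients of the eigenvector -/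
def Ve10 : Fin 4 → Fin 7 → ℤ := (beta% delta% lq26957d6a04 fun a b _ _ _ =>
 (a (a 0<|a (-1)<|a (-1)<|a (-2)<|a (-1)<|a (-1)<|a (-1)<|b)<|a (a 0<|a 0<|a 0<|a 1<|a 0<|a 0<|a 1<|b)<|a (a 0<|a 0<|a 0<|a (-1)<|a 0<|a 1<|a 0<|b)<|a (a 0<|a 0<|a 0<|a 1<|a 1<|a 0<|a 0<|b)<|b))

/-- the functional -/
def Ue10 : Fin 7 → ℤ := ![0, -1, 0, 0, 0, 0, 0]

theorem eig_10 : EigOK (hd ch10) c10 Ve10 Ue10 :=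
  H493.EigF.ok (H493.EigF.hT H493.EigF.t7) H493.EigF.r4 (H493.EigF.mc H493.EigF.r7 <| H493.EigF.mc H493.EigF.r7 <| H493.EigF.mc H493.EigF.r7 <| H493.EigF.mc H493.EigF.r7 <| H493.EigF.m0) H493.EigF.r7 (by decide +kernel)

theorem rel10 {F : Type u} [Field F] [Finite F] {r s : ℕ} (hr : r.Prime) (hs : s.Prime) (hrs : r ≠ s)
    (h1 : phiC c10 (Nat.card F) 2 r) (h2 : phiC c10 (Nat.card F) 2 s) :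
    PG.Rel ↥(chevE7.group F) r s := by
  have := finW
  exact rel_of_eig hp CoxeterMatrix.E₇.toCoxeterSystem H129.TorusChar.invC_E7 (by norm_num)
    (chain_rep hp CoxeterMatrix.E₇.toCoxeterSystem hA ch10_ok) eig_10 eig_10 hr hs hrs h1.1 h2.1 h1.2 h2.2

/-- partial products of an element with characteristic polynomial divisible by the cyclotomic polynomial 12 -/
def ch12 : List (Fin 7 × Mat 7) := (beta% delta% lq26957d6a04 fun a b c d e =>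
 (c (d 0 (a (a 0<|a 0<|a 1<|a 0<|a 0<|a 0<|a 0<|b)<|a (a 1<|a 0<|a 1<|a 1<|a 0<|a 0<|a 0<|b)<|a (a 0<|a 1<|a 0<|a 1<|a 0<|a 0<|a 0<|b)<|a (a 0<|a 0<|a 0<|a 0<|a 1<|a 0<|a 0<|b)<|
 a (a 0<|a 0<|a 0<|a 0<|a 0<|a 1<|a 0<|b)<|a (a (-1)<|a (-1)<|a (-1)<|a (-1)<|a (-1)<|a (-1)<|a 0<|b)<|a (a 1<|a 1<|a 1<|a 1<|a 1<|a 1<|a 1<|b)<|b))<|
 c (d 1 (a (a 1<|a 0<|a 1<|a 0<|a 0<|a 0<|a 0<|b)<|a (a 0<|a 0<|a 1<|a 1<|a 0<|a 0<|a 0<|b)<|a (a 0<|a 1<|a 0<|a 1<|a 0<|a 0<|a 0<|b)<|a (a 0<|a 0<|a 0<|a 0<|a 1<|a 0<|a 0<|b)<|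
 a (a 0<|a 0<|a 0<|a 0<|a 0<|a 1<|a 0<|b)<|a (a 0<|a (-1)<|a (-1)<|a (-1)<|a (-1)<|a (-1)<|a 0<|b)<|a (a 0<|a 1<|a 1<|a 1<|a 1<|a 1<|a 1<|b)<|b))<|
 c (d 2 (a (a 1<|a 0<|a 1<|a 0<|a 0<|a 0<|a 0<|b)<|a (a 0<|a 1<|a 1<|a 1<|a 0<|a 0<|a 0<|b)<|a (a 0<|a 0<|a 0<|a 1<|a 0<|a 0<|a 0<|b)<|a (a 0<|a 0<|a 0<|a 0<|a 1<|a 0<|a 0<|b)<|
 a (a 0<|a 0<|a 0<|a 0<|a 0<|a 1<|a 0<|b)<|a (a 0<|a 0<|a (-1)<|a (-1)<|a (-1)<|a (-1)<|a 0<|b)<|a (a 0<|a 0<|a 1<|a 1<|a 1<|a 1<|a 1<|b)<|b))<|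
 c (d 3 (a (a 1<|a 0<|a 0<|a 0<|a 0<|a 0<|a 0<|b)<|a (a 0<|a 1<|a 0<|a 1<|a 0<|a 0<|a 0<|b)<|a (a 0<|a 0<|a 1<|a 1<|a 0<|a 0<|a 0<|b)<|a (a 0<|a 0<|a 0<|a 0<|a 1<|a 0<|a 0<|b)<|
 a (a 0<|a 0<|a 0<|a 0<|a 0<|a 1<|a 0<|b)<|a (a 0<|a 0<|a 0<|a (-1)<|a (-1)<|a (-1)<|a 0<|b)<|a (a 0<|a 0<|a 0<|a 1<|a 1<|a 1<|a 1<|b)<|b))<|
 c (d 4 (a (a 1<|a 0<|a 0<|a 0<|a 0<|a 0<|a 0<|b)<|a (a 0<|a 1<|a 0<|a 0<|a 0<|a 0<|a 0<|b)<|a (a 0<|a 0<|a 1<|a 0<|a 0<|a 0<|a 0<|b)<|a (a 0<|a 0<|a 0<|a 1<|a 1<|a 0<|a 0<|b)<|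
 a (a 0<|a 0<|a 0<|a 0<|a 0<|a 1<|a 0<|b)<|a (a 0<|a 0<|a 0<|a 0<|a (-1)<|a (-1)<|a 0<|b)<|a (a 0<|a 0<|a 0<|a 0<|a 1<|a 1<|a 1<|b)<|b))<|
 c (d 5 (a (a 1<|a 0<|a 0<|a 0<|a 0<|a 0<|a 0<|b)<|a (a 0<|a 1<|a 0<|a 0<|a 0<|a 0<|a 0<|b)<|a (a 0<|a 0<|a 1<|a 0<|a 0<|a 0<|a 0<|b)<|a (a 0<|a 0<|a 0<|a 1<|a 0<|a 0<|a 0<|b)<|
 a (a 0<|a 0<|a 0<|a 0<|a 1<|a 1<|a 0<|b)<|a (a 0<|a 0<|a 0<|a 0<|a 0<|a (-1)<|a 0<|b)<|a (a 0<|a 0<|a 0<|a 0<|a 0<|a 1<|a 1<|b)<|b))<|e))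

theorem ch12_ok : ChainOK Am ch12 :=
  H129.ChainF.ok H129.ChainF.i7 H129.ChainF.m7 (H129.ChainF.c7 <| H129.ChainF.c7 <| H129.ChainF.c7 <| H129.ChainF.c7 <| H129.ChainF.c7 <| H129.ChainF.c7 <| H129.ChainF.nil) (by decide +kernel)

/-- coefficients of the eigenvector -/
def Ve12 : Fin 4 → Fin 7 → ℤ := (beta% delta% lq26957d6a04 fun a b _ _ _ =>
 (a (a 0<|a 1<|a 0<|a 1<|a 1<|a 1<|a 0<|b)<|a (a 0<|a 0<|a 1<|a 1<|a 1<|a 0<|a 0<|b)<|a (a 1<|a 0<|a 1<|a 1<|a 0<|a 0<|a 0<|b)<|a (a 0<|a 1<|a 0<|a 0<|a 0<|a 0<|a 0<|b)<|b))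

/-- the functional -/
def Ue12 : Fin 7 → ℤ := ![0, 0, -1, 1, 0, 0, 0]

theorem eig_12 : EigOK (hd ch12) c12 Ve12 Ue12 :=
  H493.EigF.ok (H493.EigF.hT H493.EigF.t7) H493.EigF.r4 (H493.EigF.mc H493.EigF.r7 <| H493.EigF.mc H493.EigF.r7 <| H493.EigF.mc H493.EigF.r7 <| H493.EigF.mc H493.EigF.r7 <| H493.EigF.m0) H493.EigF.r7 (by decide +kernel)

theorem rel12 {F : Type u} [Field F] [Finite F] {r s : ℕ} (hr : r.Prime) (hs : s.Prime) (hrs : r ≠ s)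
    (h1 : phiC c12 (Nat.card F) 2 r) (h2 : phiC c12 (Nat.card F) 2 s) :
    PG.Rel ↥(chevE7.group F) r s := by
  have := finW
  exact rel_of_eig hp CoxeterMatrix.E₇.toCoxeterSystem H129.TorusChar.invC_E7 (by norm_num)
    (chain_rep hp CoxeterMatrix.E₇.toCoxeterSystem hA ch12_ok) eig_12 eig_12 hr hs hrs h1.1 h2.1 h1.2 h2.2

/-- partial products of an element with characteristic polynomial divisible by the cyclotomic polynomial 14 -/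
def ch14 : List (Fin 7 × Mat 7) := (beta% delta% lq26957d6a04 fun a b c d e =>
 (c (d 4 (a (a 0<|a 0<|a 0<|a (-1)<|a (-1)<|a 0<|a 0<|b)<|a (a (-1)<|a 0<|a 0<|a 0<|a 0<|a 0<|a 0<|b)<|a (a 0<|a 1<|a 0<|a 1<|a 1<|a 0<|a 0<|b)<|a (a 0<|a (-1)<|a (-1)<|a (-1)<|a (-1)<|a 0<|a 0<|b)<|
 a (a 1<|a 1<|a 2<|a 2<|a 2<|a 1<|a 0<|b)<|a (a 0<|a 0<|a 0<|a 0<|a 0<|a 0<|a 1<|b)<|a (a 0<|a 0<|a 0<|a 0<|a (-1)<|a (-1)<|a (-1)<|b)<|b))<|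
 c (d 5 (a (a 0<|a 0<|a 0<|a (-1)<|a 0<|a 0<|a 0<|b)<|a (a (-1)<|a 0<|a 0<|a 0<|a 0<|a 0<|a 0<|b)<|a (a 0<|a 1<|a 0<|a 1<|a 0<|a 0<|a 0<|b)<|a (a 0<|a (-1)<|a (-1)<|a (-1)<|a 0<|a 0<|a 0<|b)<|
 a (a 1<|a 1<|a 2<|a 2<|a 1<|a 1<|a 0<|b)<|a (a 0<|a 0<|a 0<|a 0<|a 0<|a 0<|a 1<|b)<|a (a 0<|a 0<|a 0<|a 0<|a 0<|a (-1)<|a (-1)<|b)<|b))<|
 c (d 0 (a (a 0<|a 0<|a 0<|a (-1)<|a 0<|a 0<|a 0<|b)<|a (a (-1)<|a 0<|a 0<|a 0<|a 0<|a 0<|a 0<|b)<|a (a 0<|a 1<|a 0<|a 1<|a 0<|a 0<|a 0<|b)<|a (a 0<|a (-1)<|a (-1)<|a (-1)<|a 0<|a 0<|a 0<|b)<|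
 a (a 1<|a 1<|a 2<|a 2<|a 1<|a 0<|a 0<|b)<|a (a 0<|a 0<|a 0<|a 0<|a 0<|a 1<|a 1<|b)<|a (a 0<|a 0<|a 0<|a 0<|a 0<|a 0<|a (-1)<|b)<|b))<|
 c (d 2 (a (a 0<|a 0<|a 0<|a (-1)<|a 0<|a 0<|a 0<|b)<|a (a 1<|a 0<|a 0<|a 0<|a 0<|a 0<|a 0<|b)<|a (a 0<|a 1<|a 0<|a 1<|a 0<|a 0<|a 0<|b)<|a (a (-1)<|a (-1)<|a (-1)<|a (-1)<|a 0<|a 0<|a 0<|b)<|
 a (a 1<|a 1<|a 2<|a 2<|a 1<|a 0<|a 0<|b)<|a (a 0<|a 0<|a 0<|a 0<|a 0<|a 1<|a 1<|b)<|a (a 0<|a 0<|a 0<|a 0<|a 0<|a 0<|a (-1)<|b)<|b))<|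
 c (d 3 (a (a 0<|a 0<|a (-1)<|a (-1)<|a 0<|a 0<|a 0<|b)<|a (a 1<|a 0<|a 1<|a 0<|a 0<|a 0<|a 0<|b)<|a (a 0<|a 1<|a 1<|a 1<|a 0<|a 0<|a 0<|b)<|a (a (-1)<|a (-1)<|a (-1)<|a (-1)<|a 0<|a 0<|a 0<|b)<|
 a (a 1<|a 1<|a 1<|a 2<|a 1<|a 0<|a 0<|b)<|a (a 0<|a 0<|a 0<|a 0<|a 0<|a 1<|a 1<|b)<|a (a 0<|a 0<|a 0<|a 0<|a 0<|a 0<|a (-1)<|b)<|b))<|
 c (d 0 (a (a 0<|a 0<|a (-1)<|a 0<|a 0<|a 0<|a 0<|b)<|a (a 1<|a 0<|a 1<|a 1<|a 0<|a 0<|a 0<|b)<|a (a 0<|a 1<|a 1<|a 1<|a 0<|a 0<|a 0<|b)<|a (a (-1)<|a (-1)<|a (-1)<|a (-1)<|a 0<|a 0<|a 0<|b)<|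
 a (a 1<|a 1<|a 1<|a 1<|a 1<|a 0<|a 0<|b)<|a (a 0<|a 0<|a 0<|a 0<|a 0<|a 1<|a 1<|b)<|a (a 0<|a 0<|a 0<|a 0<|a 0<|a 0<|a (-1)<|b)<|b))<|
 c (d 1 (a (a (-1)<|a 0<|a (-1)<|a 0<|a 0<|a 0<|a 0<|b)<|a (a 0<|a 0<|a 1<|a 1<|a 0<|a 0<|a 0<|b)<|a (a 1<|a 1<|a 1<|a 1<|a 0<|a 0<|a 0<|b)<|a (a 0<|a (-1)<|a (-1)<|a (-1)<|a 0<|a 0<|a 0<|b)<|
 a (a 0<|a 1<|a 1<|a 1<|a 1<|a 0<|a 0<|b)<|a (a 0<|a 0<|a 0<|a 0<|a 0<|a 1<|a 1<|b)<|a (a 0<|a 0<|a 0<|a 0<|a 0<|a 0<|a (-1)<|b)<|b))<|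
 c (d 2 (a (a (-1)<|a 0<|a (-1)<|a 0<|a 0<|a 0<|a 0<|b)<|a (a 0<|a 1<|a 1<|a 1<|a 0<|a 0<|a 0<|b)<|a (a 1<|a 0<|a 1<|a 1<|a 0<|a 0<|a 0<|b)<|a (a 0<|a 0<|a (-1)<|a (-1)<|a 0<|a 0<|a 0<|b)<|
 a (a 0<|a 0<|a 1<|a 1<|a 1<|a 0<|a 0<|b)<|a (a 0<|a 0<|a 0<|a 0<|a 0<|a 1<|a 1<|b)<|a (a 0<|a 0<|a 0<|a 0<|a 0<|a 0<|a (-1)<|b)<|b))<|
 c (d 0 (a (a (-1)<|a 0<|a 0<|a 0<|a 0<|a 0<|a 0<|b)<|a (a 0<|a 1<|a 0<|a 1<|a 0<|a 0<|a 0<|b)<|a (a 1<|a 0<|a 1<|a 1<|a 0<|a 0<|a 0<|b)<|a (a 0<|a 0<|a 0<|a (-1)<|a 0<|a 0<|a 0<|b)<|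
 a (a 0<|a 0<|a 0<|a 1<|a 1<|a 0<|a 0<|b)<|a (a 0<|a 0<|a 0<|a 0<|a 0<|a 1<|a 1<|b)<|a (a 0<|a 0<|a 0<|a 0<|a 0<|a 0<|a (-1)<|b)<|b))<|
 c (d 6 (a (a 1<|a 0<|a 0<|a 0<|a 0<|a 0<|a 0<|b)<|a (a 0<|a 1<|a 0<|a 1<|a 0<|a 0<|a 0<|b)<|a (a 0<|a 0<|a 1<|a 1<|a 0<|a 0<|a 0<|b)<|a (a 0<|a 0<|a 0<|a (-1)<|a 0<|a 0<|a 0<|b)<|
 a (a 0<|a 0<|a 0<|a 1<|a 1<|a 0<|a 0<|b)<|a (a 0<|a 0<|a 0<|a 0<|a 0<|a 1<|a 1<|b)<|a (a 0<|a 0<|a 0<|a 0<|a 0<|a 0<|a (-1)<|b)<|b))<|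
 c (d 3 (a (a 1<|a 0<|a 0<|a 0<|a 0<|a 0<|a 0<|b)<|a (a 0<|a 1<|a 0<|a 1<|a 0<|a 0<|a 0<|b)<|a (a 0<|a 0<|a 1<|a 1<|a 0<|a 0<|a 0<|b)<|a (a 0<|a 0<|a 0<|a (-1)<|a 0<|a 0<|a 0<|b)<|
 a (a 0<|a 0<|a 0<|a 1<|a 1<|a 0<|a 0<|b)<|a (a 0<|a 0<|a 0<|a 0<|a 0<|a 1<|a 0<|b)<|a (a 0<|a 0<|a 0<|a 0<|a 0<|a 0<|a 1<|b)<|b))<|e))

theorem ch14_ok : ChainOK Am ch14 :=
  H129.ChainF.ok H129.ChainF.i7 H129.ChainF.m7 (H129.ChainF.c7 <| H129.ChainF.c7 <| H129.ChainF.c7 <| H129.ChainF.c7 <| H129.ChainF.c7 <| H129.ChainF.c7 <| H129.ChainF.c7 <| H129.ChainF.c7 <| H129.ChainF.c7 <| H129.ChainF.c7 <| H129.ChainF.c7 <| H129.ChainF.nil) (by decide +kernel)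

/-- coefficients of the eigenvector -/
def Ve14 : Fin 6 → Fin 7 → ℤ := (beta% delta% lq26957d6a04 fun a b _ _ _ =>
 (a (a 0<|a (-1)<|a (-1)<|a (-2)<|a (-1)<|a (-1)<|a (-1)<|b)<|a (a (-1)<|a (-1)<|a (-1)<|a (-1)<|a (-1)<|a (-1)<|a 0<|b)<|a (a (-1)<|a (-1)<|a (-2)<|a (-3)<|a (-2)<|a (-1)<|a (-1)<|b)<|
 a (a 0<|a 0<|a 0<|a 0<|a (-1)<|a (-1)<|a 0<|b)<|a (a 0<|a (-1)<|a (-1)<|a (-2)<|a (-1)<|a 0<|a 0<|b)<|a (a 0<|a 0<|a 0<|a 1<|a 0<|a 0<|a 0<|b)<|b))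

/-- the functional -/
def Ue14 : Fin 7 → ℤ := ![1, 0, -1, 0, 1, -1, 0]

theorem eig_14 : EigOK (hd ch14) c14 Ve14 Ue14 :=
  H493.EigF.ok (H493.EigF.hT H493.EigF.t7) H493.EigF.r6 (H493.EigF.mc H493.EigF.r7 <| H493.EigF.mc H493.EigF.r7 <| H493.EigF.mc H493.EigF.r7 <| H493.EigF.mc H493.EigF.r7 <| H493.EigF.mc H493.EigF.r7 <| H493.EigF.mc H493.EigF.r7 <| H493.EigF.m0) H493.EigF.r7 (by decide +kernel)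

theorem rel14 {F : Type u} [Field F] [Finite F] {r s : ℕ} (hr : r.Prime) (hs : s.Prime) (hrs : r ≠ s)
    (h1 : phiC c14 (Nat.card F) 2 r) (h2 : phiC c14 (Nat.card F) 2 s) :
    PG.Rel ↥(chevE7.group F) r s := by
  have := finW
  exact rel_of_eig hp CoxeterMatrix.E₇.toCoxeterSystem H129.TorusChar.invC_E7 (by norm_num)
    (chain_rep hp CoxeterMatrix.E₇.toCoxeterSystem hA ch14_ok) eig_14 eig_14 hr hs hrs h1.1 h2.1 h1.2 h2.2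

/-- partial products of an element with characteristic polynomial divisible by the cyclotomic polynomial 18 -/
def ch18 : List (Fin 7 × Mat 7) := (beta% delta% lq26957d6a04 fun a b c d e =>
 (c (d 0 (a (a 0<|a 0<|a 1<|a 0<|a 0<|a 0<|a 0<|b)<|a (a 1<|a 0<|a 1<|a 1<|a 0<|a 0<|a 0<|b)<|a (a 0<|a 1<|a 0<|a 1<|a 0<|a 0<|a 0<|b)<|a (a 0<|a 0<|a 0<|a 0<|a 1<|a 0<|a 0<|b)<|
 a (a 0<|a 0<|a 0<|a 0<|a 0<|a 1<|a 0<|b)<|a (a 0<|a 0<|a 0<|a 0<|a 0<|a 0<|a 1<|b)<|a (a (-1)<|a (-1)<|a (-1)<|a (-1)<|a (-1)<|a (-1)<|a (-1)<|b)<|b))<|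
 c (d 1 (a (a 1<|a 0<|a 1<|a 0<|a 0<|a 0<|a 0<|b)<|a (a 0<|a 0<|a 1<|a 1<|a 0<|a 0<|a 0<|b)<|a (a 0<|a 1<|a 0<|a 1<|a 0<|a 0<|a 0<|b)<|a (a 0<|a 0<|a 0<|a 0<|a 1<|a 0<|a 0<|b)<|
 a (a 0<|a 0<|a 0<|a 0<|a 0<|a 1<|a 0<|b)<|a (a 0<|a 0<|a 0<|a 0<|a 0<|a 0<|a 1<|b)<|a (a 0<|a (-1)<|a (-1)<|a (-1)<|a (-1)<|a (-1)<|a (-1)<|b)<|b))<|
 c (d 2 (a (a 1<|a 0<|a 1<|a 0<|a 0<|a 0<|a 0<|b)<|a (a 0<|a 1<|a 1<|a 1<|a 0<|a 0<|a 0<|b)<|a (a 0<|a 0<|a 0<|a 1<|a 0<|a 0<|a 0<|b)<|a (a 0<|a 0<|a 0<|a 0<|a 1<|a 0<|a 0<|b)<|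
 a (a 0<|a 0<|a 0<|a 0<|a 0<|a 1<|a 0<|b)<|a (a 0<|a 0<|a 0<|a 0<|a 0<|a 0<|a 1<|b)<|a (a 0<|a 0<|a (-1)<|a (-1)<|a (-1)<|a (-1)<|a (-1)<|b)<|b))<|
 c (d 3 (a (a 1<|a 0<|a 0<|a 0<|a 0<|a 0<|a 0<|b)<|a (a 0<|a 1<|a 0<|a 1<|a 0<|a 0<|a 0<|b)<|a (a 0<|a 0<|a 1<|a 1<|a 0<|a 0<|a 0<|b)<|a (a 0<|a 0<|a 0<|a 0<|a 1<|a 0<|a 0<|b)<|
 a (a 0<|a 0<|a 0<|a 0<|a 0<|a 1<|a 0<|b)<|a (a 0<|a 0<|a 0<|a 0<|a 0<|a 0<|a 1<|b)<|a (a 0<|a 0<|a 0<|a (-1)<|a (-1)<|a (-1)<|a (-1)<|b)<|b))<|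
 c (d 4 (a (a 1<|a 0<|a 0<|a 0<|a 0<|a 0<|a 0<|b)<|a (a 0<|a 1<|a 0<|a 0<|a 0<|a 0<|a 0<|b)<|a (a 0<|a 0<|a 1<|a 0<|a 0<|a 0<|a 0<|b)<|a (a 0<|a 0<|a 0<|a 1<|a 1<|a 0<|a 0<|b)<|
 a (a 0<|a 0<|a 0<|a 0<|a 0<|a 1<|a 0<|b)<|a (a 0<|a 0<|a 0<|a 0<|a 0<|a 0<|a 1<|b)<|a (a 0<|a 0<|a 0<|a 0<|a (-1)<|a (-1)<|a (-1)<|b)<|b))<|
 c (d 5 (a (a 1<|a 0<|a 0<|a 0<|a 0<|a 0<|a 0<|b)<|a (a 0<|a 1<|a 0<|a 0<|a 0<|a 0<|a 0<|b)<|a (a 0<|a 0<|a 1<|a 0<|a 0<|a 0<|a 0<|b)<|a (a 0<|a 0<|a 0<|a 1<|a 0<|a 0<|a 0<|b)<|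
 a (a 0<|a 0<|a 0<|a 0<|a 1<|a 1<|a 0<|b)<|a (a 0<|a 0<|a 0<|a 0<|a 0<|a 0<|a 1<|b)<|a (a 0<|a 0<|a 0<|a 0<|a 0<|a (-1)<|a (-1)<|b)<|b))<|
 c (d 6 (a (a 1<|a 0<|a 0<|a 0<|a 0<|a 0<|a 0<|b)<|a (a 0<|a 1<|a 0<|a 0<|a 0<|a 0<|a 0<|b)<|a (a 0<|a 0<|a 1<|a 0<|a 0<|a 0<|a 0<|b)<|a (a 0<|a 0<|a 0<|a 1<|a 0<|a 0<|a 0<|b)<|
 a (a 0<|a 0<|a 0<|a 0<|a 1<|a 0<|a 0<|b)<|a (a 0<|a 0<|a 0<|a 0<|a 0<|a 1<|a 1<|b)<|a (a 0<|a 0<|a 0<|a 0<|a 0<|a 0<|a (-1)<|b)<|b))<|e))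

theorem ch18_ok : ChainOK Am ch18 :=
  H129.ChainF.ok H129.ChainF.i7 H129.ChainF.m7 (H129.ChainF.c7 <| H129.ChainF.c7 <| H129.ChainF.c7 <| H129.ChainF.c7 <| H129.ChainF.c7 <| H129.ChainF.c7 <| H129.ChainF.c7 <| H129.ChainF.nil) (by decide +kernel)

/-- coefficients of the eigenvector -/
def Ve18 : Fin 6 → Fin 7 → ℤ := (beta% delta% lq26957d6a04 fun a b _ _ _ =>
 (a (a 1<|a 0<|a 1<|a 1<|a 1<|a 1<|a 1<|b)<|a (a 0<|a 1<|a 0<|a 1<|a 1<|a 1<|a 0<|b)<|a (a 0<|a 0<|a 1<|a 1<|a 1<|a 0<|a 0<|b)<|a (a 0<|a 1<|a 0<|a 1<|a 0<|a 0<|a 0<|b)<|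
 a (a 0<|a 0<|a 1<|a 0<|a 0<|a 0<|a 0<|b)<|a (a 1<|a 0<|a 0<|a 0<|a 0<|a 0<|a 0<|b)<|b))

/-- the functional -/
def Ue18 : Fin 7 → ℤ := ![0, -1, 0, 1, -1, 1, 0]

theorem eig_18 : EigOK (hd ch18) c18 Ve18 Ue18 :=
  H493.EigF.ok (H493.EigF.hT H493.EigF.t7) H493.EigF.r6 (H493.EigF.mc H493.EigF.r7 <| H493.EigF.mc H493.EigF.r7 <| H493.EigF.mc H493.EigF.r7 <| H493.EigF.mc H493.EigF.r7 <| H493.EigF.mc H493.EigF.r7 <| H493.EigF.mc H493.EigF.r7 <| H493.EigF.m0) H493.EigF.r7 (by decide +kernel)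

theorem rel18 {F : Type u} [Field F] [Finite F] {r s : ℕ} (hr : r.Prime) (hs : s.Prime) (hrs : r ≠ s)
    (h1 : phiC c18 (Nat.card F) 2 r) (h2 : phiC c18 (Nat.card F) 2 s) :
    PG.Rel ↥(chevE7.group F) r s := by
  have := finW
  exact rel_of_eig hp CoxeterMatrix.E₇.toCoxeterSystem H129.TorusChar.invC_E7 (by norm_num)
    (chain_rep hp CoxeterMatrix.E₇.toCoxeterSystem hA ch18_ok) eig_18 eig_18 hr hs hrs h1.1 h2.1 h1.2 h2.2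

end Cfsg.Agent.H168.ExcE7
end

-- part: H168/ExcF4
section
set_option linter.all false

/-!
# Adjacency of the prime divisors of each cyclotomic value, type F4 (helper168)
-/

set_option autoImplicit false

namespace Cfsg.Agent.H168.ExcF4

open Cfsg.Agent.H129.WData Cfsg.Agent.ChevalleyStructure.CoxeterGeomTypes Cfsg.Agent.Nodes.RGDChev
open Cfsg.Lie Cfsg.Lie.ChevalleyDatum
open Cfsg.Agent.H493 Cfsg.Agent.H493.PGTorus Cfsg.Agent.H493.PGCyc Cfsg.Agent.H493.PGF4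
open Cfsg.Agent.H168.ExcAdj

universe u

/-- partial products of an element with characteristic polynomial divisible by the cyclotomic polynomial 1 -/
def ch1 : List (Fin 4 × Mat 4) := []

theorem ch1_ok : ChainOK Am ch1 := by decide +kernel

/-- coefficients of the eigenvector -/
def Ve1 : Fin 1 → Fin 4 → ℤ := ![![1, 0, 0, 0]]

/-- the functional -/
def Ue1 : Fin 4 → ℤ := ![1, 0, 0, 0]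

theorem eig_1 : EigOK (hd ch1) c1 Ve1 Ue1 := by decide +kernel

theorem rel1 {F : Type u} [Field F] [Finite F] {r s : ℕ} (hr : r.Prime) (hs : s.Prime) (hrs : r ≠ s)
    (h1 : phiC c1 (Nat.card F) 1 r) (h2 : phiC c1 (Nat.card F) 1 s) :
    PG.Rel ↥(chevF4.group F) r s := by
  have := finW
  exact rel_of_eig hp CoxeterMatrix.F₄.toCoxeterSystem H129.TorusChar.invC_F4 one_ne_zero
    (chain_rep hp CoxeterMatrix.F₄.toCoxeterSystem hA ch1_ok) eig_1 eig_1 hr hs hrs h1.1 h2.1 h1.2 h2.2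

/-- partial products of an element with characteristic polynomial divisible by the cyclotomic polynomial 2 -/
def ch2 : List (Fin 4 × Mat 4) := [
    (0, ![![-1, 0, 0, 0], ![1, 1, 0, 0], ![0, 0, 1, 0], ![0, 0, 0, 1]])]

theorem ch2_ok : ChainOK Am ch2 := by decide +kernel

/-- coefficients of the eigenvector -/
def Ve2 : Fin 1 → Fin 4 → ℤ := ![![1, 0, 0, 0]]

/-- the functional -/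
def Ue2 : Fin 4 → ℤ := ![1, 0, 0, 0]

theorem eig_2 : EigOK (hd ch2) c2 Ve2 Ue2 := by decide +kernel

theorem rel2 {F : Type u} [Field F] [Finite F] {r s : ℕ} (hr : r.Prime) (hs : s.Prime) (hrs : r ≠ s)
    (h1 : phiC c2 (Nat.card F) 1 r) (h2 : phiC c2 (Nat.card F) 1 s) :
    PG.Rel ↥(chevF4.group F) r s := by
  have := finW
  exact rel_of_eig hp CoxeterMatrix.F₄.toCoxeterSystem H129.TorusChar.invC_F4 one_ne_zero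
    (chain_rep hp CoxeterMatrix.F₄.toCoxeterSystem hA ch2_ok) eig_2 eig_2 hr hs hrs h1.1 h2.1 h1.2 h2.2

/-- partial products of an element with characteristic polynomial divisible by the cyclotomic polynomial 3 -/
def ch3 : List (Fin 4 × Mat 4) := [
    (0, ![![0, 1, 0, 0], ![-1, -1, 0, 0], ![2, 2, 1, 0], ![0, 0, 0, 1]]),
    (1, ![![1, 1, 0, 0], ![0, -1, 0, 0], ![0, 2, 1, 0], ![0, 0, 0, 1]])]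

theorem ch3_ok : ChainOK Am ch3 := by decide +kernel

/-- coefficients of the eigenvector -/
def Ve3 : Fin 2 → Fin 4 → ℤ := ![![1, 1, 0, 0], ![1, 0, 0, 0]]

/-- the functional -/
def Ue3 : Fin 4 → ℤ := ![0, 1, 0, 0]

theorem eig_3 : EigOK (hd ch3) c3 Ve3 Ue3 := by decide +kernel

theorem rel3 {F : Type u} [Field F] [Finite F] {r s : ℕ} (hr : r.Prime) (hs : s.Prime) (hrs : r ≠ s)
    (h1 : phiC c3 (Nat.card F) 1 r) (h2 : phiC c3 (Nat.card F) 1 s) :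
    PG.Rel ↥(chevF4.group F) r s := by
  have := finW
  exact rel_of_eig hp CoxeterMatrix.F₄.toCoxeterSystem H129.TorusChar.invC_F4 one_ne_zero
    (chain_rep hp CoxeterMatrix.F₄.toCoxeterSystem hA ch3_ok) eig_3 eig_3 hr hs hrs h1.1 h2.1 h1.2 h2.2

/-- partial products of an element with characteristic polynomial divisible by the cyclotomic polynomial 4 -/
def ch4 : List (Fin 4 × Mat 4) := [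
    (1, ![![1, 1, 0, 0], ![0, 1, 1, 0], ![0, -2, -1, 0], ![0, 2, 1, 1]]),
    (2, ![![1, 0, 0, 0], ![0, 1, 1, 0], ![0, 0, -1, 0], ![0, 0, 1, 1]])]

theorem ch4_ok : ChainOK Am ch4 := by decide +kernel

/-- coefficients of the eigenvector -/
def Ve4 : Fin 2 → Fin 4 → ℤ := ![![0, 1, 1, 0], ![0, 1, 0, 0]]

/-- the functional -/
def Ue4 : Fin 4 → ℤ := ![0, 0, 1, 0]

theorem eig_4 : EigOK (hd ch4) c4 Ve4 Ue4 := by decide +kernel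

theorem rel4 {F : Type u} [Field F] [Finite F] {r s : ℕ} (hr : r.Prime) (hs : s.Prime) (hrs : r ≠ s)
    (h1 : phiC c4 (Nat.card F) 1 r) (h2 : phiC c4 (Nat.card F) 1 s) :
    PG.Rel ↥(chevF4.group F) r s := by
  have := finW
  exact rel_of_eig hp CoxeterMatrix.F₄.toCoxeterSystem H129.TorusChar.invC_F4 one_ne_zero
    (chain_rep hp CoxeterMatrix.F₄.toCoxeterSystem hA ch4_ok) eig_4 eig_4 hr hs hrs h1.1 h2.1 h1.2 h2.2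

/-- partial products of an element with characteristic polynomial divisible by the cyclotomic polynomial 6 -/
def ch6 : List (Fin 4 × Mat 4) := [
    (0, ![![0, 1, 0, 0], ![1, 1, 1, 0], ![-2, -2, -1, 0], ![2, 2, 1, 1]]),
    (1, ![![1, 1, 0, 0], ![0, 1, 1, 0], ![0, -2, -1, 0], ![0, 2, 1, 1]]),
    (2, ![![1, 0, 0, 0], ![0, 1, 1, 0], ![0, 0, -1, 0], ![0, 0, 1, 1]])]

theorem ch6_ok : ChainOK Am ch6 := by decide +kernel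

/-- coefficients of the eigenvector -/
def Ve6 : Fin 2 → Fin 4 → ℤ := ![![0, 1, 1, 0], ![1, 1, 0, 0]]

/-- the functional -/
def Ue6 : Fin 4 → ℤ := ![-1, 1, 0, 0]

theorem eig_6 : EigOK (hd ch6) c6 Ve6 Ue6 := by decide +kernel

theorem rel6 {F : Type u} [Field F] [Finite F] {r s : ℕ} (hr : r.Prime) (hs : s.Prime) (hrs : r ≠ s)
    (h1 : phiC c6 (Nat.card F) 1 r) (h2 : phiC c6 (Nat.card F) 1 s) :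
    PG.Rel ↥(chevF4.group F) r s := by
  have := finW
  exact rel_of_eig hp CoxeterMatrix.F₄.toCoxeterSystem H129.TorusChar.invC_F4 one_ne_zero
    (chain_rep hp CoxeterMatrix.F₄.toCoxeterSystem hA ch6_ok) eig_6 eig_6 hr hs hrs h1.1 h2.1 h1.2 h2.2

/-- partial products of an element with characteristic polynomial divisible by the cyclotomic polynomial 8 -/
def ch8 : List (Fin 4 × Mat 4) := [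
    (0, ![![1, 2, 1, 0], ![1, 1, 1, 1], ![-2, -2, -2, -1], ![0, 0, 1, 0]]),
    (1, ![![1, 2, 1, 0], ![0, 1, 1, 1], ![0, -2, -2, -1], ![0, 0, 1, 0]]),
    (2, ![![1, 1, 1, 0], ![0, 1, 1, 1], ![0, -2, -2, -1], ![0, 2, 1, 0]]),
    (1, ![![1, 1, 0, 0], ![0, 1, 1, 1], ![0, -2, -1, -1], ![0, 2, 1, 0]]),
    (3, ![![1, 0, 0, 0], ![0, 1, 1, 1], ![0, 0, -1, -1], ![0, 0, 1, 0]]),
    (2, ![![1, 0, 0, 0], ![0, 1, 1, 0], ![0, 0, -1, 0], ![0, 0, 1, 1]])]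

theorem ch8_ok : ChainOK Am ch8 := by decide +kernel

/-- coefficients of the eigenvector -/
def Ve8 : Fin 4 → Fin 4 → ℤ := ![![-1, -1, -1, 0], ![0, 1, 1, 0], ![1, 1, 1, 1], ![0, 1, 0, 0]]

/-- the functional -/
def Ue8 : Fin 4 → ℤ := ![-1, 0, 0, 1]

theorem eig_8 : EigOK (hd ch8) c8 Ve8 Ue8 := by decide +kernel

theorem rel8 {F : Type u} [Field F] [Finite F] {r s : ℕ} (hr : r.Prime) (hs : s.Prime) (hrs : r ≠ s)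
    (h1 : phiC c8 (Nat.card F) 1 r) (h2 : phiC c8 (Nat.card F) 1 s) :
    PG.Rel ↥(chevF4.group F) r s := by
  have := finW
  exact rel_of_eig hp CoxeterMatrix.F₄.toCoxeterSystem H129.TorusChar.invC_F4 one_ne_zero
    (chain_rep hp CoxeterMatrix.F₄.toCoxeterSystem hA ch8_ok) eig_8 eig_8 hr hs hrs h1.1 h2.1 h1.2 h2.2

/-- partial products of an element with characteristic polynomial divisible by the cyclotomic polynomial 12 -/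
def ch12 : List (Fin 4 × Mat 4) := [
    (0, ![![0, 1, 0, 0], ![1, 1, 1, 0], ![0, 0, 0, 1], ![-2, -2, -1, -1]]),
    (1, ![![1, 1, 0, 0], ![0, 1, 1, 0], ![0, 0, 0, 1], ![0, -2, -1, -1]]),
    (2, ![![1, 0, 0, 0], ![0, 1, 1, 0], ![0, 0, 0, 1], ![0, 0, -1, -1]]),
    (3, ![![1, 0, 0, 0], ![0, 1, 0, 0], ![0, 0, 1, 1], ![0, 0, 0, -1]])]

theorem ch12_ok : ChainOK Am ch12 := by decide +kernel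

/-- coefficients of the eigenvector -/
def Ve12 : Fin 4 → Fin 4 → ℤ := ![![1, 1, 1, 1], ![0, 1, 1, 0], ![0, 1, 0, 0], ![1, 0, 0, 0]]

/-- the functional -/
def Ue12 : Fin 4 → ℤ := ![0, 0, 0, 1]

theorem eig_12 : EigOK (hd ch12) c12 Ve12 Ue12 := by decide +kernel

theorem rel12 {F : Type u} [Field F] [Finite F] {r s : ℕ} (hr : r.Prime) (hs : s.Prime) (hrs : r ≠ s)
    (h1 : phiC c12 (Nat.card F) 1 r) (h2 : phiC c12 (Nat.card F) 1 s) :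
    PG.Rel ↥(chevF4.group F) r s := by
  have := finW
  exact rel_of_eig hp CoxeterMatrix.F₄.toCoxeterSystem H129.TorusChar.invC_F4 one_ne_zero
    (chain_rep hp CoxeterMatrix.F₄.toCoxeterSystem hA ch12_ok) eig_12 eig_12 hr hs hrs h1.1 h2.1 h1.2 h2.2

end Cfsg.Agent.H168.ExcF4
end

-- part: H168/ExcG2
section
set_option linter.all false

/-!
# Adjacency of the prime divisors of each cyclotomic value, type G2 (helper168)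
-/

set_option autoImplicit false

namespace Cfsg.Agent.H168.ExcG2

open Cfsg.Agent.H129.WData Cfsg.Agent.ChevalleyStructure.CoxeterGeomTypes Cfsg.Agent.Nodes.RGDChev
open Cfsg.Lie Cfsg.Lie.ChevalleyDatum
open Cfsg.Agent.H493 Cfsg.Agent.H493.PGTorus Cfsg.Agent.H493.PGCyc Cfsg.Agent.H493.PGG2
open Cfsg.Agent.H168.ExcAdj

universe u

/-- partial products of an element with characteristic polynomial divisible by the cyclotomic polynomial 1 -/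
def ch1 : List (Fin 2 × Mat 2) := []

theorem ch1_ok : ChainOK Am ch1 := by decide +kernel

/-- coefficients of the eigenvector -/
def Ve1 : Fin 1 → Fin 2 → ℤ := ![![1, 0]]

/-- the functional -/
def Ue1 : Fin 2 → ℤ := ![1, 0]

theorem eig_1 : EigOK (hd ch1) c1 Ve1 Ue1 := by decide +kernel

theorem rel1 {F : Type u} [Field F] [Finite F] {r s : ℕ} (hr : r.Prime) (hs : s.Prime) (hrs : r ≠ s)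
    (h1 : phiC c1 (Nat.card F) 1 r) (h2 : phiC c1 (Nat.card F) 1 s) :
    PG.Rel ↥(chevG2.group F) r s := by
  have := finW
  exact rel_of_eig hp CoxeterMatrix.G₂.toCoxeterSystem H129.TorusChar.invC_G2 one_ne_zero
    (chain_rep hp CoxeterMatrix.G₂.toCoxeterSystem hA ch1_ok) eig_1 eig_1 hr hs hrs h1.1 h2.1 h1.2 h2.2

/-- partial products of an element with characteristic polynomial divisible by the cyclotomic polynomial 2 -/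
def ch2 : List (Fin 2 × Mat 2) := [
    (0, ![![-1, 0], ![3, 1]])]

theorem ch2_ok : ChainOK Am ch2 := by decide +kernel

/-- coefficients of the eigenvector -/
def Ve2 : Fin 1 → Fin 2 → ℤ := ![![1, 0]]

/-- the functional -/
def Ue2 : Fin 2 → ℤ := ![1, 0]

theorem eig_2 : EigOK (hd ch2) c2 Ve2 Ue2 := by decide +kernel

theorem rel2 {F : Type u} [Field F] [Finite F] {r s : ℕ} (hr : r.Prime) (hs : s.Prime) (hrs : r ≠ s)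
    (h1 : phiC c2 (Nat.card F) 1 r) (h2 : phiC c2 (Nat.card F) 1 s) :
    PG.Rel ↥(chevG2.group F) r s := by
  have := finW
  exact rel_of_eig hp CoxeterMatrix.G₂.toCoxeterSystem H129.TorusChar.invC_G2 one_ne_zero
    (chain_rep hp CoxeterMatrix.G₂.toCoxeterSystem hA ch2_ok) eig_2 eig_2 hr hs hrs h1.1 h2.1 h1.2 h2.2

/-- partial products of an element with characteristic polynomial divisible by the cyclotomic polynomial 3 -/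
def ch3 : List (Fin 2 × Mat 2) := [
    (1, ![![-2, -1], ![3, 1]]),
    (0, ![![-2, -1], ![3, 2]]),
    (1, ![![-1, -1], ![3, 2]]),
    (0, ![![-1, 0], ![3, 1]])]

theorem ch3_ok : ChainOK Am ch3 := by decide +kernel

/-- coefficients of the eigenvector -/
def Ve3 : Fin 2 → Fin 2 → ℤ := ![![-1, -1], ![1, 0]]

/-- the functional -/
def Ue3 : Fin 2 → ℤ := ![0, -1]

theorem eig_3 : EigOK (hd ch3) c3 Ve3 Ue3 := by decide +kernel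

theorem rel3 {F : Type u} [Field F] [Finite F] {r s : ℕ} (hr : r.Prime) (hs : s.Prime) (hrs : r ≠ s)
    (h1 : phiC c3 (Nat.card F) 1 r) (h2 : phiC c3 (Nat.card F) 1 s) :
    PG.Rel ↥(chevG2.group F) r s := by
  have := finW
  exact rel_of_eig hp CoxeterMatrix.G₂.toCoxeterSystem H129.TorusChar.invC_G2 one_ne_zero
    (chain_rep hp CoxeterMatrix.G₂.toCoxeterSystem hA ch3_ok) eig_3 eig_3 hr hs hrs h1.1 h2.1 h1.2 h2.2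

/-- partial products of an element with characteristic polynomial divisible by the cyclotomic polynomial 6 -/
def ch6 : List (Fin 2 × Mat 2) := [
    (0, ![![2, 1], ![-3, -1]]),
    (1, ![![1, 1], ![0, -1]])]

theorem ch6_ok : ChainOK Am ch6 := by decide +kernel

/-- coefficients of the eigenvector -/
def Ve6 : Fin 2 → Fin 2 → ℤ := ![![1, 1], ![1, 0]]

/-- the functional -/
def Ue6 : Fin 2 → ℤ := ![0, 1]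

theorem eig_6 : EigOK (hd ch6) c6 Ve6 Ue6 := by decide +kernel

theorem rel6 {F : Type u} [Field F] [Finite F] {r s : ℕ} (hr : r.Prime) (hs : s.Prime) (hrs : r ≠ s)
    (h1 : phiC c6 (Nat.card F) 1 r) (h2 : phiC c6 (Nat.card F) 1 s) :
    PG.Rel ↥(chevG2.group F) r s := by
  have := finW
  exact rel_of_eig hp CoxeterMatrix.G₂.toCoxeterSystem H129.TorusChar.invC_G2 one_ne_zero
    (chain_rep hp CoxeterMatrix.G₂.toCoxeterSystem hA ch6_ok) eig_6 eig_6 hr hs hrs h1.1 h2.1 h1.2 h2.2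

end Cfsg.Agent.H168.ExcG2
end

-- part: H168/ExcE6
section
set_option linter.all false

/-!
# Adjacency of the prime divisors of each cyclotomic value, type E6 (helper168)
-/

set_option autoImplicit false

namespace Cfsg.Agent.H168.ExcE6

open Cfsg.Agent.H129.WData Cfsg.Agent.ChevalleyStructure.CoxeterGeomTypes Cfsg.Agent.Nodes.RGDChev
open Cfsg.Lie Cfsg.Lie.ChevalleyDatum
open Cfsg.Agent.H493 Cfsg.Agent.H493.PGTorus Cfsg.Agent.H493.PGCyc Cfsg.Agent.H493.PGE6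
open Cfsg.Agent.H168.ExcAdj

universe u

/-- partial products of an element with characteristic polynomial divisible by the cyclotomic polynomial 1 -/
def ch1 : List (Fin 6 × Mat 6) := []

theorem ch1_ok : ChainOK Am ch1 := by decide +kernel

/-- coefficients of the eigenvector -/
def Ve1 : Fin 1 → Fin 6 → ℤ := ![![1, 0, 0, 0, 0, 0]]

/-- the functional -/
def Ue1 : Fin 6 → ℤ := ![1, 0, 0, 0, 0, 0]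

theorem eig_1 : EigOK (hd ch1) c1 Ve1 Ue1 := by decide +kernel

theorem rel1 {F : Type u} [Field F] [Finite F] {r s : ℕ} (hr : r.Prime) (hs : s.Prime) (hrs : r ≠ s)
    (h1 : phiC c1 (Nat.card F) 3 r) (h2 : phiC c1 (Nat.card F) 3 s) :
    PG.Rel ↥(chevE6.group F) r s := by
  have := finW
  exact rel_of_eig hp CoxeterMatrix.E₆.toCoxeterSystem H129.TorusChar.invC_E6 (by norm_num)
    (chain_rep hp CoxeterMatrix.E₆.toCoxeterSystem hA ch1_ok) eig_1 eig_1 hr hs hrs h1.1 h2.1 h1.2 h2.2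

/-- partial products of an element with characteristic polynomial divisible by the cyclotomic polynomial 2 -/
def ch2 : List (Fin 6 × Mat 6) := [
    (0, ![![-1, 0, 0, 0, 0, 0], ![0, 1, 0, 0, 0, 0], ![1, 0, 1, 0, 0, 0], ![0, 0, 0, 1, 0, 0], ![0, 0, 0, 0, 1, 0],
      ![0, 0, 0, 0, 0, 1]])]

theorem ch2_ok : ChainOK Am ch2 :=
  H129.ChainF.ok H129.ChainF.i6 H129.ChainF.m6 (H129.ChainF.c6 <| H129.ChainF.nil) (by decide +kernel)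

/-- coefficients of the eigenvector -/
def Ve2 : Fin 1 → Fin 6 → ℤ := ![![1, 0, 0, 0, 0, 0]]

/-- the functional -/
def Ue2 : Fin 6 → ℤ := ![1, 0, 0, 0, 0, 0]

theorem eig_2 : EigOK (hd ch2) c2 Ve2 Ue2 :=
  H493.EigF.ok (H493.EigF.hT H493.EigF.t6) H493.EigF.r1 (H493.EigF.mc H493.EigF.r6 <| H493.EigF.m0) H493.EigF.r6 (by decide +kernel)

theorem rel2 {F : Type u} [Field F] [Finite F] {r s : ℕ} (hr : r.Prime) (hs : s.Prime) (hrs : r ≠ s)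
    (h1 : phiC c2 (Nat.card F) 3 r) (h2 : phiC c2 (Nat.card F) 3 s) :
    PG.Rel ↥(chevE6.group F) r s := by
  have := finW
  exact rel_of_eig hp CoxeterMatrix.E₆.toCoxeterSystem H129.TorusChar.invC_E6 (by norm_num)
    (chain_rep hp CoxeterMatrix.E₆.toCoxeterSystem hA ch2_ok) eig_2 eig_2 hr hs hrs h1.1 h2.1 h1.2 h2.2

/-- partial products of an element with characteristic polynomial divisible by the cyclotomic polynomial 3 -/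
def ch3 : List (Fin 6 × Mat 6) := [
    (0, ![![0, 0, 1, 0, 0, 0], ![0, 1, 0, 0, 0, 0], ![-1, 0, -1, 0, 0, 0], ![1, 0, 1, 1, 0, 0], ![0, 0, 0, 0, 1, 0],
      ![0, 0, 0, 0, 0, 1]]),
    (2, ![![1, 0, 1, 0, 0, 0], ![0, 1, 0, 0, 0, 0], ![0, 0, -1, 0, 0, 0], ![0, 0, 1, 1, 0, 0], ![0, 0, 0, 0, 1, 0],
      ![0, 0, 0, 0, 0, 1]])]

theorem ch3_ok : ChainOK Am ch3 :=
  H129.ChainF.ok H129.ChainF.i6 H129.ChainF.m6 (H129.ChainF.c6 <| H129.ChainF.c6 <| H129.ChainF.nil) (by decide +kernel)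

/-- coefficients of the eigenvector -/
def Ve3 : Fin 2 → Fin 6 → ℤ := ![![-1, 0, 0, 0, 0, 0], ![0, 0, 1, 0, 0, 0]]

/-- the functional -/
def Ue3 : Fin 6 → ℤ := ![-1, 0, 0, 0, 0, 0]

theorem eig_3 : EigOK (hd ch3) c3 Ve3 Ue3 :=
  H493.EigF.ok (H493.EigF.hT H493.EigF.t6) H493.EigF.r2 (H493.EigF.mc H493.EigF.r6 <| H493.EigF.mc H493.EigF.r6 <| H493.EigF.m0) H493.EigF.r6 (by decide +kernel)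

theorem rel3 {F : Type u} [Field F] [Finite F] {r s : ℕ} (hr : r.Prime) (hs : s.Prime) (hrs : r ≠ s)
    (h1 : phiC c3 (Nat.card F) 3 r) (h2 : phiC c3 (Nat.card F) 3 s) :
    PG.Rel ↥(chevE6.group F) r s := by
  have := finW
  exact rel_of_eig hp CoxeterMatrix.E₆.toCoxeterSystem H129.TorusChar.invC_E6 (by norm_num)
    (chain_rep hp CoxeterMatrix.E₆.toCoxeterSystem hA ch3_ok) eig_3 eig_3 hr hs hrs h1.1 h2.1 h1.2 h2.2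

/-- partial products of an element with characteristic polynomial divisible by the cyclotomic polynomial 4 -/
def ch4 : List (Fin 6 × Mat 6) := [
    (0, ![![0, 0, 1, 0, 0, 0], ![1, 1, 1, 1, 0, 0], ![0, 0, 0, 1, 0, 0], ![-1, 0, -1, -1, 0, 0], ![1, 0, 1, 1, 1, 0],
      ![0, 0, 0, 0, 0, 1]]),
    (2, ![![1, 0, 1, 0, 0, 0], ![0, 1, 1, 1, 0, 0], ![0, 0, 0, 1, 0, 0], ![0, 0, -1, -1, 0, 0], ![0, 0, 1, 1, 1, 0],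
      ![0, 0, 0, 0, 0, 1]]),
    (3, ![![1, 0, 0, 0, 0, 0], ![0, 1, 0, 1, 0, 0], ![0, 0, 1, 1, 0, 0], ![0, 0, 0, -1, 0, 0], ![0, 0, 0, 1, 1, 0],
      ![0, 0, 0, 0, 0, 1]])]

theorem ch4_ok : ChainOK Am ch4 :=
  H129.ChainF.ok H129.ChainF.i6 H129.ChainF.m6 (H129.ChainF.c6 <| H129.ChainF.c6 <| H129.ChainF.c6 <| H129.ChainF.nil) (by decide +kernel)

/-- coefficients of the eigenvector -/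
def Ve4 : Fin 2 → Fin 6 → ℤ := ![![0, 0, 1, 1, 0, 0], ![1, 0, 1, 0, 0, 0]]

/-- the functional -/
def Ue4 : Fin 6 → ℤ := ![-1, 0, 1, 0, 0, 0]

theorem eig_4 : EigOK (hd ch4) c4 Ve4 Ue4 :=
  H493.EigF.ok (H493.EigF.hT H493.EigF.t6) H493.EigF.r2 (H493.EigF.mc H493.EigF.r6 <| H493.EigF.mc H493.EigF.r6 <| H493.EigF.m0) H493.EigF.r6 (by decide +kernel)

theorem rel4 {F : Type u} [Field F] [Finite F] {r s : ℕ} (hr : r.Prime) (hs : s.Prime) (hrs : r ≠ s)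
    (h1 : phiC c4 (Nat.card F) 3 r) (h2 : phiC c4 (Nat.card F) 3 s) :
    PG.Rel ↥(chevE6.group F) r s := by
  have := finW
  exact rel_of_eig hp CoxeterMatrix.E₆.toCoxeterSystem H129.TorusChar.invC_E6 (by norm_num)
    (chain_rep hp CoxeterMatrix.E₆.toCoxeterSystem hA ch4_ok) eig_4 eig_4 hr hs hrs h1.1 h2.1 h1.2 h2.2

/-- partial products of an element with characteristic polynomial divisible by the cyclotomic polynomial 5 -/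
def ch5 : List (Fin 6 × Mat 6) := [
    (0, ![![0, 0, 1, 0, 0, 0], ![1, 0, 1, 1, 0, 0], ![0, 1, 0, 1, 0, 0], ![-1, -1, -1, -1, 0, 0], ![1, 1, 1, 1, 1, 0],
      ![0, 0, 0, 0, 0, 1]]),
    (1, ![![1, 0, 1, 0, 0, 0], ![0, 0, 1, 1, 0, 0], ![0, 1, 0, 1, 0, 0], ![0, -1, -1, -1, 0, 0], ![0, 1, 1, 1, 1, 0],
      ![0, 0, 0, 0, 0, 1]]),
    (2, ![![1, 0, 1, 0, 0, 0], ![0, 1, 1, 1, 0, 0], ![0, 0, 0, 1, 0, 0], ![0, 0, -1, -1, 0, 0], ![0, 0, 1, 1, 1, 0],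
      ![0, 0, 0, 0, 0, 1]]),
    (3, ![![1, 0, 0, 0, 0, 0], ![0, 1, 0, 1, 0, 0], ![0, 0, 1, 1, 0, 0], ![0, 0, 0, -1, 0, 0], ![0, 0, 0, 1, 1, 0],
      ![0, 0, 0, 0, 0, 1]])]

theorem ch5_ok : ChainOK Am ch5 :=
  H129.ChainF.ok H129.ChainF.i6 H129.ChainF.m6 (H129.ChainF.c6 <| H129.ChainF.c6 <| H129.ChainF.c6 <| H129.ChainF.c6 <| H129.ChainF.nil) (by decide +kernel)

/-- coefficients of the eigenvector -/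
def Ve5 : Fin 4 → Fin 6 → ℤ := ![![-1, 0, 0, 0, 0, 0], ![0, 0, 1, 1, 0, 0], ![0, 1, 1, 1, 0, 0], ![0, 0, 1, 0, 0, 0]]

/-- the functional -/
def Ue5 : Fin 6 → ℤ := ![-1, 0, 0, 0, 0, 0]

theorem eig_5 : EigOK (hd ch5) c5 Ve5 Ue5 :=
  H493.EigF.ok (H493.EigF.hT H493.EigF.t6) H493.EigF.r4 (H493.EigF.mc H493.EigF.r6 <| H493.EigF.mc H493.EigF.r6 <| H493.EigF.mc H493.EigF.r6 <| H493.EigF.mc H493.EigF.r6 <| H493.EigF.m0) H493.EigF.r6 (by decide +kernel)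

theorem rel5 {F : Type u} [Field F] [Finite F] {r s : ℕ} (hr : r.Prime) (hs : s.Prime) (hrs : r ≠ s)
    (h1 : phiC c5 (Nat.card F) 3 r) (h2 : phiC c5 (Nat.card F) 3 s) :
    PG.Rel ↥(chevE6.group F) r s := by
  have := finW
  exact rel_of_eig hp CoxeterMatrix.E₆.toCoxeterSystem H129.TorusChar.invC_E6 (by norm_num)
    (chain_rep hp CoxeterMatrix.E₆.toCoxeterSystem hA ch5_ok) eig_5 eig_5 hr hs hrs h1.1 h2.1 h1.2 h2.2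

/-- partial products of an element with characteristic polynomial divisible by the cyclotomic polynomial 6 -/
def ch6 : List (Fin 6 × Mat 6) := [
    (1, ![![1, 0, 1, 0, 0, 0], ![0, 0, 1, 1, 0, 0], ![0, 1, 0, 1, 0, 0], ![0, 0, 0, 0, 1, 0], ![0, -1, -1, -1, -1, 0],
      ![0, 1, 1, 1, 1, 1]]),
    (2, ![![1, 0, 1, 0, 0, 0], ![0, 1, 1, 1, 0, 0], ![0, 0, 0, 1, 0, 0], ![0, 0, 0, 0, 1, 0], ![0, 0, -1, -1, -1, 0],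
      ![0, 0, 1, 1, 1, 1]]),
    (3, ![![1, 0, 0, 0, 0, 0], ![0, 1, 0, 1, 0, 0], ![0, 0, 1, 1, 0, 0], ![0, 0, 0, 0, 1, 0], ![0, 0, 0, -1, -1, 0],
      ![0, 0, 0, 1, 1, 1]]),
    (4, ![![1, 0, 0, 0, 0, 0], ![0, 1, 0, 0, 0, 0], ![0, 0, 1, 0, 0, 0], ![0, 0, 0, 1, 1, 0], ![0, 0, 0, 0, -1, 0],
      ![0, 0, 0, 0, 1, 1]])]

theorem ch6_ok : ChainOK Am ch6 :=
  H129.ChainF.ok H129.ChainF.i6 H129.ChainF.m6 (H129.ChainF.c6 <| H129.ChainF.c6 <| H129.ChainF.c6 <| H129.ChainF.c6 <| H129.ChainF.nil) (by decide +kernel)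

/-- coefficients of the eigenvector -/
def Ve6 : Fin 2 → Fin 6 → ℤ := ![![0, -1, -1, -2, -1, 0], ![0, 0, 0, 1, 1, 0]]

/-- the functional -/
def Ue6 : Fin 6 → ℤ := ![0, -1, 0, 0, 0, 0]

theorem eig_6 : EigOK (hd ch6) c6 Ve6 Ue6 :=
  H493.EigF.ok (H493.EigF.hT H493.EigF.t6) H493.EigF.r2 (H493.EigF.mc H493.EigF.r6 <| H493.EigF.mc H493.EigF.r6 <| H493.EigF.m0) H493.EigF.r6 (by decide +kernel)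

theorem rel6 {F : Type u} [Field F] [Finite F] {r s : ℕ} (hr : r.Prime) (hs : s.Prime) (hrs : r ≠ s)
    (h1 : phiC c6 (Nat.card F) 3 r) (h2 : phiC c6 (Nat.card F) 3 s) :
    PG.Rel ↥(chevE6.group F) r s := by
  have := finW
  exact rel_of_eig hp CoxeterMatrix.E₆.toCoxeterSystem H129.TorusChar.invC_E6 (by norm_num)
    (chain_rep hp CoxeterMatrix.E₆.toCoxeterSystem hA ch6_ok) eig_6 eig_6 hr hs hrs h1.1 h2.1 h1.2 h2.2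

/-- partial products of an element with characteristic polynomial divisible by the cyclotomic polynomial 8 -/
def ch8 : List (Fin 6 × Mat 6) := [
    (0, ![![0, 0, 1, 0, 0, 0], ![1, 0, 1, 1, 0, 0], ![0, 1, 0, 1, 0, 0], ![0, 0, 0, 0, 1, 0], ![-1, -1, -1, -1, -1, 0],
      ![1, 1, 1, 1, 1, 1]]),
    (1, ![![1, 0, 1, 0, 0, 0], ![0, 0, 1, 1, 0, 0], ![0, 1, 0, 1, 0, 0], ![0, 0, 0, 0, 1, 0], ![0, -1, -1, -1, -1, 0],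
      ![0, 1, 1, 1, 1, 1]]),
    (2, ![![1, 0, 1, 0, 0, 0], ![0, 1, 1, 1, 0, 0], ![0, 0, 0, 1, 0, 0], ![0, 0, 0, 0, 1, 0], ![0, 0, -1, -1, -1, 0],
      ![0, 0, 1, 1, 1, 1]]),
    (3, ![![1, 0, 0, 0, 0, 0], ![0, 1, 0, 1, 0, 0], ![0, 0, 1, 1, 0, 0], ![0, 0, 0, 0, 1, 0], ![0, 0, 0, -1, -1, 0],
      ![0, 0, 0, 1, 1, 1]]),
    (4, ![![1, 0, 0, 0, 0, 0], ![0, 1, 0, 0, 0, 0], ![0, 0, 1, 0, 0, 0], ![0, 0, 0, 1, 1, 0], ![0, 0, 0, 0, -1, 0],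
      ![0, 0, 0, 0, 1, 1]])]

theorem ch8_ok : ChainOK Am ch8 :=
  H129.ChainF.ok H129.ChainF.i6 H129.ChainF.m6 (H129.ChainF.c6 <| H129.ChainF.c6 <| H129.ChainF.c6 <| H129.ChainF.c6 <| H129.ChainF.c6 <| H129.ChainF.nil) (by decide +kernel)

/-- coefficients of the eigenvector -/
def Ve8 : Fin 4 → Fin 6 → ℤ := ![![-1, 0, 0, 0, 0, 0], ![1, 0, 1, 1, 1, 0], ![0, 1, 0, 1, 0, 0], ![0, 0, 1, 0, 0, 0]]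

/-- the functional -/
def Ue8 : Fin 6 → ℤ := ![-1, -1, 0, 1, 0, 0]

theorem eig_8 : EigOK (hd ch8) c8 Ve8 Ue8 :=
  H493.EigF.ok (H493.EigF.hT H493.EigF.t6) H493.EigF.r4 (H493.EigF.mc H493.EigF.r6 <| H493.EigF.mc H493.EigF.r6 <| H493.EigF.mc H493.EigF.r6 <| H493.EigF.mc H493.EigF.r6 <| H493.EigF.m0) H493.EigF.r6 (by decide +kernel)

theorem rel8 {F : Type u} [Field F] [Finite F] {r s : ℕ} (hr : r.Prime) (hs : s.Prime) (hrs : r ≠ s)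
    (h1 : phiC c8 (Nat.card F) 3 r) (h2 : phiC c8 (Nat.card F) 3 s) :
    PG.Rel ↥(chevE6.group F) r s := by
  have := finW
  exact rel_of_eig hp CoxeterMatrix.E₆.toCoxeterSystem H129.TorusChar.invC_E6 (by norm_num)
    (chain_rep hp CoxeterMatrix.E₆.toCoxeterSystem hA ch8_ok) eig_8 eig_8 hr hs hrs h1.1 h2.1 h1.2 h2.2

/-- partial products of an element with characteristic polynomial divisible by the cyclotomic polynomial 9 -/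
def ch9 : List (Fin 6 × Mat 6) := [
    (3, ![![-1, 0, -1, -1, 0, 0], ![0, -1, -1, -2, -1, -1], ![1, 0, 1, 1, 1, 1], ![0, 1, 1, 1, 0, 0],
      ![0, 0, -1, 0, 0, 0], ![0, 0, 1, 1, 1, 0]]),
    (3, ![![-1, 0, -1, 0, 0, 0], ![0, -1, -1, -1, -1, -1], ![1, 0, 1, 1, 1, 1], ![0, 1, 1, 1, 0, 0],
      ![0, 0, -1, -1, 0, 0], ![0, 0, 1, 1, 1, 0]]),
    (3, ![![-1, 0, -1, -1, 0, 0], ![0, -1, -1, -2, -1, -1], ![1, 0, 1, 1, 1, 1], ![0, 1, 1, 1, 0, 0],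
      ![0, 0, -1, 0, 0, 0], ![0, 0, 1, 1, 1, 0]]),
    (2, ![![-1, 0, -1, 0, 0, 0], ![0, -1, -1, -1, -1, -1], ![1, 0, 1, 1, 1, 1], ![0, 1, 1, 1, 0, 0],
      ![0, 0, -1, -1, 0, 0], ![0, 0, 1, 1, 1, 0]]),
    (5, ![![-1, 0, 0, 0, 0, 0], ![0, -1, 0, -1, -1, -1], ![1, 0, 1, 1, 1, 1], ![0, 1, 0, 1, 0, 0], ![0, 0, 0, -1, 0, 0],
      ![0, 0, 0, 1, 1, 0]]),
    (4, ![![-1, 0, 0, 0, 0, 0], ![0, -1, 0, -1, -1, 0], ![1, 0, 1, 1, 1, 0], ![0, 1, 0, 1, 0, 0], ![0, 0, 0, -1, 0, 0],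
      ![0, 0, 0, 1, 1, 1]]),
    (3, ![![-1, 0, 0, 0, 0, 0], ![0, -1, 0, -1, 0, 0], ![1, 0, 1, 1, 0, 0], ![0, 1, 0, 1, 1, 0], ![0, 0, 0, -1, -1, 0],
      ![0, 0, 0, 1, 1, 1]]),
    (0, ![![-1, 0, 0, 0, 0, 0], ![0, -1, 0, 0, 0, 0], ![1, 0, 1, 0, 0, 0], ![0, 1, 0, 1, 1, 0], ![0, 0, 0, 0, -1, 0],
      ![0, 0, 0, 0, 1, 1]]),
    (1, ![![1, 0, 0, 0, 0, 0], ![0, -1, 0, 0, 0, 0], ![0, 0, 1, 0, 0, 0], ![0, 1, 0, 1, 1, 0], ![0, 0, 0, 0, -1, 0],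
      ![0, 0, 0, 0, 1, 1]]),
    (4, ![![1, 0, 0, 0, 0, 0], ![0, 1, 0, 0, 0, 0], ![0, 0, 1, 0, 0, 0], ![0, 0, 0, 1, 1, 0], ![0, 0, 0, 0, -1, 0],
      ![0, 0, 0, 0, 1, 1]])]

theorem ch9_ok : ChainOK Am ch9 :=
  H129.ChainF.ok H129.ChainF.i6 H129.ChainF.m6 (H129.ChainF.c6 <| H129.ChainF.c6 <| H129.ChainF.c6 <| H129.ChainF.c6 <| H129.ChainF.c6 <| H129.ChainF.c6 <| H129.ChainF.c6 <| H129.ChainF.c6 <| H129.ChainF.c6 <| H129.ChainF.c6 <| H129.ChainF.nil) (by decide +kernel)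

/-- coefficients of the eigenvector -/
def Ve9 : Fin 6 → Fin 6 → ℤ := ![![0, -1, -1, -1, -1, 0], ![-1, -1, -1, -2, -1, -1], ![0, 0, -1, -1, -1, 0], ![0, -1, -1, -1, -1, -1],
    ![-1, 0, -1, -1, 0, 0], ![1, 0, 0, 0, 0, 0]]

/-- the functional -/
def Ue9 : Fin 6 → ℤ := ![0, -1, 0, 0, 0, 1]

theorem eig_9 : EigOK (hd ch9) c9 Ve9 Ue9 :=
  H493.EigF.ok (H493.EigF.hT H493.EigF.t6) H493.EigF.r6 (H493.EigF.mc H493.EigF.r6 <| H493.EigF.mc H493.EigF.r6 <| H493.EigF.mc H493.EigF.r6 <| H493.EigF.mc H493.EigF.r6 <| H493.EigF.mc H493.EigF.r6 <| H493.EigF.mc H493.EigF.r6 <| H493.EigF.m0) H493.EigF.r6 (by decide +kernel)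

theorem rel9 {F : Type u} [Field F] [Finite F] {r s : ℕ} (hr : r.Prime) (hs : s.Prime) (hrs : r ≠ s)
    (h1 : phiC c9 (Nat.card F) 3 r) (h2 : phiC c9 (Nat.card F) 3 s) :
    PG.Rel ↥(chevE6.group F) r s := by
  have := finW
  exact rel_of_eig hp CoxeterMatrix.E₆.toCoxeterSystem H129.TorusChar.invC_E6 (by norm_num)
    (chain_rep hp CoxeterMatrix.E₆.toCoxeterSystem hA ch9_ok) eig_9 eig_9 hr hs hrs h1.1 h2.1 h1.2 h2.2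

/-- partial products of an element with characteristic polynomial divisible by the cyclotomic polynomial 12 -/
def ch12 : List (Fin 6 × Mat 6) := [
    (0, ![![0, 0, 1, 0, 0, 0], ![1, 0, 1, 1, 0, 0], ![0, 1, 0, 1, 0, 0], ![0, 0, 0, 0, 1, 0], ![0, 0, 0, 0, 0, 1],
      ![-1, -1, -1, -1, -1, -1]]),
    (1, ![![1, 0, 1, 0, 0, 0], ![0, 0, 1, 1, 0, 0], ![0, 1, 0, 1, 0, 0], ![0, 0, 0, 0, 1, 0], ![0, 0, 0, 0, 0, 1],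
      ![0, -1, -1, -1, -1, -1]]),
    (2, ![![1, 0, 1, 0, 0, 0], ![0, 1, 1, 1, 0, 0], ![0, 0, 0, 1, 0, 0], ![0, 0, 0, 0, 1, 0], ![0, 0, 0, 0, 0, 1],
      ![0, 0, -1, -1, -1, -1]]),
    (3, ![![1, 0, 0, 0, 0, 0], ![0, 1, 0, 1, 0, 0], ![0, 0, 1, 1, 0, 0], ![0, 0, 0, 0, 1, 0], ![0, 0, 0, 0, 0, 1],
      ![0, 0, 0, -1, -1, -1]]),
    (4, ![![1, 0, 0, 0, 0, 0], ![0, 1, 0, 0, 0, 0], ![0, 0, 1, 0, 0, 0], ![0, 0, 0, 1, 1, 0], ![0, 0, 0, 0, 0, 1],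
      ![0, 0, 0, 0, -1, -1]]),
    (5, ![![1, 0, 0, 0, 0, 0], ![0, 1, 0, 0, 0, 0], ![0, 0, 1, 0, 0, 0], ![0, 0, 0, 1, 0, 0], ![0, 0, 0, 0, 1, 1],
      ![0, 0, 0, 0, 0, -1]])]

theorem ch12_ok : ChainOK Am ch12 :=
  H129.ChainF.ok H129.ChainF.i6 H129.ChainF.m6 (H129.ChainF.c6 <| H129.ChainF.c6 <| H129.ChainF.c6 <| H129.ChainF.c6 <| H129.ChainF.c6 <| H129.ChainF.c6 <| H129.ChainF.nil) (by decide +kernel)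

/-- coefficients of the eigenvector -/
def Ve12 : Fin 4 → Fin 6 → ℤ := ![![0, 1, 0, 1, 1, 1], ![0, 0, 1, 1, 1, 0], ![1, 0, 1, 1, 0, 0], ![0, 1, 0, 0, 0, 0]]

/-- the functional -/
def Ue12 : Fin 6 → ℤ := ![0, 0, -1, 1, 0, 0]

theorem eig_12 : EigOK (hd ch12) c12 Ve12 Ue12 :=
  H493.EigF.ok (H493.EigF.hT H493.EigF.t6) H493.EigF.r4 (H493.EigF.mc H493.EigF.r6 <| H493.EigF.mc H493.EigF.r6 <| H493.EigF.mc H493.EigF.r6 <| H493.EigF.mc H493.EigF.r6 <| H493.EigF.m0) H493.EigF.r6 (by decide +kernel)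

theorem rel12 {F : Type u} [Field F] [Finite F] {r s : ℕ} (hr : r.Prime) (hs : s.Prime) (hrs : r ≠ s)
    (h1 : phiC c12 (Nat.card F) 3 r) (h2 : phiC c12 (Nat.card F) 3 s) :
    PG.Rel ↥(chevE6.group F) r s := by
  have := finW
  exact rel_of_eig hp CoxeterMatrix.E₆.toCoxeterSystem H129.TorusChar.invC_E6 (by norm_num)
    (chain_rep hp CoxeterMatrix.E₆.toCoxeterSystem hA ch12_ok) eig_12 eig_12 hr hs hrs h1.1 h2.1 h1.2 h2.2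

end Cfsg.Agent.H168.ExcE6
end

-- part: H168/TwCover
section
prune_inst 0x20000000000000000000000000000000000000000000000000000000000000000000000000000000000000000000000000000000000000000000000000
set_option linter.all false
open scoped Cfsg.Agent.FastGrp

-- part: H168/TwAdj
section
/-!
# Adjacency in the prime graph through twisted tori (helper168)

`σ` a frame automorphism of `D.group k` (`k` algebraically closed, locally finite) of degree `q = p ^ e`, `g` its lattice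
automorphism, `θ = w g`. `Θ` the matrix of `θ`.

* `exists_elt` : for `L(x) = ∑ L i x^i` with `Θ L(x) = x L(x) - f(x) L_last`, `P · L(x) = 1` and a prime `r ∣ f(q)`, `r ≠ p`,
  an element of order `r` of the torus twisted by `w`;
* `exists_pair` : two commuting elements of `D.group k` fixed by `σ` of orders `r`, `s`;
* `rel_of_fr` : the adjacency of `r` and `s` in `G0`, if `y ^ d ∈ range e0` for the elements fixed by `σ`.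
-/

set_option autoImplicit false
set_option linter.unusedSectionVars false

namespace Cfsg.Agent.H168.TwAdj

open CoxeterSystem Cfsg Cfsg.Lie Cfsg.Lie.ChevalleyDatum
open Cfsg.Agent.ChevalleyStructure Cfsg.Agent.ChevalleyStructure.Elts Cfsg.Agent.ChevalleyStructure.CoxeterGeom
  Cfsg.Agent.ChevalleyStructure.CoxeterGeomTypes Cfsg.Agent.ChevalleyStructure.NPerm
open Cfsg.Agent.Tits.Roots Cfsg.Agent.Tits.Core Cfsg.Agent.Nodes Cfsg.Agent.Nodes.Reps Cfsg.Agent.Nodes.BNOf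
  Cfsg.Agent.Nodes.RGDChev Cfsg.Agent.Nodes.Bruhat Cfsg.Agent.Nodes.SubComb Cfsg.Agent.Nodes.Coroot
open Cfsg.Agent.KFacts.RgdField Cfsg.Agent.KFacts.RgdChevCoord Cfsg.Agent.BpExc.TorCent Cfsg.Agent.BpExc.TorChev
open Cfsg.Agent.GpExc.Field Cfsg.Agent.BpExc.Tow Cfsg.Agent.BpExc.TowChev Cfsg.Agent.BpExc.Fr
  Cfsg.Agent.BpExc.LangFr Cfsg.Agent.LangThm Cfsg.Agent.BpExc Cfsg.Agent.H129.TorusChar Cfsg.Agent.H129.TorusCent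
  Cfsg.Agent.H129.TorusTw Cfsg.Agent.H129.TorusMain Cfsg.Agent.H129.WData
open Cfsg.Agent.H493 Cfsg.Agent.H493.PGTorus Cfsg.Agent.H168.ExcAdj

universe u

/-- the transposed matrix -/
def tr {l : ℕ} (Th : Fin l → Fin l → ℤ) : Fin l → Fin l → ℤ := fun j m => Th m j

section Lat

variable {l : ℕ}

/-- the functional `y ↦ y · L(q)` -/
def fnl {f : ℕ} (L : Fin (f + 1) → Fin l → ℤ) (q : ℤ) (y : Fin l → ℤ) : ℤ := ∑ j, y j * vval L q j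

theorem fnl_add {f : ℕ} (L : Fin (f + 1) → Fin l → ℤ) (q : ℤ) (x y : Fin l → ℤ) :
    fnl L q (x + y) = fnl L q x + fnl L q y := by
  unfold fnl
  rw [← Finset.sum_add_distrib]
  exact Finset.sum_congr rfl fun j _ => by rw [Pi.add_apply, add_mul]

theorem fnl_zero {f : ℕ} (L : Fin (f + 1) → Fin l → ℤ) (q : ℤ) : fnl L q 0 = 0 := by
  unfold fnl
  exact Finset.sum_eq_zero fun j _ => by rw [Pi.zero_apply, zero_mul]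

/-- the transposed matrix as an endomorphism -/
def endo (A : Fin l → Fin l → ℤ) : Module.End ℤ (Fin l → ℤ) where
  toFun x m := ∑ j, x j * A j m
  map_add' x y := by
    funext m
    rw [Pi.add_apply, ← Finset.sum_add_distrib]
    exact Finset.sum_congr rfl fun j _ => by rw [Pi.add_apply, add_mul]
  map_smul' c x := by
    funext m
    rw [Pi.smul_apply, smul_eq_mul, Finset.mul_sum]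
    exact Finset.sum_congr rfl fun j _ => by rw [Pi.smul_apply, smul_eq_mul, RingHom.id_apply, mul_assoc]

theorem eig_row {Th : Fin l → Fin l → ℤ} {f : ℕ} {c : Fin (f + 1) → ℤ} {L : Fin (f + 1) → Fin l → ℤ} {P : Fin l → ℤ}
    (h : EigOK (tr Th) c L P) (q : ℤ) (j : Fin l) :
    ∑ m, vval L q m * Th j m = q * vval L q j - pv c q * L (Fin.last f) j := by
  have h1 := congrFun (eig_apply (w := endo (tr Th)) (fun _ _ => rfl) h q) j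
  have h2 : (endo (tr Th) - q • (1 : Module.End ℤ (Fin l → ℤ))) (vval L q) j =
      (∑ m, vval L q m * Th j m) - q * vval L q j := rfl
  rw [h2] at h1
  have h3 : (-(pv c q) • L (Fin.last f)) j = -(pv c q) * L (Fin.last f) j := rfl
  rw [h3] at h1
  linarith only [h1]

/-- `y ↦ y · L(q)` intertwines `θ` with the multiplication by `q` modulo `f(q)`. -/
theorem dvd_fnl {θ : (Fin l → ℤ) →+ (Fin l → ℤ)} {Th : Fin l → Fin l → ℤ} (hθ : Lin θ Th) {f : ℕ}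
    {c : Fin (f + 1) → ℤ} {L : Fin (f + 1) → Fin l → ℤ} {P : Fin l → ℤ} (h : EigOK (tr Th) c L P) (q : ℤ)
    (y : Fin l → ℤ) : pv c q ∣ fnl L q (θ y) - q * fnl L q y := by
  have h1 : fnl L q (θ y) = ∑ j, y j * ∑ m, vval L q m * Th j m := by
    unfold fnl
    have h2 : ∀ m, θ y m * vval L q m = ∑ j, y j * (vval L q m * Th j m) := fun m => by
      rw [hθ.apply, Finset.sum_mul]
      exact Finset.sum_congr rfl fun j _ => by ring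
    rw [Finset.sum_congr rfl fun m _ => h2 m, Finset.sum_comm]
    exact Finset.sum_congr rfl fun j _ => by rw [Finset.mul_sum]
  rw [h1]
  refine ⟨-∑ j, y j * L (Fin.last f) j, ?_⟩
  rw [Finset.sum_congr rfl fun j _ => by rw [eig_row h q j]]
  unfold fnl
  rw [Finset.mul_sum, ← Finset.sum_sub_distrib, mul_neg, Finset.mul_sum, ← Finset.sum_neg_distrib]
  exact Finset.sum_congr rfl fun j _ => by ring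

theorem fnl_P {Th : Fin l → Fin l → ℤ} {f : ℕ} {c : Fin (f + 1) → ℤ} {L : Fin (f + 1) → Fin l → ℤ} {P : Fin l → ℤ}
    (h : EigOK (tr Th) c L P) (q : ℤ) : fnl L q P = 1 := eig_unit h q

end Lat

section Torus

variable {D : ChevalleyDatum} {l : ℕ} {M : CoxeterMatrix (Fin l)} (hp : IsType D l M) {k : Type u} [Field k]
  {θ : (Fin l → ℤ) →+ (Fin l → ℤ)} {Th : Fin l → Fin l → ℤ} (hθ : Lin θ Th)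

include hθ in
/-- **An element of order `r` of the twisted torus.** -/
theorem exists_elt [IsAlgClosed k] {d : ℕ} {B : Fin l → Fin l → ℤ} (hB : InvC D l d B) (hd : d ≠ 0) {f : ℕ}
    {c : Fin (f + 1) → ℤ} {L : Fin (f + 1) → Fin l → ℤ} {P : Fin l → ℤ} (h : EigOK (tr Th) c L P) {q r : ℕ}
    (hr : r.Prime) (hr0 : (r : k) ≠ 0) (hdv : (r : ℤ) ∣ pv c (q : ℤ)) :
    ∃ t ∈ TT D k, (∀ x, cX hp t (θ x) = cX hp t x ^ q) ∧ orderOf t = r := by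
  have hne : NeZero (r : k) := ⟨hr0⟩
  have hne' : NeZero r := ⟨hr.ne_zero⟩
  obtain ⟨u, hu⟩ := HasEnoughRootsOfUnity.exists_primitiveRoot k r
  have hu0 : u ≠ 0 := hu.ne_zero hr.ne_zero
  have hφ : IsMC (fun x : Fin l → ℤ => u ^ fnl L q x) := ⟨by
    show u ^ fnl L q 0 = 1
    rw [fnl_zero, zpow_zero], fun x y => by
    show u ^ fnl L q (x + y) = u ^ fnl L q x * u ^ fnl L q y
    rw [fnl_add, zpow_add₀ hu0]⟩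
  obtain ⟨t, ht, h3⟩ := exists_cX hp hB hd hφ (fun i => IsAlgClosed.exists_pow_nat_eq _ (Nat.pos_of_ne_zero hd))
  refine ⟨t, ht, fun x => ?_, ?_⟩
  · rw [h3, h3]
    show u ^ fnl L q (θ x) = (u ^ fnl L q x) ^ q
    obtain ⟨m, hm⟩ := hdv.trans (dvd_fnl hθ h (q : ℤ) x)
    have e : fnl L q (θ x) = fnl L q x * q + r * m := by rw [← hm]; ring
    rw [e, zpow_add₀ hu0, zpow_mul, zpow_natCast, zpow_mul, zpow_natCast, hu.pow_eq_one, one_zpow, mul_one]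
  · have : Fact r.Prime := ⟨hr⟩
    refine orderOf_eq_prime ?_ ?_
    · refine cX_inj hp (pow_mem ht r) (one_mem _) fun i => ?_
      rw [cX_pow hp ht, cX_one, h3]
      show (u ^ fnl L q (sr i)) ^ r = 1
      rw [← zpow_natCast, ← zpow_mul, mul_comm, zpow_mul, zpow_natCast, hu.pow_eq_one, one_zpow]
    · intro h1
      have h4 := h3 P
      rw [h1, cX_one] at h4
      have h5 : u ^ fnl L q P = 1 := h4.symm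
      rw [fnl_P h, zpow_one] at h5
      rw [h5] at hu
      exact hr.one_lt.ne' (hu.eq_orderOf.trans orderOf_one)

end Torus

section Main

variable {D : ChevalleyDatum} {l : ℕ} {M : CoxeterMatrix (Fin l)} (hp : IsType D l M) {k : Type u} [Field k]
  {W : Type*} [Group W] (cs : CoxeterSystem M W) {p e : ℕ} [Fact p.Prime] [CharP k p] {σ : MulAut ↥(D.group k)}
  {g : (Fin l → ℤ) ≃+ (Fin l → ℤ)}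

/-- **Two commuting elements fixed by `σ`.** -/
theorem exists_pair [IsAlgClosed k] [Finite W] (hk : LocFin k) (he : 0 < e) (hσ : IsFrob p e σ)
    (F : Fr cs hp.isCartan (TT D k) (XX D l k) σ g) {d : ℕ} {B : Fin l → Fin l → ℤ} (hB : InvC D l d B) (hd : d ≠ 0)
    {w : W} {Th : Fin l → Fin l → ℤ} (hθ : Lin (theta hp cs w g) Th)
    {f : ℕ} {c : Fin (f + 1) → ℤ} {L : Fin (f + 1) → Fin l → ℤ} {P : Fin l → ℤ} (h : EigOK (tr Th) c L P)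
    {f' : ℕ} {c' : Fin (f' + 1) → ℤ} {L' : Fin (f' + 1) → Fin l → ℤ} {P' : Fin l → ℤ} (h' : EigOK (tr Th) c' L' P')
    {r s : ℕ} (hr : r.Prime) (hs : s.Prime) (hrp : r ≠ p) (hsp : s ≠ p)
    (h1 : (r : ℤ) ∣ pv c ((p ^ e : ℕ) : ℤ)) (h2 : (s : ℤ) ∣ pv c' ((p ^ e : ℕ) : ℤ)) :
    ∃ x y : ↥(D.group k), σ x = x ∧ σ y = y ∧ x * y = y * x ∧ orderOf x = r ∧ orderOf y = s := by
  have hne : ∀ {a : ℕ}, a.Prime → a ≠ p → (a : k) ≠ 0 := by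
    intro a ha hap h0
    rw [CharP.cast_eq_zero_iff k p] at h0
    exact hap ((Nat.prime_dvd_prime_iff_eq (Fact.out : p.Prime) ha).1 h0).symm
  obtain ⟨n, hn⟩ := exists_rp cs (H129.TorusUntw.nsys_of_locFin hp cs hk p) w
  obtain ⟨z, hz⟩ := lang_all hp cs he hσ F 1 n
  rw [map_one, one_mul] at hz
  obtain ⟨a, ha, ha2, ha3⟩ := exists_elt hp hθ hB hd h (q := p ^ e) hr (hne hr hrp) h1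
  obtain ⟨b, hb, hb2, hb3⟩ := exists_elt hp hθ hB hd h' (q := p ^ e) hs (hne hs hsp) h2
  have ha4 := (tau_iff hp cs hk hσ F hn ha).2 ha2
  have hb4 := (tau_iff hp cs hk hσ F hn hb).2 hb2
  refine ⟨z * a * z⁻¹, z * b * z⁻¹, H129.TorusUntw.conj_fixed hz ha4 (Subgroup.mem_zpowers a),
    H129.TorusUntw.conj_fixed hz hb4 (Subgroup.mem_zpowers b), ?_, ?_, ?_⟩
  · calc z * a * z⁻¹ * (z * b * z⁻¹) = z * (a * b) * z⁻¹ := by group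
      _ = z * (b * a) * z⁻¹ := by
        rw [show a * b = b * a from cX_inj hp (mul_mem ha hb) (mul_mem hb ha) fun i => by
          rw [cX_mul hp ha hb, cX_mul hp hb ha, mul_comm]]
      _ = _ := by group
  · have h3 : orderOf (MulAut.conj z a) = orderOf a :=
      orderOf_injective (MulAut.conj z).toMonoidHom (MulAut.conj z).injective a
    rw [← ha3, ← h3]
    rfl
  · have h3 : orderOf (MulAut.conj z b) = orderOf b :=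
      orderOf_injective (MulAut.conj z).toMonoidHom (MulAut.conj z).injective b
    rw [← hb3, ← h3]
    rfl

/-- **Adjacency through twisted tori.** -/
theorem rel_of_fr [IsAlgClosed k] [Finite W] (hk : LocFin k) (he : 0 < e) (hσ : IsFrob p e σ)
    (F : Fr cs hp.isCartan (TT D k) (XX D l k) σ g) {d : ℕ} {B : Fin l → Fin l → ℤ} (hB : InvC D l d B) (hd : d ≠ 0)
    {w : W} {Th : Fin l → Fin l → ℤ} (hθ : Lin (theta hp cs w g) Th)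
    {f : ℕ} {c : Fin (f + 1) → ℤ} {L : Fin (f + 1) → Fin l → ℤ} {P : Fin l → ℤ} (h : EigOK (tr Th) c L P)
    {f' : ℕ} {c' : Fin (f' + 1) → ℤ} {L' : Fin (f' + 1) → Fin l → ℤ} {P' : Fin l → ℤ} (h' : EigOK (tr Th) c' L' P')
    {G0 : Type*} [Group G0] [Finite G0] {e0 : G0 →* ↥(D.group k)} (he0 : Function.Injective e0) {m : ℕ}
    (hm : ∀ y, σ y = y → y ^ m ∈ e0.range)
    {r s : ℕ} (hr : r.Prime) (hs : s.Prime) (hrs : r ≠ s) (hrp : r ≠ p) (hsp : s ≠ p) (hrm : ¬ r ∣ m) (hsm : ¬ s ∣ m)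
    (h1 : (r : ℤ) ∣ pv c ((p ^ e : ℕ) : ℤ)) (h2 : (s : ℤ) ∣ pv c' ((p ^ e : ℕ) : ℤ)) : PG.Rel G0 r s := by
  obtain ⟨x, y, hx, hy, hxy, hxr, hys⟩ := exists_pair hp cs hk he hσ F hB hd hθ h h' hr hs hrp hsp h1 h2
  have hm0 : m ≠ 0 := fun h0 => hrm (h0 ▸ dvd_zero r)
  obtain ⟨x0, hx0⟩ := hm x hx
  obtain ⟨y0, hy0⟩ := hm y hy
  refine PG.Rel.of_commute hr hs hrs (x := x0) (y := y0) ?_ ?_ ?_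
  · show x0 * y0 = y0 * x0
    apply he0
    rw [map_mul, map_mul, hx0, hy0]
    have h3 : Commute x y := hxy
    exact h3.pow_pow m m
  · have h3 : orderOf (e0 x0) = orderOf x0 := orderOf_injective e0 he0 x0
    rw [← h3, hx0, orderOf_pow' x hm0, hxr, ((Nat.Prime.coprime_iff_not_dvd hr).2 hrm).gcd_eq_one, Nat.div_one]
  · have h3 : orderOf (e0 y0) = orderOf y0 := orderOf_injective e0 he0 y0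
    rw [← h3, hy0, orderOf_pow' y hm0, hys, ((Nat.Prime.coprime_iff_not_dvd hs).2 hsm).gcd_eq_one, Nat.div_one]

end Main

end Cfsg.Agent.H168.TwAdj
end

-- part: H168/TwE6Fr
section
/-!
# The twisted Frobenius automorphism of `E₆` over an algebraically closed field (helper168)

* `gam k : MulAut (chevE6.group k)` : the graph automorphism; `tau k p e = gam k * phi chevE6 k p e`;
* `isFrob_tau`, `fr_tau` : a frame automorphism with lattice automorphism `six`;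
* `tau_pow_range` : `y ^ 3` is an element of `²E₆(q)` for `y` fixed by `tau`.
-/

set_option autoImplicit false
set_option linter.unusedSectionVars false

namespace Cfsg.Agent.H168.TwE6Fr

open CoxeterSystem Cfsg Cfsg.Lie Cfsg.Lie.ChevalleyDatum
open Cfsg.Agent.ChevalleyStructure Cfsg.Agent.ChevalleyStructure.Elts Cfsg.Agent.ChevalleyStructure.CoxeterGeom
  Cfsg.Agent.ChevalleyStructure.CoxeterGeomTypes Cfsg.Agent.ChevalleyStructure.NPerm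
open Cfsg.Agent.Tits.Roots Cfsg.Agent.Tits.Core Cfsg.Agent.Nodes Cfsg.Agent.Nodes.Reps Cfsg.Agent.Nodes.BNOf
  Cfsg.Agent.Nodes.RGDChev Cfsg.Agent.Nodes.Bruhat Cfsg.Agent.Nodes.SubComb Cfsg.Agent.Nodes.Coroot
open Cfsg.Agent.KFacts.RgdField Cfsg.Agent.KFacts.RgdChevCoord Cfsg.Agent.BpExc.TorCent Cfsg.Agent.BpExc.TorChev
open Cfsg.Agent.GpExc.Field Cfsg.Agent.BpExc.Tow Cfsg.Agent.BpExc.TowChev Cfsg.Agent.BpExc.Fr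
  Cfsg.Agent.BpExc.LangFr Cfsg.Agent.LangThm Cfsg.Agent.BpExc Cfsg.Agent.H129.TorusChar Cfsg.Agent.H129.TorusCent
  Cfsg.Agent.H129.TorusTw Cfsg.Agent.H129.TorusMain Cfsg.Agent.ChevStructure.FieldMap Cfsg.Agent.BpExc.EmbInst
  Cfsg.Agent.H129.TorusUntw
open Cfsg.Agent.ChevalleyStructure.TwE6Basic (sg rho x)
open Cfsg.Agent.ChevalleyStructure.GraphSymm (symmE6)

universe u

section Gam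

variable {k : Type u} [Field k]

theorem sg_mem {φ : k →+* k} {g : GL chevE6.Idx k} (hg : g ∈ chevE6.group k) : sg φ g ∈ chevE6.group k := by
  have h1 : chevE6.group k ≤ (chevE6.group k).comap (sg φ) := by
    rw [group_le_iff RGDTwE6.hp.inList]
    intro r hr t
    obtain ⟨s, -, -, -, ε, -, h2, -⟩ := std φ r hr
    rw [Subgroup.mem_comap, h2]
    exact xG_mem_group RGDTwE6.hp.inList _ _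
  exact h1 hg

theorem sg_one_sq {g : GL chevE6.Idx k} (hg : g ∈ chevE6.group k) :
    sg (RingHom.id k) (sg (RingHom.id k) g) = g := by
  have h1 : chevE6.group k ≤ MonoidHom.eqLocus
      ((sg (RingHom.id k)).comp (sg (RingHom.id k))) (MonoidHom.id _) := by
    rw [group_le_iff RGDTwE6.hp.inList]
    intro r hr t
    exact sg_sq (RingHom.id k) r hr t
  exact (h1 hg :)

/-- the graph automorphism -/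
noncomputable def gam (k : Type u) [Field k] : MulAut ↥(chevE6.group k) where
  toFun g := ⟨sg (RingHom.id k) g, sg_mem g.2⟩
  invFun g := ⟨sg (RingHom.id k) g, sg_mem g.2⟩
  left_inv g := Subtype.ext (sg_one_sq g.2)
  right_inv g := Subtype.ext (sg_one_sq g.2)
  map_mul' _ _ := Subtype.ext (map_mul (sg (RingHom.id k)) _ _)

theorem coe_gam (g : ↥(chevE6.group k)) : ((gam k g : ↥(chevE6.group k)) : GL chevE6.Idx k) = sg (RingHom.id k) g :=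
  rfl

theorem coe_gam_inv (g : ↥(chevE6.group k)) :
    (((gam k)⁻¹ g : ↥(chevE6.group k)) : GL chevE6.Idx k) = sg (RingHom.id k) g := rfl

/-- the lattice automorphism -/
def six : (Fin 6 → ℤ) ≃+ (Fin 6 → ℤ) where
  toFun x := ![x 5, x 1, x 4, x 3, x 2, x 0]
  invFun x := ![x 5, x 1, x 4, x 3, x 2, x 0]
  left_inv x := by funext i; fin_cases i <;> rfl
  right_inv x := by funext i; fin_cases i <;> rfl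
  map_add' x y := by funext i; fin_cases i <;> rfl

theorem vec_rho : ∀ (r : Fin 72) (i : Fin 6), vec chevE6 6 (rho r).val i = six (vec chevE6 6 r.val) i := by
  decide +kernel

theorem six_vec (r : Fin 72) : six (vec chevE6 6 r.val) = vec chevE6 6 (rho r).val :=
  (funext fun i => vec_rho r i).symm

theorem six_sr : ∀ (j i : Fin 6), six (sr j) i = (sr ((![5, 1, 4, 3, 2, 0] : Fin 6 → Fin 6) j) : Fin 6 → ℤ) i := by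
  decide +kernel

variable {W : Type*} [Group W] (cs : CoxeterSystem CoxeterMatrix.E₆ W)

theorem isRoot_six (x : Fin 6 → ℤ) (hx : IsRoot cs RGDTwE6.hp.isCartan x) :
    IsRoot cs RGDTwE6.hp.isCartan (six x) := by
  obtain ⟨r, hr, rfl⟩ := (isRoot_iff RGDTwE6.hp cs x).1 hx
  have hr' : r < 72 := hr
  rw [six_vec ⟨r, hr'⟩]
  exact (isRoot_iff RGDTwE6.hp cs _).2 ⟨_, (rho ⟨r, hr'⟩).2, rfl⟩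

theorem sg_diag {φ : k →+* k} {g : GL chevE6.Idx k} (hg : g ∈ chevE6.diagonalSubgroup k) :
    sg φ g ∈ chevE6.diagonalSubgroup k := by
  have hD := RGDTwE6.hp.inList
  have h1 : chevE6.diagonalSubgroup k ≤ (chevE6.diagonalSubgroup k).comap (sg φ) := by
    rw [diagonal_le_iff hD]
    intro r hr t ht
    obtain ⟨s, hs, -, -, ε, hε, h2, h3⟩ := std φ r hr
    have key : ∀ c, sg φ (nG hD r c) = nG hD s (ε * φ c) := fun c => by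
      rw [nG_def, nG_def, map_mul, map_mul, h2, h3, map_neg, map_inv₀, mul_inv, mul_neg]
    have e1 : hG hD s (ε * φ t) * (hG hD s (-(ε * φ (-1))))⁻¹ ∈ chevE6.diagonalSubgroup k :=
      mul_mem (hG_mem_diagonal hD hs (mul_ne_zero hε ((map_ne_zero φ).2 ht)))
        (inv_mem (hG_mem_diagonal hD hs (by rw [map_neg, map_one]; simpa using hε)))
    have e2 : sg φ (hG hD r t) = hG hD s (ε * φ t) * (hG hD s (-(ε * φ (-1))))⁻¹ := by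
      rw [hG_def, hG_def, hG_def, map_mul, key, key]
      have e3 : nG hD s (-(ε * φ (-1))) = (nG hD s (ε * φ (-1)))⁻¹ := by
        rw [nG_def, nG_def, mul_inv_rev, mul_inv_rev, xG_inv, xG_inv, ← mul_assoc, inv_neg, neg_neg]
      rw [e3]
      group
    rw [Subgroup.mem_comap, e2]
    exact e1
  exact h1 hg

theorem sg_XV {y : Fin 6 → ℤ} (hy : IsRoot cs RGDTwE6.hp.isCartan y) {g : GL chevE6.Idx k}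
    (hg : g ∈ XV chevE6 6 k y) : sg (RingHom.id k) g ∈ XV chevE6 6 k (six y) := by
  obtain ⟨r, hr, rfl⟩ := (isRoot_iff RGDTwE6.hp cs y).1 hy
  have hr' : r < 72 := hr
  rw [XV_vec RGDTwE6.hp k hr] at hg
  rw [six_vec ⟨r, hr'⟩, XV_vec RGDTwE6.hp k (rho ⟨r, hr'⟩).2]
  obtain ⟨t, rfl⟩ := (mem_rootSubgroup_iff RGDTwE6.hp.inList _ _).1 hg
  have h1 : sg (RingHom.id k) (xG RGDTwE6.hp.inList r t) = xG RGDTwE6.hp.inList (rho ⟨r, hr'⟩).val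
    (((ep ⟨r, hr'⟩ : ℤ) : k) * (RingHom.id k) t) := sg_ep (RingHom.id k) (⟨r, hr'⟩ : Fin 72) t
  rw [h1]
  exact xG_mem_rootSubgroup _ _ _

theorem six_six (y : Fin 6 → ℤ) : six (six y) = y := by
  funext i; fin_cases i <;> rfl

/-- The graph automorphism is a frame automorphism. -/
theorem fr_gam : Fr cs RGDTwE6.hp.isCartan (TT chevE6 k) (XX chevE6 6 k) (gam k) six where
  tor t := by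
    constructor
    · intro h
      have h1 : (gam k)⁻¹ (gam k t) ∈ TT chevE6 k := by
        rw [Subgroup.mem_subgroupOf, coe_gam_inv]
        exact sg_diag h
      rwa [MulAut.inv_apply_self] at h1
    · intro h
      rw [Subgroup.mem_subgroupOf, coe_gam]
      exact sg_diag h
  root a := by
    constructor
    · intro h
      have h1 := isRoot_six cs _ h
      rwa [six_six] at h1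
    · exact isRoot_six cs a
  map a ha y := by
    constructor
    · intro h
      have h1 : (gam k)⁻¹ (gam k y) ∈ XX chevE6 6 k a := by
        rw [Subgroup.mem_subgroupOf, coe_gam_inv]
        have h2 := sg_XV cs (isRoot_six cs _ ha) h
        rwa [six_six] at h2
      rwa [MulAut.inv_apply_self] at h1
    · intro h
      rw [Subgroup.mem_subgroupOf, coe_gam]
      exact sg_XV cs ha h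

end Gam

/-! ### the twisted Frobenius -/

section Tau

variable {k : Type u} [Field k] [IsAlgClosed k] {p e : ℕ} [Fact p.Prime] [CharP k p]

/-- the twisted Frobenius automorphism -/
noncomputable def tau (k : Type u) [Field k] [IsAlgClosed k] (p e : ℕ) [Fact p.Prime] [CharP k p] :
    MulAut ↥(chevE6.group k) :=
  gam k * phi chevE6 k p e

theorem coe_tau (g : ↥(chevE6.group k)) :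
    ((tau k p e g : ↥(chevE6.group k)) : GL chevE6.Idx k) = sg (iterateFrobenius k p e) g := by
  have h1 : ((tau k p e g : ↥(chevE6.group k)) : GL chevE6.Idx k) =
      sg (RingHom.id k) (glMap chevE6 (iterateFrobenius k p e) g) := by
    rw [← coe_phi]
    rfl
  rw [h1]
  apply Units.ext
  rfl

theorem isFrob_tau : IsFrob p e (tau k p e) :=
  ⟨symmE6.P k, fun g => by
    rw [coe_tau]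
    apply Units.ext
    have h1 : frob p e (g : GL chevE6.Idx k) = glMap chevE6 (iterateFrobenius k p e) g := by
      apply co_injective
      funext ij
      rw [co_frob]
      rfl
    rw [h1]
    rfl⟩

theorem fr_tau {W : Type*} [Group W] (cs : CoxeterSystem CoxeterMatrix.E₆ W) :
    Fr cs RGDTwE6.hp.isCartan (TT chevE6 k) (XX chevE6 6 k) (tau k p e) six :=
  Fr.mul (fr_gam cs) (fr_phi RGDTwE6.hp cs)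

section Fix

variable {F : Type u} [Field F] [Fintype F] (f : F →+* k)

theorem tau_eq_iff (g : ↥(chevE6.group k)) :
    tau k p e g = g ↔ sg (iterateFrobenius k p e) (g : GL chevE6.Idx k) = g := by
  rw [← coe_tau, Subtype.ext_iff]

/-- the embedding of the finite group -/
noncomputable def embT (F : Type u) [Field F] (f : F →+* k) (q : ℕ) :
    ↥(twistedE6 F q) →* ↥(chevE6.group k) :=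
  (emb RGDTwE6.hp.inList f).comp (Subgroup.inclusion (H91.E6Fix.twistedE6_le_group F q))

theorem coe_embT {q : ℕ} (y : ↥(twistedE6 F q)) :
    ((embT F f q y : ↥(chevE6.group k)) : GL chevE6.Idx k) = glMap chevE6 f y := coe_emb RGDTwE6.hp.inList f _

theorem embT_injective {q : ℕ} : Function.Injective (embT (k := k) F f q) :=
  (emb_injective RGDTwE6.hp.inList f).comp (Subgroup.inclusion_injective _)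

theorem frob_apply {q : ℕ} (hqe : q = p ^ e) (t : k) : iterateFrobenius k p e t = t ^ q := by
  rw [iterateFrobenius_def, hqe]

/-- `tau` squared is the `q²`-power map. -/
theorem tau_sq (g : ↥(chevE6.group k)) : tau k p e (tau k p e g) = phi chevE6 k p (e + e) g := by
  apply Subtype.ext
  rw [coe_tau, coe_tau, coe_phi]
  have h1 : chevE6.group k ≤ MonoidHom.eqLocus
      ((sg (iterateFrobenius k p e)).comp (sg (iterateFrobenius k p e)))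
      (glMap chevE6 (iterateFrobenius k p (e + e))) := by
    rw [group_le_iff RGDTwE6.hp.inList]
    intro r hr t
    have h2 := sg_sq (iterateFrobenius k p e) r hr t
    show ((sg (iterateFrobenius k p e)).comp (sg (iterateFrobenius k p e))) (xG RGDTwE6.hp.inList r t) =
      glMap chevE6 (iterateFrobenius k p (e + e)) (xG RGDTwE6.hp.inList r t)
    rw [h2, glMap_xG]
    congr 1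
    show iterateFrobenius k p e (iterateFrobenius k p e t) = iterateFrobenius k p (e + e) t
    rw [iterateFrobenius_def, iterateFrobenius_def, iterateFrobenius_def, ← pow_mul, pow_add]
  exact (h1 g.2 :)

/-- **The cubes of the fixed points of the twisted Frobenius.** -/
theorem tau_pow_range {q : ℕ} (hqe : q = p ^ e) (hq : IsPrimePow q) (hF : Fintype.card F = q ^ 2)
    {y : ↥(chevE6.group k)} (hy : tau k p e y = y) : y ^ 3 ∈ (embT (k := k) F f q).range := by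
  have h0 : phi chevE6 k p (e + e) y = y := by rw [← tau_sq, hy, hy]
  have h1 : BpExc.FamUntw.phi chevE6 k p (e + e) y = y := by
    apply Subtype.ext
    have h2 : H378.TorFin.frobHom k p (e + e) = iterateFrobenius k p (e + e) :=
      RingHom.ext fun t => by rw [H378.TorFin.frobHom_apply, iterateFrobenius_def]
    rw [H378.TorFin.phi_glMap, h2, ← coe_phi, h0]
  have hn : Nat.card F = p ^ (e + e) := by rw [Nat.card_eq_fintype_card, hF, hqe, pow_add, sq]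
  obtain ⟨a, ha⟩ := H378.TorFin.fix_pow_mem RGDTwE6.hp f p hn invC_E6 (by norm_num) h1
  have hq2 : ∀ t : F, t ^ q ^ 2 = t := fun t => by rw [← hF]; exact FiniteField.pow_card t
  have : CharP F p := f.charP f.injective p
  let φ0 : F →+* F := iterateFrobenius F p e
  have hφ0 : ∀ t, φ0 t = t ^ q := fun t => by
    show iterateFrobenius F p e t = t ^ q
    rw [iterateFrobenius_def, hqe]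
  have hφφ : ∀ t, φ0 (φ0 t) = t := fun t => by rw [hφ0, hφ0, ← pow_mul, ← sq, hq2]
  have h3 : (a : GL chevE6.Idx F) ∈ chevE6.group F ⊓ TwE6Basic.fix φ0 := by
    refine ⟨a.2, ?_⟩
    show sg φ0 (a : GL chevE6.Idx F) = a
    apply glMap_injective chevE6 f
    have h4 : chevE6.group F ≤ MonoidHom.eqLocus ((sg (iterateFrobenius k p e)).comp (glMap chevE6 f))
        ((glMap chevE6 f).comp (sg φ0)) := by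
      rw [group_le_iff RGDTwE6.hp.inList]
      intro r hr t
      show sg (iterateFrobenius k p e) (glMap chevE6 f (xG _ r t)) = glMap chevE6 f (sg φ0 (xG _ r t))
      rw [glMap_xG]
      exact sg_natural (fun t => by rw [frob_apply hqe, hφ0, map_pow]) r hr t
    have h5 : sg (iterateFrobenius k p e) (glMap chevE6 f a) = glMap chevE6 f (sg φ0 a) := (h4 a.2 :)
    rw [← h5]
    have h6 : tau k p e (y ^ 3) = y ^ 3 := by rw [map_pow, hy]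
    rw [← ha, tau_eq_iff] at h6
    have h7 : ((emb RGDTwE6.hp.inList f a : ↥(chevE6.group k)) : GL chevE6.Idx k) = glMap chevE6 f a :=
      coe_emb RGDTwE6.hp.inList f a
    rw [h7] at h6
    exact h6
  rw [H91.E6Fix.group_inf_fix hφ0 hφφ] at h3
  refine ⟨⟨(a : GL chevE6.Idx F), h3⟩, ?_⟩
  rw [← ha]
  apply Subtype.ext
  rw [coe_embT]
  exact (coe_emb RGDTwE6.hp.inList f a).symm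

end Fix

end Tau

end Cfsg.Agent.H168.TwE6Fr
end

-- part: H168/TwCover
section
/-!
# Clique covers of the prime graphs of `²E₆(q)` and `³D₄(q)` (helper168)

Cliques by cyclotomic indices: `²E₆` {18} {12,6} {8,1,2} {10} {4,3}; `³D₄` {12} {3,1,2} {6}.
-/

set_option autoImplicit false

namespace Cfsg.Agent.H168.TwCover

open Cfsg Cfsg.Lie Cfsg.Agent.H129 Cfsg.Agent.H129.WData Cfsg.Agent.H129.TorusMain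
open Cfsg.Agent.Nodes Cfsg.Agent.Tits.Roots Cfsg.Agent.ChevalleyStructure.CoxeterGeomTypes
open Cfsg.Agent.H493 Cfsg.Agent.H493.PGTorus Cfsg.Agent.H493.PGCyc Cfsg.Agent.H168.ExcAdj Cfsg.Agent.H168.TwAdj
open Cfsg.Agent.H420.QR

universe u

/-- the permutation of the simple roots -/
def pi6 : Fin 6 → Fin 6 := ![5, 1, 4, 3, 2, 0]

/-- the permutation of the simple roots -/
def pi4 : Fin 4 → Fin 4 := ![2, 1, 3, 0]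

/-- the prime `r` does not divide `q` and divides the value of the polynomial at `q` -/
def phiT {f : ℕ} (c : Fin f → ℤ) (q : ℕ) : ℕ → Prop := fun r => ¬ r ∣ q ∧ r ≠ 3 ∧ (r : ℤ) ∣ pv c q

theorem lin_six {W : Type*} [Group W] (cs : CoxeterSystem CoxeterMatrix.E₆ W)
    {L : List (Fin 6 × Mat 6)} (hL : ChainOK PGE6.Am L) {Th : Mat 6} (hT : ∀ j, hd L (pi6 j) = Th j) :
    Lin (theta RGDTwE6.hp cs (cs.wordProd (L.map Prod.fst)) TwE6Fr.six) Th := by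
  intro j
  rw [theta_apply]
  have h1 : TwE6Fr.six (sr j) = sr (pi6 j) := funext (TwE6Fr.six_sr j)
  rw [h1, chain_rep RGDTwE6.hp cs PGE6.hA hL, hT]

theorem exists_pe {q : ℕ} (hq : IsPrimePow q) {F : Type u} [Field F] [Fintype F] {m : ℕ}
    (hF : Fintype.card F = q ^ m) : ∃ (p e : ℕ) (_ : Fact p.Prime) (_ : CharP (AlgebraicClosure F) p),
      0 < e ∧ q = p ^ e ∧ Cfsg.Agent.BpExc.TowChev.LocFin (AlgebraicClosure F) := by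
  obtain ⟨p, e', hpF, hpc, hpk, -, hpe, hk⟩ := TorusUntw.exists_closure hF
  obtain ⟨p', e, hp', he, hqe'⟩ := id hq
  have hpp : p' = p := by
    have h1 : p' ∣ p ^ e' := by
      rw [← hpe, ← hqe']
      have hm : m ≠ 0 := by
        rintro rfl
        rw [pow_zero] at hF
        exact Fintype.one_lt_card.ne' hF
      exact dvd_pow (dvd_pow_self p' he.ne') hm
    exact (Nat.prime_dvd_prime_iff_eq hp'.nat_prime hpF.out).1 (hp'.nat_prime.dvd_of_dvd_pow h1)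
  subst hpp
  exact ⟨p', e, hpF, hpk, he, hqe'.symm, hk⟩

theorem ne_of_not_dvd {p e q r : ℕ} (he : 0 < e) (hq : q = p ^ e) (hr : ¬ r ∣ q) : r ≠ p := by
  rintro rfl
  exact hr (by rw [hq]; exact dvd_pow_self _ he.ne')

/-- **Adjacency in `²E₆(q)`.** -/
theorem rel_six {F : Type u} [Field F] [Fintype F] {q : ℕ} (hq : IsPrimePow q) (hF : Fintype.card F = q ^ 2)
    {Ch : List (Fin 6 × Mat 6)} (hL : ChainOK PGE6.Am Ch) {Th : Mat 6} (hT : ∀ j, hd Ch (pi6 j) = Th j)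
    {f : ℕ} {c : Fin (f + 1) → ℤ} {L : Fin (f + 1) → Fin 6 → ℤ} {P : Fin 6 → ℤ} (h : EigOK (tr Th) c L P)
    {f' : ℕ} {c' : Fin (f' + 1) → ℤ} {L' : Fin (f' + 1) → Fin 6 → ℤ} {P' : Fin 6 → ℤ} (h' : EigOK (tr Th) c' L' P')
    {r s : ℕ} (hr : r.Prime) (hs : s.Prime) (hrs : r ≠ s) (h1 : phiT c q r) (h2 : phiT c' q s) :
    PG.Rel ↥(twistedE6 F q) r s := by
  obtain ⟨p, e, hpF, hpk, he, hqe, hk⟩ := exists_pe hq hF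
  have := PGE6.finW
  exact rel_of_fr RGDTwE6.hp CoxeterMatrix.E₆.toCoxeterSystem hk he TwE6Fr.isFrob_tau
    (TwE6Fr.fr_tau CoxeterMatrix.E₆.toCoxeterSystem) TorusChar.invC_E6 (by norm_num)
    (lin_six CoxeterMatrix.E₆.toCoxeterSystem hL hT) h h'
    (TwE6Fr.embT_injective (algebraMap F (AlgebraicClosure F)) (q := q)) (m := 3)
    (fun y hy => TwE6Fr.tau_pow_range _ hqe hq hF hy) hr hs hrs (ne_of_not_dvd he hqe h1.1)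
    (ne_of_not_dvd he hqe h2.1) (fun h3 => h1.2.1 ((Nat.prime_dvd_prime_iff_eq hr Nat.prime_three).1 h3))
    (fun h3 => h2.2.1 ((Nat.prime_dvd_prime_iff_eq hs Nat.prime_three).1 h3))
    (by rw [← hqe]; exact h1.2.2) (by rw [← hqe]; exact h2.2.2)

/-- **Adjacency in `³D₄(q)`.** -/
theorem rel_tri {F : Type u} [Field F] [Fintype F] {q : ℕ} (hq : IsPrimePow q) (hF : Fintype.card F = q ^ 3)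
    {Ch : List (Fin 4 × Mat 4)} (hL : ChainOK DataD4C.Am Ch) {Th : Mat 4} (hT : ∀ j, hd Ch (pi4 j) = Th j)
    {f : ℕ} {c : Fin (f + 1) → ℤ} {L : Fin (f + 1) → Fin 4 → ℤ} {P : Fin 4 → ℤ} (h : EigOK (tr Th) c L P)
    {f' : ℕ} {c' : Fin (f' + 1) → ℤ} {L' : Fin (f' + 1) → Fin 4 → ℤ} {P' : Fin 4 → ℤ} (h' : EigOK (tr Th) c' L' P')
    {r s : ℕ} (hr : r.Prime) (hs : s.Prime) (hrs : r ≠ s) (hrq : ¬ r ∣ q) (hsq : ¬ s ∣ q)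
    (h1 : (r : ℤ) ∣ pv c (q : ℤ)) (h2 : (s : ℤ) ∣ pv c' (q : ℤ)) :
    PG.Rel ↥(twistedD4 F q) r s := by
  obtain ⟨p, e, hpF, hpk, he, hqe, hk⟩ := exists_pe hq hF
  have := TwD4Cyc.finite_W
  exact rel_of_fr RGDTwD4.hp coxeterD4.toCoxeterSystem hk he TriD4.isFrob_tau
    (TriD4.fr_tau coxeterD4.toCoxeterSystem) TorusChar.invC_D4 (by norm_num)
    (TwD4Cyc.lin_tri coxeterD4.toCoxeterSystem DataD4C.hA hL hT) h h'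
    (TriD4.embT_injective (algebraMap F (AlgebraicClosure F)) hq hF) (m := 1)
    (fun y hy => by rw [pow_one]; exact TriD4.tau_range _ hqe hq hF hy) hr hs hrs (ne_of_not_dvd he hqe hrq)
    (ne_of_not_dvd he hqe hsq) (fun h3 => hr.one_lt.ne' (Nat.dvd_one.1 h3))
    (fun h3 => hs.one_lt.ne' (Nat.dvd_one.1 h3))
    (by rw [← hqe]; exact h1) (by rw [← hqe]; exact h2)

/-- partial products -/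
def chE6_18 : List (Fin 6 × Mat 6) := [
    (0, ![![0, 0, 1, 0, 0, 0], ![1, 0, 1, 1, 0, 0], ![0, 1, 0, 1, 0, 0], ![-1, -1, -1, -1, 0, 0], ![1, 1, 1, 1, 1, 0],
      ![0, 0, 0, 0, 0, 1]]),
    (1, ![![1, 0, 1, 0, 0, 0], ![0, 0, 1, 1, 0, 0], ![0, 1, 0, 1, 0, 0], ![0, -1, -1, -1, 0, 0], ![0, 1, 1, 1, 1, 0],
      ![0, 0, 0, 0, 0, 1]]),
    (2, ![![1, 0, 1, 0, 0, 0], ![0, 1, 1, 1, 0, 0], ![0, 0, 0, 1, 0, 0], ![0, 0, -1, -1, 0, 0], ![0, 0, 1, 1, 1, 0],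
      ![0, 0, 0, 0, 0, 1]]),
    (3, ![![1, 0, 0, 0, 0, 0], ![0, 1, 0, 1, 0, 0], ![0, 0, 1, 1, 0, 0], ![0, 0, 0, -1, 0, 0], ![0, 0, 0, 1, 1, 0],
      ![0, 0, 0, 0, 0, 1]])]

theorem chE6_18_ok : ChainOK PGE6.Am chE6_18 :=
  H129.ChainF.ok H129.ChainF.i6 H129.ChainF.m6 (H129.ChainF.c6 <| H129.ChainF.c6 <| H129.ChainF.c6 <| H129.ChainF.c6 <| H129.ChainF.nil) (by decide +kernel)

/-- the matrix of the lattice endomorphism -/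
def ThE6_18 : Mat 6 := ![![0, 0, 0, 0, 0, 1], ![1, 0, 1, 1, 0, 0], ![1, 1, 1, 1, 1, 0], ![-1, -1, -1, -1, 0, 0], ![0, 1, 0, 1, 0, 0],
    ![0, 0, 1, 0, 0, 0]]

theorem thE6_18_eq : ∀ j, hd chE6_18 (pi6 j) = ThE6_18 j := by decide +kernel

/-- the functional -/
def LE6_18_at18 : Fin 6 → Fin 6 → ℤ := ![![0, 0, 0, 0, 0, -1], ![1, 0, -1, 0, 0, 0], ![0, 0, 0, 0, -1, 1], ![0, 0, 1, -1, 0, 1], ![0, 1, 1, -1, 0, 0],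
    ![1, 0, 0, 0, 0, 0]]

/-- the vector -/
def PE6_18_at18 : Fin 6 → ℤ := ![0, -1, 0, -1, -1, -1]

theorem eE6_18_at18 : EigOK (tr ThE6_18) c18 LE6_18_at18 PE6_18_at18 :=
  H493.EigF.ok (H493.EigF.tt ThE6_18 H129.ChainF.m6) H493.EigF.r6 (H493.EigF.mc H493.EigF.r6 <| H493.EigF.mc H493.EigF.r6 <| H493.EigF.mc H493.EigF.r6 <| H493.EigF.mc H493.EigF.r6 <| H493.EigF.mc H493.EigF.r6 <| H493.EigF.mc H493.EigF.r6 <| H493.EigF.m0) H493.EigF.r6 (by decide +kernel)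

/-- partial products -/
def chE6_12_6 : List (Fin 6 × Mat 6) := [
    (3, ![![-1, 0, -1, -1, 0, 0], ![0, -1, 0, -1, 0, 0], ![1, 0, 0, 0, 0, 0], ![0, 1, 1, 2, 1, 0], ![0, 0, 0, 0, 0, 1],
      ![0, 0, 0, -1, -1, -1]]),
    (4, ![![-1, 0, -1, 0, 0, 0], ![0, -1, 0, 0, 0, 0], ![1, 0, 0, 0, 0, 0], ![0, 1, 1, 1, 1, 0], ![0, 0, 0, 0, 0, 1],
      ![0, 0, 0, 0, -1, -1]]),
    (5, ![![-1, 0, -1, 0, 0, 0], ![0, -1, 0, 0, 0, 0], ![1, 0, 0, 0, 0, 0], ![0, 1, 1, 1, 0, 0], ![0, 0, 0, 0, 1, 1],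
      ![0, 0, 0, 0, 0, -1]]),
    (2, ![![-1, 0, -1, 0, 0, 0], ![0, -1, 0, 0, 0, 0], ![1, 0, 0, 0, 0, 0], ![0, 1, 1, 1, 0, 0], ![0, 0, 0, 0, 1, 0],
      ![0, 0, 0, 0, 0, 1]]),
    (1, ![![-1, 0, 0, 0, 0, 0], ![0, -1, 0, 0, 0, 0], ![1, 0, 1, 0, 0, 0], ![0, 1, 0, 1, 0, 0], ![0, 0, 0, 0, 1, 0],
      ![0, 0, 0, 0, 0, 1]]),
    (0, ![![-1, 0, 0, 0, 0, 0], ![0, 1, 0, 0, 0, 0], ![1, 0, 1, 0, 0, 0], ![0, 0, 0, 1, 0, 0], ![0, 0, 0, 0, 1, 0],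
      ![0, 0, 0, 0, 0, 1]])]

theorem chE6_12_6_ok : ChainOK PGE6.Am chE6_12_6 :=
  H129.ChainF.ok H129.ChainF.i6 H129.ChainF.m6 (H129.ChainF.c6 <| H129.ChainF.c6 <| H129.ChainF.c6 <| H129.ChainF.c6 <| H129.ChainF.c6 <| H129.ChainF.c6 <| H129.ChainF.nil) (by decide +kernel)

/-- the matrix of the lattice endomorphism -/
def ThE6_12_6 : Mat 6 := ![![0, 0, 0, -1, -1, -1], ![0, -1, 0, -1, 0, 0], ![0, 0, 0, 0, 0, 1], ![0, 1, 1, 2, 1, 0], ![1, 0, 0, 0, 0, 0],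
    ![-1, 0, -1, -1, 0, 0]]

theorem thE6_12_6_eq : ∀ j, hd chE6_12_6 (pi6 j) = ThE6_12_6 j := by decide +kernel

/-- the functional -/
def LE6_12_6_at12 : Fin 4 → Fin 6 → ℤ := ![![0, 0, -1, 1, -1, 0], ![-1, -1, 0, 1, 0, -1], ![0, -1, 0, 1, 0, 0], ![0, 1, 0, 0, 0, 0]]

/-- the vector -/
def PE6_12_6_at12 : Fin 6 → ℤ := ![0, 0, -1, 0, 0, 0]

theorem eE6_12_6_at12 : EigOK (tr ThE6_12_6) c12 LE6_12_6_at12 PE6_12_6_at12 :=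
  H493.EigF.ok (H493.EigF.tt ThE6_12_6 H129.ChainF.m6) H493.EigF.r4 (H493.EigF.mc H493.EigF.r6 <| H493.EigF.mc H493.EigF.r6 <| H493.EigF.mc H493.EigF.r6 <| H493.EigF.mc H493.EigF.r6 <| H493.EigF.m0) H493.EigF.r6 (by decide +kernel)

/-- the functional -/
def LE6_12_6_at6 : Fin 2 → Fin 6 → ℤ := ![![-1, 0, 1, 0, -1, 1], ![0, 0, -1, 0, 1, 0]]

/-- the vector -/
def PE6_12_6_at6 : Fin 6 → ℤ := ![-1, 0, 0, 0, 0, 0]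

theorem eE6_12_6_at6 : EigOK (tr ThE6_12_6) c6 LE6_12_6_at6 PE6_12_6_at6 :=
  H493.EigF.ok (H493.EigF.tt ThE6_12_6 H129.ChainF.m6) H493.EigF.r2 (H493.EigF.mc H493.EigF.r6 <| H493.EigF.mc H493.EigF.r6 <| H493.EigF.m0) H493.EigF.r6 (by decide +kernel)

/-- partial products -/
def chE6_8_1_2 : List (Fin 6 × Mat 6) := [
    (1, ![![1, 0, 1, 0, 0, 0], ![0, 0, 1, 1, 0, 0], ![0, 1, 0, 1, 0, 0], ![0, -1, -1, -1, 0, 0], ![0, 1, 1, 1, 1, 0],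
      ![0, 0, 0, 0, 0, 1]]),
    (2, ![![1, 0, 1, 0, 0, 0], ![0, 1, 1, 1, 0, 0], ![0, 0, 0, 1, 0, 0], ![0, 0, -1, -1, 0, 0], ![0, 0, 1, 1, 1, 0],
      ![0, 0, 0, 0, 0, 1]]),
    (3, ![![1, 0, 0, 0, 0, 0], ![0, 1, 0, 1, 0, 0], ![0, 0, 1, 1, 0, 0], ![0, 0, 0, -1, 0, 0], ![0, 0, 0, 1, 1, 0],
      ![0, 0, 0, 0, 0, 1]])]

theorem chE6_8_1_2_ok : ChainOK PGE6.Am chE6_8_1_2 :=
  H129.ChainF.ok H129.ChainF.i6 H129.ChainF.m6 (H129.ChainF.c6 <| H129.ChainF.c6 <| H129.ChainF.c6 <| H129.ChainF.nil) (by decide +kernel)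

/-- the matrix of the lattice endomorphism -/
def ThE6_8_1_2 : Mat 6 := ![![0, 0, 0, 0, 0, 1], ![0, 0, 1, 1, 0, 0], ![0, 1, 1, 1, 1, 0], ![0, -1, -1, -1, 0, 0], ![0, 1, 0, 1, 0, 0],
    ![1, 0, 1, 0, 0, 0]]

theorem thE6_8_1_2_eq : ∀ j, hd chE6_8_1_2 (pi6 j) = ThE6_8_1_2 j := by decide +kernel

/-- the functional -/
def LE6_8_1_2_at8 : Fin 4 → Fin 6 → ℤ := ![![-1, -1, 1, 1, -1, 0], ![0, 0, 0, -1, 2, -1], ![0, 1, -1, 1, -1, 0], ![0, -2, 0, 1, 0, 0]]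

/-- the vector -/
def PE6_8_1_2_at8 : Fin 6 → ℤ := ![-1, 0, 0, 0, 0, 0]

theorem eE6_8_1_2_at8 : EigOK (tr ThE6_8_1_2) c8 LE6_8_1_2_at8 PE6_8_1_2_at8 :=
  H493.EigF.ok (H493.EigF.tt ThE6_8_1_2 H129.ChainF.m6) H493.EigF.r4 (H493.EigF.mc H493.EigF.r6 <| H493.EigF.mc H493.EigF.r6 <| H493.EigF.mc H493.EigF.r6 <| H493.EigF.mc H493.EigF.r6 <| H493.EigF.m0) H493.EigF.r6 (by decide +kernel)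

/-- the functional -/
def LE6_8_1_2_at1 : Fin 1 → Fin 6 → ℤ := ![![1, 0, 0, 0, 0, 1]]

/-- the vector -/
def PE6_8_1_2_at1 : Fin 6 → ℤ := ![1, 0, 0, 0, 0, 0]

theorem eE6_8_1_2_at1 : EigOK (tr ThE6_8_1_2) c1 LE6_8_1_2_at1 PE6_8_1_2_at1 :=
  H493.EigF.ok (H493.EigF.tt ThE6_8_1_2 H129.ChainF.m6) H493.EigF.r1 (H493.EigF.mc H493.EigF.r6 <| H493.EigF.m0) H493.EigF.r6 (by decide +kernel)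

/-- the functional -/
def LE6_8_1_2_at2 : Fin 1 → Fin 6 → ℤ := ![![-1, 0, 0, 0, 0, 1]]

/-- the vector -/
def PE6_8_1_2_at2 : Fin 6 → ℤ := ![-1, 0, 0, 0, 0, 0]

theorem eE6_8_1_2_at2 : EigOK (tr ThE6_8_1_2) c2 LE6_8_1_2_at2 PE6_8_1_2_at2 :=
  H493.EigF.ok (H493.EigF.tt ThE6_8_1_2 H129.ChainF.m6) H493.EigF.r1 (H493.EigF.mc H493.EigF.r6 <| H493.EigF.m0) H493.EigF.r6 (by decide +kernel)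

/-- partial products -/
def chE6_10 : List (Fin 6 × Mat 6) := [
    (0, ![![0, 0, 1, 0, 0, 0], ![1, 1, 1, 1, 0, 0], ![0, 0, 0, 1, 0, 0], ![-1, 0, -1, -1, 0, 0], ![1, 0, 1, 1, 1, 0],
      ![0, 0, 0, 0, 0, 1]]),
    (2, ![![1, 0, 1, 0, 0, 0], ![0, 1, 1, 1, 0, 0], ![0, 0, 0, 1, 0, 0], ![0, 0, -1, -1, 0, 0], ![0, 0, 1, 1, 1, 0],
      ![0, 0, 0, 0, 0, 1]]),
    (3, ![![1, 0, 0, 0, 0, 0], ![0, 1, 0, 1, 0, 0], ![0, 0, 1, 1, 0, 0], ![0, 0, 0, -1, 0, 0], ![0, 0, 0, 1, 1, 0],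
      ![0, 0, 0, 0, 0, 1]])]

theorem chE6_10_ok : ChainOK PGE6.Am chE6_10 :=
  H129.ChainF.ok H129.ChainF.i6 H129.ChainF.m6 (H129.ChainF.c6 <| H129.ChainF.c6 <| H129.ChainF.c6 <| H129.ChainF.nil) (by decide +kernel)

/-- the matrix of the lattice endomorphism -/
def ThE6_10 : Mat 6 := ![![0, 0, 0, 0, 0, 1], ![1, 1, 1, 1, 0, 0], ![1, 0, 1, 1, 1, 0], ![-1, 0, -1, -1, 0, 0], ![0, 0, 0, 1, 0, 0],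
    ![0, 0, 1, 0, 0, 0]]

theorem thE6_10_eq : ∀ j, hd chE6_10 (pi6 j) = ThE6_10 j := by decide +kernel

/-- the functional -/
def LE6_10_at10 : Fin 4 → Fin 6 → ℤ := ![![0, 0, 0, 0, -1, 2], ![-1, 0, 2, -1, 1, -2], ![2, -1, -2, 1, 0, 1], ![-2, 0, 1, 0, 0, 0]]

/-- the vector -/
def PE6_10_at10 : Fin 6 → ℤ := ![0, -1, 0, -1, -1, 0]

theorem eE6_10_at10 : EigOK (tr ThE6_10) c10 LE6_10_at10 PE6_10_at10 :=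
  H493.EigF.ok (H493.EigF.tt ThE6_10 H129.ChainF.m6) H493.EigF.r4 (H493.EigF.mc H493.EigF.r6 <| H493.EigF.mc H493.EigF.r6 <| H493.EigF.mc H493.EigF.r6 <| H493.EigF.mc H493.EigF.r6 <| H493.EigF.m0) H493.EigF.r6 (by decide +kernel)

/-- partial products -/
def chE6_4_3 : List (Fin 6 × Mat 6) := [
    (0, ![![-1, 0, 0, 0, 0, 0], ![0, 0, 0, 1, 0, 0], ![1, 1, 1, 1, 0, 0], ![0, -1, 0, -1, 0, 0], ![0, 1, 0, 1, 1, 0],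
      ![0, 0, 0, 0, 0, 1]]),
    (1, ![![1, 0, 0, 0, 0, 0], ![0, 0, 0, 1, 0, 0], ![0, 1, 1, 1, 0, 0], ![0, -1, 0, -1, 0, 0], ![0, 1, 0, 1, 1, 0],
      ![0, 0, 0, 0, 0, 1]]),
    (3, ![![1, 0, 0, 0, 0, 0], ![0, 1, 0, 1, 0, 0], ![0, 0, 1, 1, 0, 0], ![0, 0, 0, -1, 0, 0], ![0, 0, 0, 1, 1, 0],
      ![0, 0, 0, 0, 0, 1]])]

theorem chE6_4_3_ok : ChainOK PGE6.Am chE6_4_3 :=
  H129.ChainF.ok H129.ChainF.i6 H129.ChainF.m6 (H129.ChainF.c6 <| H129.ChainF.c6 <| H129.ChainF.c6 <| H129.ChainF.nil) (by decide +kernel)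

/-- the matrix of the lattice endomorphism -/
def ThE6_4_3 : Mat 6 := ![![0, 0, 0, 0, 0, 1], ![0, 0, 0, 1, 0, 0], ![0, 1, 0, 1, 1, 0], ![0, -1, 0, -1, 0, 0], ![1, 1, 1, 1, 0, 0],
    ![-1, 0, 0, 0, 0, 0]]

theorem thE6_4_3_eq : ∀ j, hd chE6_4_3 (pi6 j) = ThE6_4_3 j := by decide +kernel

/-- the functional -/
def LE6_4_3_at4 : Fin 2 → Fin 6 → ℤ := ![![-2, 0, 1, 0, 0, 0], ![0, 0, 0, 0, 1, -2]]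

/-- the vector -/
def PE6_4_3_at4 : Fin 6 → ℤ := ![0, 0, 1, 0, 0, 0]

theorem eE6_4_3_at4 : EigOK (tr ThE6_4_3) c4 LE6_4_3_at4 PE6_4_3_at4 :=
  H493.EigF.ok (H493.EigF.tt ThE6_4_3 H129.ChainF.m6) H493.EigF.r2 (H493.EigF.mc H493.EigF.r6 <| H493.EigF.mc H493.EigF.r6 <| H493.EigF.m0) H493.EigF.r6 (by decide +kernel)

/-- the functional -/
def LE6_4_3_at3 : Fin 2 → Fin 6 → ℤ := ![![0, -1, -1, 2, -1, 0], ![0, -2, 0, 1, 0, 0]]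

/-- the vector -/
def PE6_4_3_at3 : Fin 6 → ℤ := ![0, -1, -4, -2, 0, 0]

theorem eE6_4_3_at3 : EigOK (tr ThE6_4_3) c3 LE6_4_3_at3 PE6_4_3_at3 :=
  H493.EigF.ok (H493.EigF.tt ThE6_4_3 H129.ChainF.m6) H493.EigF.r2 (H493.EigF.mc H493.EigF.r6 <| H493.EigF.mc H493.EigF.r6 <| H493.EigF.m0) H493.EigF.r6 (by decide +kernel)

/-- partial products -/
def chD4_12 : List (Fin 4 × Mat 4) := [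
    (0, ![![0, 1, 0, 0], ![-1, -1, 0, 0], ![1, 1, 1, 0], ![1, 1, 0, 1]]),
    (1, ![![1, 1, 0, 0], ![0, -1, 0, 0], ![0, 1, 1, 0], ![0, 1, 0, 1]])]

theorem chD4_12_ok : ChainOK DataD4C.Am chD4_12 :=
  H129.ChainF.ok H129.ChainF.i4 H129.ChainF.m4 (H129.ChainF.c4 <| H129.ChainF.c4 <| H129.ChainF.nil) (by decide +kernel)

/-- the matrix of the lattice endomorphism -/
def ThD4_12 : Mat 4 := ![![1, 1, 1, 0], ![-1, -1, 0, 0], ![1, 1, 0, 1], ![0, 1, 0, 0]]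

theorem thD4_12_eq : ∀ j, hd chD4_12 (pi4 j) = ThD4_12 j := by decide +kernel

/-- the functional -/
def LD4_12_at12 : Fin 4 → Fin 4 → ℤ := ![![0, 0, -1, 0], ![0, 0, 0, -1], ![1, -1, 1, 0], ![1, 0, 0, 0]]

/-- the vector -/
def PD4_12_at12 : Fin 4 → ℤ := ![0, -1, -1, 0]

theorem eD4_12_at12 : EigOK (tr ThD4_12) c12 LD4_12_at12 PD4_12_at12 :=
  H493.EigF.ok (H493.EigF.tt ThD4_12 H129.ChainF.m4) H493.EigF.r4 (H493.EigF.mc H493.EigF.r4 <| H493.EigF.mc H493.EigF.r4 <| H493.EigF.mc H493.EigF.r4 <| H493.EigF.mc H493.EigF.r4 <| H493.EigF.m0) H493.EigF.r4 (by decide +kernel)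

/-- partial products -/
def chD4_3_1_2 : List (Fin 4 × Mat 4) := [
    (1, ![![1, 1, 0, 0], ![0, -1, 0, 0], ![0, 1, 1, 0], ![0, 1, 0, 1]])]

theorem chD4_3_1_2_ok : ChainOK DataD4C.Am chD4_3_1_2 :=
  H129.ChainF.ok H129.ChainF.i4 H129.ChainF.m4 (H129.ChainF.c4 <| H129.ChainF.nil) (by decide +kernel)

/-- the matrix of the lattice endomorphism -/
def ThD4_3_1_2 : Mat 4 := ![![0, 1, 1, 0], ![0, -1, 0, 0], ![0, 1, 0, 1], ![1, 1, 0, 0]]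

theorem thD4_3_1_2_eq : ∀ j, hd chD4_3_1_2 (pi4 j) = ThD4_3_1_2 j := by decide +kernel

/-- the functional -/
def LD4_3_1_2_at3 : Fin 2 → Fin 4 → ℤ := ![![0, 0, 1, -1], ![-1, 0, 1, 0]]

/-- the vector -/
def PD4_3_1_2_at3 : Fin 4 → ℤ := ![1, 0, 1, 0]

theorem eD4_3_1_2_at3 : EigOK (tr ThD4_3_1_2) c3 LD4_3_1_2_at3 PD4_3_1_2_at3 :=
  H493.EigF.ok (H493.EigF.tt ThD4_3_1_2 H129.ChainF.m4) H493.EigF.r2 (H493.EigF.mc H493.EigF.r4 <| H493.EigF.mc H493.EigF.r4 <| H493.EigF.m0) H493.EigF.r4 (by decide +kernel)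

/-- the functional -/
def LD4_3_1_2_at1 : Fin 1 → Fin 4 → ℤ := ![![1, 0, 1, 1]]

/-- the vector -/
def PD4_3_1_2_at1 : Fin 4 → ℤ := ![1, 0, 0, 0]

theorem eD4_3_1_2_at1 : EigOK (tr ThD4_3_1_2) c1 LD4_3_1_2_at1 PD4_3_1_2_at1 :=
  H493.EigF.ok (H493.EigF.tt ThD4_3_1_2 H129.ChainF.m4) H493.EigF.r1 (H493.EigF.mc H493.EigF.r4 <| H493.EigF.m0) H493.EigF.r4 (by decide +kernel)

/-- the functional -/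
def LD4_3_1_2_at2 : Fin 1 → Fin 4 → ℤ := ![![1, -2, 1, 1]]

/-- the vector -/
def PD4_3_1_2_at2 : Fin 4 → ℤ := ![1, 0, 0, 0]

theorem eD4_3_1_2_at2 : EigOK (tr ThD4_3_1_2) c2 LD4_3_1_2_at2 PD4_3_1_2_at2 :=
  H493.EigF.ok (H493.EigF.tt ThD4_3_1_2 H129.ChainF.m4) H493.EigF.r1 (H493.EigF.mc H493.EigF.r4 <| H493.EigF.m0) H493.EigF.r4 (by decide +kernel)

/-- partial products -/
def chD4_6 : List (Fin 4 × Mat 4) := [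
    (0, ![![-1, 0, 0, 0], ![1, 1, 0, 0], ![0, 0, 1, 0], ![0, 0, 0, 1]])]

theorem chD4_6_ok : ChainOK DataD4C.Am chD4_6 :=
  H129.ChainF.ok H129.ChainF.i4 H129.ChainF.m4 (H129.ChainF.c4 <| H129.ChainF.nil) (by decide +kernel)

/-- the matrix of the lattice endomorphism -/
def ThD4_6 : Mat 4 := ![![0, 0, 1, 0], ![1, 1, 0, 0], ![0, 0, 0, 1], ![-1, 0, 0, 0]]

theorem thD4_6_eq : ∀ j, hd chD4_6 (pi4 j) = ThD4_6 j := by decide +kernel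

/-- the functional -/
def LD4_6_at6 : Fin 2 → Fin 4 → ℤ := ![![1, -1, 1, 0], ![-1, 0, 0, 1]]

/-- the vector -/
def PD4_6_at6 : Fin 4 → ℤ := ![0, -1, 0, 0]

theorem eD4_6_at6 : EigOK (tr ThD4_6) c6 LD4_6_at6 PD4_6_at6 :=
  H493.EigF.ok (H493.EigF.tt ThD4_6 H129.ChainF.m4) H493.EigF.r2 (H493.EigF.mc H493.EigF.r4 <| H493.EigF.mc H493.EigF.r4 <| H493.EigF.m0) H493.EigF.r4 (by decide +kernel)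

/-- the cliques of `²E₆(q)` -/
def K2E6 (q : ℕ) : List (ℕ → Prop) := [
    phiT c18 q,
    fun r => phiT c12 q r ∨ phiT c6 q r,
    fun r => phiT c8 q r ∨ (phiT c1 q r ∨ phiT c2 q r),
    phiT c10 q,
    fun r => phiT c4 q r ∨ phiT c3 q r]

theorem clique_2E6 (F : Type u) [Field F] [Fintype F] {q : ℕ} (hq : IsPrimePow q) (hF : Fintype.card F = q ^ 2) :
    ∀ C ∈ K2E6 q, Cl ↥(twistedE6 F q) C := by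
  intro C hC
  simp only [K2E6, List.mem_cons, List.not_mem_nil, or_false] at hC
  rcases hC with rfl | rfl | rfl | rfl | rfl
  · exact fun _ _ hr hs hrs h1 h2 => rel_six hq hF chE6_18_ok thE6_18_eq eE6_18_at18 eE6_18_at18 hr hs hrs h1 h2
  · exact Cl.or (fun _ _ hr hs hrs h1 h2 => rel_six hq hF chE6_12_6_ok thE6_12_6_eq eE6_12_6_at12 eE6_12_6_at12 hr hs hrs h1 h2)
      (fun _ _ hr hs hrs h1 h2 => rel_six hq hF chE6_12_6_ok thE6_12_6_eq eE6_12_6_at6 eE6_12_6_at6 hr hs hrs h1 h2)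
      (fun _ _ hr hs hrs h1 h2 => rel_six hq hF chE6_12_6_ok thE6_12_6_eq eE6_12_6_at12 eE6_12_6_at6 hr hs hrs h1 h2)
  · refine Cl.or (fun _ _ hr hs hrs h1 h2 => rel_six hq hF chE6_8_1_2_ok thE6_8_1_2_eq eE6_8_1_2_at8 eE6_8_1_2_at8 hr hs hrs h1 h2)
      (Cl.or (fun _ _ hr hs hrs h1 h2 => rel_six hq hF chE6_8_1_2_ok thE6_8_1_2_eq eE6_8_1_2_at1 eE6_8_1_2_at1 hr hs hrs h1 h2)
        (fun _ _ hr hs hrs h1 h2 => rel_six hq hF chE6_8_1_2_ok thE6_8_1_2_eq eE6_8_1_2_at2 eE6_8_1_2_at2 hr hs hrs h1 h2)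
        (fun _ _ hr hs hrs h1 h2 => rel_six hq hF chE6_8_1_2_ok thE6_8_1_2_eq eE6_8_1_2_at1 eE6_8_1_2_at2 hr hs hrs h1 h2)) ?_
    rintro r s hr hs hrs h1 (h2 | h2)
    · exact rel_six hq hF chE6_8_1_2_ok thE6_8_1_2_eq eE6_8_1_2_at8 eE6_8_1_2_at1 hr hs hrs h1 h2
    · exact rel_six hq hF chE6_8_1_2_ok thE6_8_1_2_eq eE6_8_1_2_at8 eE6_8_1_2_at2 hr hs hrs h1 h2
  · exact fun _ _ hr hs hrs h1 h2 => rel_six hq hF chE6_10_ok thE6_10_eq eE6_10_at10 eE6_10_at10 hr hs hrs h1 h2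
  · exact Cl.or (fun _ _ hr hs hrs h1 h2 => rel_six hq hF chE6_4_3_ok thE6_4_3_eq eE6_4_3_at4 eE6_4_3_at4 hr hs hrs h1 h2)
      (fun _ _ hr hs hrs h1 h2 => rel_six hq hF chE6_4_3_ok thE6_4_3_eq eE6_4_3_at3 eE6_4_3_at3 hr hs hrs h1 h2)
      (fun _ _ hr hs hrs h1 h2 => rel_six hq hF chE6_4_3_ok thE6_4_3_eq eE6_4_3_at4 eE6_4_3_at3 hr hs hrs h1 h2)

theorem cover_2E6 (F : Type u) [Field F] [Fintype F] {q : ℕ} (hq : IsPrimePow q) (hF : Fintype.card F = q ^ 2) :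
    Cover ↥(twistedE6 F q) q 5 := by
  refine cover_of_list (K2E6 q) rfl (fun r hr h3 hrq hd => ?_) (clique_2E6 F hq hF)
  have h := S1066.result hq hF
  have hq0 : 0 < q := hq.pos
  have hdv : (r : ℤ) ∣ ((Nat.card ↥(twistedE6 F q) : ℕ) : ℤ) := Int.natCast_dvd_natCast.2 hd
  replace hdv := hdv.mul_left ((Nat.gcd 3 (q + 1) : ℕ) : ℤ)
  rw [← Nat.cast_mul, h] at hdv
  by_contra hn
  have hr3 : r ≠ 3 := by omega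
  have n1 : ¬ (r : ℤ) ∣ pv c1 (q : ℤ) := fun h => hn ⟨_, .tail _ (.tail _ (.head _)), .inr (.inl ⟨hrq, hr3, h⟩)⟩
  have n2 : ¬ (r : ℤ) ∣ pv c2 (q : ℤ) := fun h => hn ⟨_, .tail _ (.tail _ (.head _)), .inr (.inr ⟨hrq, hr3, h⟩)⟩
  have n3 : ¬ (r : ℤ) ∣ pv c3 (q : ℤ) := fun h => hn ⟨_, .tail _ (.tail _ (.tail _ (.tail _ (.head _)))), .inr ⟨hrq, hr3, h⟩⟩
  have n4 : ¬ (r : ℤ) ∣ pv c4 (q : ℤ) := fun h => hn ⟨_, .tail _ (.tail _ (.tail _ (.tail _ (.head _)))), .inl ⟨hrq, hr3, h⟩⟩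
  have n6 : ¬ (r : ℤ) ∣ pv c6 (q : ℤ) := fun h => hn ⟨_, .tail _ (.head _), .inr ⟨hrq, hr3, h⟩⟩
  have n8 : ¬ (r : ℤ) ∣ pv c8 (q : ℤ) := fun h => hn ⟨_, .tail _ (.tail _ (.head _)), .inl ⟨hrq, hr3, h⟩⟩
  have n10 : ¬ (r : ℤ) ∣ pv c10 (q : ℤ) := fun h => hn ⟨_, .tail _ (.tail _ (.tail _ (.head _))), ⟨hrq, hr3, h⟩⟩
  have n12 : ¬ (r : ℤ) ∣ pv c12 (q : ℤ) := fun h => hn ⟨_, .tail _ (.head _), .inl ⟨hrq, hr3, h⟩⟩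
  have n18 : ¬ (r : ℤ) ∣ pv c18 (q : ℤ) := fun h => hn ⟨_, .head _, ⟨hrq, hr3, h⟩⟩
  have nq : ¬ (r : ℤ) ∣ ((q : ℕ) : ℤ) := fun h' => hrq (Int.natCast_dvd_natCast.1 h')
  have hpr := Nat.prime_iff_prime_int.1 hr
  simp only [Nat.cast_mul, Nat.cast_pow, Nat.cast_add, Nat.cast_one, cast_sub _ _ hq0, f2, f6, f8, f12, g5, g9,
    hpr.dvd_mul] at hdv
  have nqa : ¬ (r : ℤ) ∣ ((q : ℕ) : ℤ) ^ 36 := fun h' => nq (hpr.dvd_of_dvd_pow h')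
  simp only [nqa, n1, n2, n3, n4, n6, n8, n10, n12, n18, or_self] at hdv

/-- the prime divisors, not dividing `q`, of the value of a polynomial -/
def phiD {f : ℕ} (c : Fin f → ℤ) (q : ℕ) : ℕ → Prop := fun r => ¬ r ∣ q ∧ (r : ℤ) ∣ pv c q

/-- the cliques of `³D₄(q)` -/
def K3D4 (q : ℕ) : List (ℕ → Prop) := [
    phiD c12 q,
    fun r => phiD c3 q r ∨ (phiD c1 q r ∨ phiD c2 q r),
    phiD c6 q]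

theorem clique_3D4 (F : Type u) [Field F] [Fintype F] {q : ℕ} (hq : IsPrimePow q) (hF : Fintype.card F = q ^ 3) :
    ∀ C ∈ K3D4 q, Cl ↥(twistedD4 F q) C := by
  intro C hC
  simp only [K3D4, List.mem_cons, List.not_mem_nil, or_false] at hC
  rcases hC with rfl | rfl | rfl
  · exact fun _ _ hr hs hrs h1 h2 => rel_tri hq hF chD4_12_ok thD4_12_eq eD4_12_at12 eD4_12_at12 hr hs hrs h1.1 h2.1 h1.2 h2.2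
  · refine Cl.or (fun _ _ hr hs hrs h1 h2 => rel_tri hq hF chD4_3_1_2_ok thD4_3_1_2_eq eD4_3_1_2_at3 eD4_3_1_2_at3 hr hs hrs h1.1 h2.1 h1.2 h2.2)
      (Cl.or (fun _ _ hr hs hrs h1 h2 => rel_tri hq hF chD4_3_1_2_ok thD4_3_1_2_eq eD4_3_1_2_at1 eD4_3_1_2_at1 hr hs hrs h1.1 h2.1 h1.2 h2.2)
        (fun _ _ hr hs hrs h1 h2 => rel_tri hq hF chD4_3_1_2_ok thD4_3_1_2_eq eD4_3_1_2_at2 eD4_3_1_2_at2 hr hs hrs h1.1 h2.1 h1.2 h2.2)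
        (fun _ _ hr hs hrs h1 h2 => rel_tri hq hF chD4_3_1_2_ok thD4_3_1_2_eq eD4_3_1_2_at1 eD4_3_1_2_at2 hr hs hrs h1.1 h2.1 h1.2 h2.2)) ?_
    rintro r s hr hs hrs h1 (h2 | h2)
    · exact rel_tri hq hF chD4_3_1_2_ok thD4_3_1_2_eq eD4_3_1_2_at3 eD4_3_1_2_at1 hr hs hrs h1.1 h2.1 h1.2 h2.2
    · exact rel_tri hq hF chD4_3_1_2_ok thD4_3_1_2_eq eD4_3_1_2_at3 eD4_3_1_2_at2 hr hs hrs h1.1 h2.1 h1.2 h2.2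
  · exact fun _ _ hr hs hrs h1 h2 => rel_tri hq hF chD4_6_ok thD4_6_eq eD4_6_at6 eD4_6_at6 hr hs hrs h1.1 h2.1 h1.2 h2.2

theorem dvd_3D4 {F : Type u} [Field F] [Fintype F] {q : ℕ} (hq : IsPrimePow q) (hF : Fintype.card F = q ^ 3) {r : ℕ}
    (hr : r.Prime) (hrq : ¬ r ∣ q) (hd : r ∣ Nat.card ↥(twistedD4 F q)) :
    (r : ℤ) ∣ pv c1 (q : ℤ) ∨ (r : ℤ) ∣ pv c2 (q : ℤ) ∨ (r : ℤ) ∣ pv c3 (q : ℤ) ∨ (r : ℤ) ∣ pv c6 (q : ℤ) ∨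
      (r : ℤ) ∣ pv c12 (q : ℤ) := by
  have h := S1067.result hq hF
  have hq0 : 0 < q := hq.pos
  have hdv : (r : ℤ) ∣ ((Nat.card ↥(twistedD4 F q) : ℕ) : ℤ) := Int.natCast_dvd_natCast.2 hd
  rw [h] at hdv
  have nq : ¬ (r : ℤ) ∣ ((q : ℕ) : ℤ) := fun h' => hrq (Int.natCast_dvd_natCast.1 h')
  have hpr := Nat.prime_iff_prime_int.1 hr
  simp only [Nat.cast_mul, Nat.cast_pow, Nat.cast_add, Nat.cast_one, cast_sub _ _ hq0, f2, f6, g8,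
    hpr.dvd_mul] at hdv
  have nqa : ¬ (r : ℤ) ∣ ((q : ℕ) : ℤ) ^ 12 := fun h' => nq (hpr.dvd_of_dvd_pow h')
  simp only [nqa, false_or] at hdv
  (clear * - hdv; tauto)

theorem cover_3D4 (F : Type u) [Field F] [Fintype F] {q : ℕ} (hq : IsPrimePow q) (hF : Fintype.card F = q ^ 3) :
    Cover ↥(twistedD4 F q) q 3 := by
  refine cover_of_list (K3D4 q) rfl (fun r hr _ hrq hd => ?_) (clique_3D4 F hq hF)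
  rcases dvd_3D4 hq hF hr hrq hd with h | h | h | h | h
  · exact ⟨_, .tail _ (.head _), .inr (.inl ⟨hrq, h⟩)⟩
  · exact ⟨_, .tail _ (.head _), .inr (.inr ⟨hrq, h⟩)⟩
  · exact ⟨_, .tail _ (.head _), .inl ⟨hrq, h⟩⟩
  · exact ⟨_, .tail _ (.tail _ (.head _)), ⟨hrq, h⟩⟩
  · exact ⟨_, .head _, ⟨hrq, h⟩⟩

theorem te6_cover {F : Type} [Field F] [Fintype F] {q : ℕ} (hF : Fintype.card F = q ^ 2) (hq : IsPrimePow q) :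
    Cover ↥(Lie.twistedE6 F q) q 5 := cover_2E6 F hq hF

theorem td4_cover {F : Type} [Field F] [Fintype F] {q : ℕ} (hF : Fintype.card F = q ^ 3) (hq : IsPrimePow q) :
    Cover ↥(Lie.twistedD4 F q) q 3 := cover_3D4 F hq hF

end Cfsg.Agent.H168.TwCover
end

private theorem dce_8605af6a7905 : _root_.True := by
  try have : _root_.True := by simp only [_root_.Cfsg.Agent.H168.TwCover.K2E6.eq_1]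
  try have : _root_.True := by simp only [_root_.Cfsg.Agent.H168.TwCover.K3D4.eq_1]
  exact _root_.True.intro
end
end
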